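import Cfsg.Agent.Lib.H17.CosetCert

set_option autoImplicit false
set_option maxRecDepth 100000

/-! # Packed facts, part 3 (generated) -/

namespace Cfsg.Agent.Lib.H12.Co3M.Ct

open Cfsg.Agent.Lib.H17.CosetCert (BT)

/-- part 3 of the packed facts -/
def factTree3 : BT := .node (.node (.node (.node (.node (.node (.node (.node (.node (.node (.node (.node (.leaf 0x0) (.leaf 0x0)) (.node (.leaf 0x0) (.leaf 0x0))) (.node (.node (.leaf 0x0) (.leaf 0x0)) (.node (.leaf 0x0) (.leaf 0x0)))) (.node (.node (.node (.leaf 0x0) (.leaf 0x0)) (.node (.leaf 0x0) (.leaf 0x0))) (.node (.node (.leaf 0x0) (.leaf 0x0)) (.node (.leaf 0x0) (.leaf 0x0))))) (.node (.node (.node (.node (.leaf 0x0) (.leaf 0x0)) (.node (.leaf 0x0) (.leaf 0x0))) (.node (.node (.leaf 0x0) (.leaf 0x0)) (.node (.leaf 0x0) (.leaf 0x0)))) (.node (.node (.node (.leaf 0x0) (.leaf 0x0)) (.node (.leaf 0x0) (.leaf 0x0)))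 (.node (.node (.leaf 0x0) (.leaf 0x0)) (.node (.leaf 0x0) (.leaf 0x0)))))) (.node (.node (.node (.node (.node (.leaf 0x0) (.leaf 0x0)) (.node (.leaf 0x0) (.leaf 0x0))) (.node (.node (.leaf 0x0) (.leaf 0x0)) (.node (.leaf 0x0) (.leaf 0x0)))) (.node (.node (.node (.leaf 0x0) (.leaf 0x0)) (.node (.leaf 0x0) (.leaf 0x0))) (.node (.node (.leaf 0x0) (.leaf 0x0)) (.node (.leaf 0x0) (.leaf 0x0))))) (.node (.node (.node (.node (.leaf 0x0) (.leaf 0x0)) (.node (.leaf 0x0) (.leaf 0x0))) (.node (.node (.leaf 0x0) (.leaf 0x0)) (.node (.leaf 0x0) (.leaf 0x0)))) (.node (.node (.node (.leaf 0x0) (.leaf 0x0)) (.node (.leaf 0x0) (.leaf 0x0))) (.node (.node (.leaf 0x0) (.leaf 0x0)) (.node (.leaf 0x0) (.leaf 0x0))))))) (.node (.node (.node (.node (.node (.node (.leaf 0x0) (.leaf 0x0)) (.node (.leaf 0x0) (.leaf 0x0))) (.node (.node (.leaf 0x0) (.leaf 0x0)) (.node (.leaf 0x0) (.leaf 0x0))))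 (.node (.node (.node (.leaf 0x0) (.leaf 0x0)) (.node (.leaf 0x0) (.leaf 0x0))) (.node (.node (.leaf 0x0) (.leaf 0x0)) (.node (.leaf 0x0) (.leaf 0x0))))) (.node (.node (.node (.node (.leaf 0x0) (.leaf 0x0)) (.node (.leaf 0x0) (.leaf 0x0))) (.node (.node (.leaf 0x0) (.leaf 0x0)) (.node (.leaf 0x0) (.leaf 0x0)))) (.node (.node (.node (.leaf 0x0) (.leaf 0x0)) (.node (.leaf 0x0) (.leaf 0x0))) (.node (.node (.leaf 0x0) (.leaf 0x0)) (.node (.leaf 0x0) (.leaf 0x0)))))) (.node (.node (.node (.node (.node (.leaf 0x0) (.leaf 0x0)) (.node (.leaf 0x0) (.leaf 0x0))) (.node (.node (.leaf 0x0) (.leaf 0x0)) (.node (.leaf 0x0) (.leaf 0x0)))) (.node (.node (.node (.leaf 0x0) (.leaf 0x0)) (.node (.leaf 0x0) (.leaf 0x0))) (.node (.node (.leaf 0x0) (.leaf 0x0)) (.node (.leaf 0x0) (.leaf 0x0))))) (.node (.node (.node (.node (.leaf 0x0) (.leaf 0x0)) (.node (.leaf 0x0) (.leaf 0x0))) (.node (.node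 (.leaf 0x0) (.leaf 0x0)) (.node (.leaf 0x0) (.leaf 0x0)))) (.node (.node (.node (.leaf 0x0) (.leaf 0x0)) (.node (.leaf 0x0) (.leaf 0x0))) (.node (.node (.leaf 0x0) (.leaf 0x0)) (.node (.leaf 0x0) (.leaf 0x0)))))))) (.node (.node (.node (.node (.node (.node (.node (.leaf 0x0) (.leaf 0x0)) (.node (.leaf 0x0) (.leaf 0x0))) (.node (.node (.leaf 0x0) (.leaf 0x0)) (.node (.leaf 0x0) (.leaf 0x0)))) (.node (.node (.node (.leaf 0x0) (.leaf 0x0)) (.node (.leaf 0x0) (.leaf 0x0))) (.node (.node (.leaf 0x0) (.leaf 0x0)) (.node (.leaf 0x0) (.leaf 0x0))))) (.node (.node (.node (.node (.leaf 0x0) (.leaf 0x0)) (.node (.leaf 0x0) (.leaf 0x0))) (.node (.node (.leaf 0x0) (.leaf 0x0)) (.node (.leaf 0x0) (.leaf 0x0)))) (.node (.node (.node (.leaf 0x0) (.leaf 0x0)) (.node (.leaf 0x0) (.leaf 0x0))) (.node (.node (.leaf 0x0) (.leaf 0x0)) (.node (.leaf 0x0) (.leaf 0x0)))))) (.node (.node (.node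 (.node (.node (.leaf 0x0) (.leaf 0x0)) (.node (.leaf 0x0) (.leaf 0x0))) (.node (.node (.leaf 0x0) (.leaf 0x0)) (.node (.leaf 0x0) (.leaf 0x0)))) (.node (.node (.node (.leaf 0x0) (.leaf 0x0)) (.node (.leaf 0x0) (.leaf 0x0))) (.node (.node (.leaf 0x0) (.leaf 0x0)) (.node (.leaf 0x0) (.leaf 0x0))))) (.node (.node (.node (.node (.leaf 0x0) (.leaf 0x0)) (.node (.leaf 0x0) (.leaf 0x0))) (.node (.node (.leaf 0x0) (.leaf 0x0)) (.node (.leaf 0x0) (.leaf 0x0)))) (.node (.node (.node (.leaf 0x0) (.leaf 0x0)) (.node (.leaf 0x0) (.leaf 0x0))) (.node (.node (.leaf 0x0) (.leaf 0x0)) (.node (.leaf 0x0) (.leaf 0x0))))))) (.node (.node (.node (.node (.node (.node (.leaf 0x0) (.leaf 0x0)) (.node (.leaf 0x0) (.leaf 0x0))) (.node (.node (.leaf 0x0) (.leaf 0x0)) (.node (.leaf 0x0) (.leaf 0x0)))) (.node (.node (.node (.leaf 0x0) (.leaf 0x0)) (.node (.leaf 0x0) (.leaf 0x0))) (.node (.node (.leaf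 0x0) (.leaf 0x0)) (.node (.leaf 0x0) (.leaf 0x0))))) (.node (.node (.node (.node (.leaf 0x0) (.leaf 0x0)) (.node (.leaf 0x0) (.leaf 0x0))) (.node (.node (.leaf 0x0) (.leaf 0x0)) (.node (.leaf 0x0) (.leaf 0x0)))) (.node (.node (.node (.leaf 0x0) (.leaf 0x0)) (.node (.leaf 0x0) (.leaf 0x0))) (.node (.node (.leaf 0x0) (.leaf 0x0)) (.node (.leaf 0x0) (.leaf 0x0)))))) (.node (.node (.node (.node (.node (.leaf 0x0) (.leaf 0x0)) (.node (.leaf 0x0) (.leaf 0x0))) (.node (.node (.leaf 0x0) (.leaf 0x0)) (.node (.leaf 0x0) (.leaf 0x0)))) (.node (.node (.node (.leaf 0x0) (.leaf 0x0)) (.node (.leaf 0x0) (.leaf 0x0))) (.node (.node (.leaf 0x0) (.leaf 0x0)) (.node (.leaf 0x0) (.leaf 0x0))))) (.node (.node (.node (.node (.leaf 0x0) (.leaf 0x0)) (.node (.leaf 0x0) (.leaf 0x0))) (.node (.node (.leaf 0x0) (.leaf 0x0)) (.node (.leaf 0x0) (.leaf 0x0)))) (.node (.node (.node (.leaf 0x0) (.leaf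 0x0)) (.node (.leaf 0x0) (.leaf 0x0))) (.node (.node (.leaf 0x0) (.leaf 0x0)) (.node (.leaf 0x0) (.leaf 0x0))))))))) (.node (.node (.node (.node (.node (.node (.node (.node (.leaf 0x0) (.leaf 0x0)) (.node (.leaf 0x0) (.leaf 0x0))) (.node (.node (.leaf 0x0) (.leaf 0x0)) (.node (.leaf 0x0) (.leaf 0x0)))) (.node (.node (.node (.leaf 0x0) (.leaf 0x0)) (.node (.leaf 0x0) (.leaf 0x0))) (.node (.node (.leaf 0x0) (.leaf 0x0)) (.node (.leaf 0x0) (.leaf 0x0))))) (.node (.node (.node (.node (.leaf 0x0) (.leaf 0x0)) (.node (.leaf 0x0) (.leaf 0x0))) (.node (.node (.leaf 0x0) (.leaf 0x0)) (.node (.leaf 0x0) (.leaf 0x0)))) (.node (.node (.node (.leaf 0x0) (.leaf 0x0)) (.node (.leaf 0x0) (.leaf 0x0))) (.node (.node (.leaf 0x0) (.leaf 0x0)) (.node (.leaf 0x0) (.leaf 0x0)))))) (.node (.node (.node (.node (.node (.leaf 0x0) (.leaf 0x0)) (.node (.leaf 0x0) (.leaf 0x0))) (.node (.node (.leaf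 0x0) (.leaf 0x0)) (.node (.leaf 0x0) (.leaf 0x0)))) (.node (.node (.node (.leaf 0x0) (.leaf 0x0)) (.node (.leaf 0x0) (.leaf 0x0))) (.node (.node (.leaf 0x0) (.leaf 0x0)) (.node (.leaf 0x0) (.leaf 0x0))))) (.node (.node (.node (.node (.leaf 0x0) (.leaf 0x0)) (.node (.leaf 0x0) (.leaf 0x0))) (.node (.node (.leaf 0x0) (.leaf 0x0)) (.node (.leaf 0x0) (.leaf 0x0)))) (.node (.node (.node (.leaf 0x0) (.leaf 0x0)) (.node (.leaf 0x0) (.leaf 0x0))) (.node (.node (.leaf 0x0) (.leaf 0x0)) (.node (.leaf 0x0) (.leaf 0x0))))))) (.node (.node (.node (.node (.node (.node (.leaf 0x0) (.leaf 0x0)) (.node (.leaf 0x0) (.leaf 0x0))) (.node (.node (.leaf 0x0) (.leaf 0x0)) (.node (.leaf 0x0) (.leaf 0x0)))) (.node (.node (.node (.leaf 0x0) (.leaf 0x0)) (.node (.leaf 0x0) (.leaf 0x0))) (.node (.node (.leaf 0x0) (.leaf 0x0)) (.node (.leaf 0x0) (.leaf 0x0))))) (.node (.node (.node (.node (.leaf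 0x0) (.leaf 0x0)) (.node (.leaf 0x0) (.leaf 0x0))) (.node (.node (.leaf 0x0) (.leaf 0x0)) (.node (.leaf 0x0) (.leaf 0x0)))) (.node (.node (.node (.leaf 0x0) (.leaf 0x0)) (.node (.leaf 0x0) (.leaf 0x0))) (.node (.node (.leaf 0x0) (.leaf 0x0)) (.node (.leaf 0x0) (.leaf 0x0)))))) (.node (.node (.node (.node (.node (.leaf 0x0) (.leaf 0x0)) (.node (.leaf 0x0) (.leaf 0x0))) (.node (.node (.leaf 0x0) (.leaf 0x0)) (.node (.leaf 0x0) (.leaf 0x0)))) (.node (.node (.node (.leaf 0x0) (.leaf 0x0)) (.node (.leaf 0x0) (.leaf 0x0))) (.node (.node (.leaf 0x0) (.leaf 0x0)) (.node (.leaf 0x0) (.leaf 0x0))))) (.node (.node (.node (.node (.leaf 0x0) (.leaf 0x0)) (.node (.leaf 0x0) (.leaf 0x0))) (.node (.node (.leaf 0x0) (.leaf 0x0)) (.node (.leaf 0x0) (.leaf 0x0)))) (.node (.node (.node (.leaf 0x0) (.leaf 0x0)) (.node (.leaf 0x0) (.leaf 0x0))) (.node (.node (.leaf 0x0) (.leaf 0x0)) (.node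 (.leaf 0x0) (.leaf 0x0)))))))) (.node (.node (.node (.node (.node (.node (.node (.leaf 0x0) (.leaf 0x0)) (.node (.leaf 0x0) (.leaf 0x0))) (.node (.node (.leaf 0x0) (.leaf 0x0)) (.node (.leaf 0x0) (.leaf 0x0)))) (.node (.node (.node (.leaf 0x0) (.leaf 0x0)) (.node (.leaf 0x0) (.leaf 0x0))) (.node (.node (.leaf 0x0) (.leaf 0x0)) (.node (.leaf 0x0) (.leaf 0x0))))) (.node (.node (.node (.node (.leaf 0x0) (.leaf 0x0)) (.node (.leaf 0x0) (.leaf 0x0))) (.node (.node (.leaf 0x0) (.leaf 0x0)) (.node (.leaf 0x0) (.leaf 0x0)))) (.node (.node (.node (.leaf 0x0) (.leaf 0x0)) (.node (.leaf 0x0) (.leaf 0x0))) (.node (.node (.leaf 0x0) (.leaf 0x0)) (.node (.leaf 0x0) (.leaf 0x0)))))) (.node (.node (.node (.node (.node (.leaf 0x0) (.leaf 0x0)) (.node (.leaf 0x0) (.leaf 0x0))) (.node (.node (.leaf 0x0) (.leaf 0x0)) (.node (.leaf 0x0) (.leaf 0x0)))) (.node (.node (.node (.leaf 0x0) (.leaf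 0x0)) (.node (.leaf 0x0) (.leaf 0x0))) (.node (.node (.leaf 0x0) (.leaf 0x0)) (.node (.leaf 0x0) (.leaf 0x0))))) (.node (.node (.node (.node (.leaf 0x0) (.leaf 0x0)) (.node (.leaf 0x0) (.leaf 0x0))) (.node (.node (.leaf 0x0) (.leaf 0x0)) (.node (.leaf 0x0) (.leaf 0x0)))) (.node (.node (.node (.leaf 0x0) (.leaf 0x0)) (.node (.leaf 0x0) (.leaf 0x0))) (.node (.node (.leaf 0x0) (.leaf 0x0)) (.node (.leaf 0x0) (.leaf 0x0))))))) (.node (.node (.node (.node (.node (.node (.leaf 0x0) (.leaf 0x0)) (.node (.leaf 0x0) (.leaf 0x0))) (.node (.node (.leaf 0x0) (.leaf 0x0)) (.node (.leaf 0x0) (.leaf 0x0)))) (.node (.node (.node (.leaf 0x0) (.leaf 0x0)) (.node (.leaf 0x0) (.leaf 0x0))) (.node (.node (.leaf 0x0) (.leaf 0x0)) (.node (.leaf 0x0) (.leaf 0x0))))) (.node (.node (.node (.node (.leaf 0x0) (.leaf 0x0)) (.node (.leaf 0x0) (.leaf 0x0))) (.node (.node (.leaf 0x0) (.leaf 0x0)) (.node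 (.leaf 0x0) (.leaf 0x0)))) (.node (.node (.node (.leaf 0x0) (.leaf 0x0)) (.node (.leaf 0x0) (.leaf 0x0))) (.node (.node (.leaf 0x0) (.leaf 0x0)) (.node (.leaf 0x0) (.leaf 0x0)))))) (.node (.node (.node (.node (.node (.leaf 0x0) (.leaf 0x0)) (.node (.leaf 0x0) (.leaf 0x0))) (.node (.node (.leaf 0x0) (.leaf 0x0)) (.node (.leaf 0x0) (.leaf 0x0)))) (.node (.node (.node (.leaf 0x0) (.leaf 0x0)) (.node (.leaf 0x0) (.leaf 0x0))) (.node (.node (.leaf 0x0) (.leaf 0x0)) (.node (.leaf 0x0) (.leaf 0x0))))) (.node (.node (.node (.node (.leaf 0x0) (.leaf 0x0)) (.node (.leaf 0x0) (.leaf 0x0))) (.node (.node (.leaf 0x0) (.leaf 0x0)) (.node (.leaf 0x0) (.leaf 0x0)))) (.node (.node (.node (.leaf 0x0) (.leaf 0x0)) (.node (.leaf 0x0) (.leaf 0x0))) (.node (.node (.leaf 0x0) (.leaf 0x0)) (.node (.leaf 0x0) (.leaf 0x0)))))))))) (.node (.node (.node (.node (.node (.node (.node (.node (.node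 (.leaf 0x0) (.leaf 0x0)) (.node (.leaf 0x0) (.leaf 0x0))) (.node (.node (.leaf 0x0) (.leaf 0x0)) (.node (.leaf 0x0) (.leaf 0x0)))) (.node (.node (.node (.leaf 0x0) (.leaf 0x0)) (.node (.leaf 0x0) (.leaf 0x0))) (.node (.node (.leaf 0x0) (.leaf 0x0)) (.node (.leaf 0x0) (.leaf 0x0))))) (.node (.node (.node (.node (.leaf 0x0) (.leaf 0x0)) (.node (.leaf 0x0) (.leaf 0x0))) (.node (.node (.leaf 0x0) (.leaf 0x0)) (.node (.leaf 0x0) (.leaf 0x0)))) (.node (.node (.node (.leaf 0x0) (.leaf 0x0)) (.node (.leaf 0x0) (.leaf 0x0))) (.node (.node (.leaf 0x0) (.leaf 0x0)) (.node (.leaf 0x0) (.leaf 0x0)))))) (.node (.node (.node (.node (.node (.leaf 0x0) (.leaf 0x0)) (.node (.leaf 0x0) (.leaf 0x0))) (.node (.node (.leaf 0x0) (.leaf 0x0)) (.node (.leaf 0x0) (.leaf 0x0)))) (.node (.node (.node (.leaf 0x0) (.leaf 0x0)) (.node (.leaf 0x0) (.leaf 0x0))) (.node (.node (.leaf 0x0) (.leaf 0x0))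 (.node (.leaf 0x0) (.leaf 0x0))))) (.node (.node (.node (.node (.leaf 0x0) (.leaf 0x0)) (.node (.leaf 0x0) (.leaf 0x0))) (.node (.node (.leaf 0x0) (.leaf 0x0)) (.node (.leaf 0x0) (.leaf 0x0)))) (.node (.node (.node (.leaf 0x0) (.leaf 0x0)) (.node (.leaf 0x0) (.leaf 0x0))) (.node (.node (.leaf 0x0) (.leaf 0x0)) (.node (.leaf 0x0) (.leaf 0x0))))))) (.node (.node (.node (.node (.node (.node (.leaf 0x0) (.leaf 0x0)) (.node (.leaf 0x0) (.leaf 0x0))) (.node (.node (.leaf 0x0) (.leaf 0x0)) (.node (.leaf 0x0) (.leaf 0x0)))) (.node (.node (.node (.leaf 0x0) (.leaf 0x0)) (.node (.leaf 0x0) (.leaf 0x0))) (.node (.node (.leaf 0x0) (.leaf 0x0)) (.node (.leaf 0x0) (.leaf 0x0))))) (.node (.node (.node (.node (.leaf 0x0) (.leaf 0x0)) (.node (.leaf 0x0) (.leaf 0x0))) (.node (.node (.leaf 0x0) (.leaf 0x0)) (.node (.leaf 0x0) (.leaf 0x0)))) (.node (.node (.node (.leaf 0x0) (.leaf 0x0))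 (.node (.leaf 0x0) (.leaf 0x0))) (.node (.node (.leaf 0x0) (.leaf 0x0)) (.node (.leaf 0x0) (.leaf 0x0)))))) (.node (.node (.node (.node (.node (.leaf 0x0) (.leaf 0x0)) (.node (.leaf 0x0) (.leaf 0x0))) (.node (.node (.leaf 0x0) (.leaf 0x0)) (.node (.leaf 0x0) (.leaf 0x0)))) (.node (.node (.node (.leaf 0x0) (.leaf 0x0)) (.node (.leaf 0x0) (.leaf 0x0))) (.node (.node (.leaf 0x0) (.leaf 0x0)) (.node (.leaf 0x0) (.leaf 0x0))))) (.node (.node (.node (.node (.leaf 0x0) (.leaf 0x0)) (.node (.leaf 0x0) (.leaf 0x0))) (.node (.node (.leaf 0x0) (.leaf 0x0)) (.node (.leaf 0x0) (.leaf 0x0)))) (.node (.node (.node (.leaf 0x0) (.leaf 0x0)) (.node (.leaf 0x0) (.leaf 0x0))) (.node (.node (.leaf 0x0) (.leaf 0x0)) (.node (.leaf 0x0) (.leaf 0x0)))))))) (.node (.node (.node (.node (.node (.node (.node (.leaf 0x0) (.leaf 0x0)) (.node (.leaf 0x0) (.leaf 0x0))) (.node (.node (.leaf 0x0) (.leaf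 0x0)) (.node (.leaf 0x0) (.leaf 0x0)))) (.node (.node (.node (.leaf 0x0) (.leaf 0x0)) (.node (.leaf 0x0) (.leaf 0x0))) (.node (.node (.leaf 0x0) (.leaf 0x0)) (.node (.leaf 0x0) (.leaf 0x0))))) (.node (.node (.node (.node (.leaf 0x0) (.leaf 0x0)) (.node (.leaf 0x0) (.leaf 0x0))) (.node (.node (.leaf 0x0) (.leaf 0x0)) (.node (.leaf 0x0) (.leaf 0x0)))) (.node (.node (.node (.leaf 0x0) (.leaf 0x0)) (.node (.leaf 0x0) (.leaf 0x0))) (.node (.node (.leaf 0x0) (.leaf 0x0)) (.node (.leaf 0x0) (.leaf 0x0)))))) (.node (.node (.node (.node (.node (.leaf 0x0) (.leaf 0x0)) (.node (.leaf 0x0) (.leaf 0x0))) (.node (.node (.leaf 0x0) (.leaf 0x0)) (.node (.leaf 0x0) (.leaf 0x0)))) (.node (.node (.node (.leaf 0x0) (.leaf 0x0)) (.node (.leaf 0x0) (.leaf 0x0))) (.node (.node (.leaf 0x0) (.leaf 0x0)) (.node (.leaf 0x0) (.leaf 0x0))))) (.node (.node (.node (.node (.leaf 0x0) (.leaf 0x0)) (.node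 (.leaf 0x0) (.leaf 0x0))) (.node (.node (.leaf 0x0) (.leaf 0x0)) (.node (.leaf 0x0) (.leaf 0x0)))) (.node (.node (.node (.leaf 0x0) (.leaf 0x0)) (.node (.leaf 0x0) (.leaf 0x0))) (.node (.node (.leaf 0x0) (.leaf 0x0)) (.node (.leaf 0x0) (.leaf 0x0))))))) (.node (.node (.node (.node (.node (.node (.leaf 0x0) (.leaf 0x0)) (.node (.leaf 0x0) (.leaf 0x0))) (.node (.node (.leaf 0x0) (.leaf 0x0)) (.node (.leaf 0x0) (.leaf 0x0)))) (.node (.node (.node (.leaf 0x0) (.leaf 0x0)) (.node (.leaf 0x0) (.leaf 0x0))) (.node (.node (.leaf 0x0) (.leaf 0x0)) (.node (.leaf 0x0) (.leaf 0x0))))) (.node (.node (.node (.node (.leaf 0x0) (.leaf 0x0)) (.node (.leaf 0x0) (.leaf 0x0))) (.node (.node (.leaf 0x0) (.leaf 0x0)) (.node (.leaf 0x0) (.leaf 0x0)))) (.node (.node (.node (.leaf 0x0) (.leaf 0x0)) (.node (.leaf 0x0) (.leaf 0x0))) (.node (.node (.leaf 0x0) (.leaf 0x0)) (.node (.leaf 0x0) (.leaf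 0x0)))))) (.node (.node (.node (.node (.node (.leaf 0x0) (.leaf 0x0)) (.node (.leaf 0x0) (.leaf 0x0))) (.node (.node (.leaf 0x0) (.leaf 0x0)) (.node (.leaf 0x0) (.leaf 0x0)))) (.node (.node (.node (.leaf 0x0) (.leaf 0x0)) (.node (.leaf 0x0) (.leaf 0x0))) (.node (.node (.leaf 0x0) (.leaf 0x0)) (.node (.leaf 0x0) (.leaf 0x0))))) (.node (.node (.node (.node (.leaf 0x0) (.leaf 0x0)) (.node (.leaf 0x0) (.leaf 0x0))) (.node (.node (.leaf 0x0) (.leaf 0x0)) (.node (.leaf 0x0) (.leaf 0x0)))) (.node (.node (.node (.leaf 0x0) (.leaf 0x0)) (.node (.leaf 0x0) (.leaf 0x0))) (.node (.node (.leaf 0x0) (.leaf 0x0)) (.node (.leaf 0x0) (.leaf 0x0))))))))) (.node (.node (.node (.node (.node (.node (.node (.node (.leaf 0x0) (.leaf 0x0)) (.node (.leaf 0x0) (.leaf 0x0))) (.node (.node (.leaf 0x0) (.leaf 0x0)) (.node (.leaf 0x0) (.leaf 0x0)))) (.node (.node (.node (.leaf 0x0) (.leaf 0x0)) (.node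 (.leaf 0x0) (.leaf 0x0))) (.node (.node (.leaf 0x0) (.leaf 0x0)) (.node (.leaf 0x0) (.leaf 0x0))))) (.node (.node (.node (.node (.leaf 0x0) (.leaf 0x0)) (.node (.leaf 0x0) (.leaf 0x0))) (.node (.node (.leaf 0x0) (.leaf 0x0)) (.node (.leaf 0x0) (.leaf 0x0)))) (.node (.node (.node (.leaf 0x0) (.leaf 0x0)) (.node (.leaf 0x0) (.leaf 0x0))) (.node (.node (.leaf 0x0) (.leaf 0x0)) (.node (.leaf 0x0) (.leaf 0x0)))))) (.node (.node (.node (.node (.node (.leaf 0x0) (.leaf 0x0)) (.node (.leaf 0x0) (.leaf 0x0))) (.node (.node (.leaf 0x0) (.leaf 0x0)) (.node (.leaf 0x0) (.leaf 0x0)))) (.node (.node (.node (.leaf 0x0) (.leaf 0x0)) (.node (.leaf 0x0) (.leaf 0x0))) (.node (.node (.leaf 0x0) (.leaf 0x0)) (.node (.leaf 0x0) (.leaf 0x0))))) (.node (.node (.node (.node (.leaf 0x0) (.leaf 0x0)) (.node (.leaf 0x0) (.leaf 0x0))) (.node (.node (.leaf 0x0) (.leaf 0x0)) (.node (.leaf 0x0) (.leaf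 0x0)))) (.node (.node (.node (.leaf 0x0) (.leaf 0x0)) (.node (.leaf 0x0) (.leaf 0x0))) (.node (.node (.leaf 0x0) (.leaf 0x0)) (.node (.leaf 0x0) (.leaf 0x0))))))) (.node (.node (.node (.node (.node (.node (.leaf 0x0) (.leaf 0x0)) (.node (.leaf 0x0) (.leaf 0x0))) (.node (.node (.leaf 0x0) (.leaf 0x0)) (.node (.leaf 0x0) (.leaf 0x0)))) (.node (.node (.node (.leaf 0x0) (.leaf 0x0)) (.node (.leaf 0x0) (.leaf 0x0))) (.node (.node (.leaf 0x0) (.leaf 0x0)) (.node (.leaf 0x0) (.leaf 0x0))))) (.node (.node (.node (.node (.leaf 0x0) (.leaf 0x0)) (.node (.leaf 0x0) (.leaf 0x0))) (.node (.node (.leaf 0x0) (.leaf 0x0)) (.node (.leaf 0x0) (.leaf 0x0)))) (.node (.node (.node (.leaf 0x0) (.leaf 0x0)) (.node (.leaf 0x0) (.leaf 0x0))) (.node (.node (.leaf 0x0) (.leaf 0x0)) (.node (.leaf 0x0) (.leaf 0x0)))))) (.node (.node (.node (.node (.node (.leaf 0x0) (.leaf 0x0)) (.node (.leaf 0x0)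 (.leaf 0x0))) (.node (.node (.leaf 0x0) (.leaf 0x0)) (.node (.leaf 0x0) (.leaf 0x0)))) (.node (.node (.node (.leaf 0x0) (.leaf 0x0)) (.node (.leaf 0x0) (.leaf 0x0))) (.node (.node (.leaf 0x0) (.leaf 0x0)) (.node (.leaf 0x0) (.leaf 0x0))))) (.node (.node (.node (.node (.leaf 0x0) (.leaf 0x0)) (.node (.leaf 0x0) (.leaf 0x0))) (.node (.node (.leaf 0x0) (.leaf 0x0)) (.node (.leaf 0x0) (.leaf 0x0)))) (.node (.node (.node (.leaf 0x0) (.leaf 0x0)) (.node (.leaf 0x0) (.leaf 0x0))) (.node (.node (.leaf 0x0) (.leaf 0x0)) (.node (.leaf 0x0) (.leaf 0x0)))))))) (.node (.node (.node (.node (.node (.node (.node (.leaf 0x0) (.leaf 0x0)) (.node (.leaf 0x0) (.leaf 0x0))) (.node (.node (.leaf 0x0) (.leaf 0x0)) (.node (.leaf 0x0) (.leaf 0x0)))) (.node (.node (.node (.leaf 0x0) (.leaf 0x0)) (.node (.leaf 0x0) (.leaf 0x0))) (.node (.node (.leaf 0x0) (.leaf 0x0)) (.node (.leaf 0x0) (.leaf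 0x0))))) (.node (.node (.node (.node (.leaf 0x0) (.leaf 0x0)) (.node (.leaf 0x0) (.leaf 0x0))) (.node (.node (.leaf 0x0) (.leaf 0x0)) (.node (.leaf 0x0) (.leaf 0x0)))) (.node (.node (.node (.leaf 0x0) (.leaf 0x0)) (.node (.leaf 0x0) (.leaf 0x0))) (.node (.node (.leaf 0x0) (.leaf 0x0)) (.node (.leaf 0x0) (.leaf 0x0)))))) (.node (.node (.node (.node (.node (.leaf 0x0) (.leaf 0x0)) (.node (.leaf 0x0) (.leaf 0x0))) (.node (.node (.leaf 0x0) (.leaf 0x0)) (.node (.leaf 0x0) (.leaf 0x0)))) (.node (.node (.node (.leaf 0x0) (.leaf 0x0)) (.node (.leaf 0x0) (.leaf 0x0))) (.node (.node (.leaf 0x0) (.leaf 0x0)) (.node (.leaf 0x0) (.leaf 0x0))))) (.node (.node (.node (.node (.leaf 0x0) (.leaf 0x0)) (.node (.leaf 0x0) (.leaf 0x0))) (.node (.node (.leaf 0x0) (.leaf 0x0)) (.node (.leaf 0x0) (.leaf 0x0)))) (.node (.node (.node (.leaf 0x0) (.leaf 0x0)) (.node (.leaf 0x0) (.leaf 0x0)))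 (.node (.node (.leaf 0x0) (.leaf 0x0)) (.node (.leaf 0x0) (.leaf 0x0))))))) (.node (.node (.node (.node (.node (.node (.leaf 0x0) (.leaf 0x0)) (.node (.leaf 0x0) (.leaf 0x0))) (.node (.node (.leaf 0x0) (.leaf 0x0)) (.node (.leaf 0x0) (.leaf 0x0)))) (.node (.node (.node (.leaf 0x0) (.leaf 0x0)) (.node (.leaf 0x0) (.leaf 0x0))) (.node (.node (.leaf 0x0) (.leaf 0x0)) (.node (.leaf 0x0) (.leaf 0x0))))) (.node (.node (.node (.node (.leaf 0x0) (.leaf 0x0)) (.node (.leaf 0x0) (.leaf 0x0))) (.node (.node (.leaf 0x0) (.leaf 0x0)) (.node (.leaf 0x0) (.leaf 0x0)))) (.node (.node (.node (.leaf 0x0) (.leaf 0x0)) (.node (.leaf 0x0) (.leaf 0x0))) (.node (.node (.leaf 0x0) (.leaf 0x0)) (.node (.leaf 0x0) (.leaf 0x0)))))) (.node (.node (.node (.node (.node (.leaf 0x0) (.leaf 0x0)) (.node (.leaf 0x0) (.leaf 0x0))) (.node (.node (.leaf 0x0) (.leaf 0x0)) (.node (.leaf 0x0) (.leaf 0x0))))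 (.node (.node (.node (.leaf 0x0) (.leaf 0x0)) (.node (.leaf 0x0) (.leaf 0x0))) (.node (.node (.leaf 0x0) (.leaf 0x0)) (.node (.leaf 0x0) (.leaf 0x0))))) (.node (.node (.node (.node (.leaf 0x0) (.leaf 0x0)) (.node (.leaf 0x0) (.leaf 0x0))) (.node (.node (.leaf 0x0) (.leaf 0x0)) (.node (.leaf 0x0) (.leaf 0x0)))) (.node (.node (.node (.leaf 0x0) (.leaf 0x0)) (.node (.leaf 0x0) (.leaf 0x0))) (.node (.node (.leaf 0x0) (.leaf 0x0)) (.node (.leaf 0x0) (.leaf 0x0))))))))))) (.node (.node (.node (.node (.node (.node (.node (.node (.node (.node (.leaf 0x0) (.leaf 0x0)) (.node (.leaf 0x0) (.leaf 0x0))) (.node (.node (.leaf 0x0) (.leaf 0x0)) (.node (.leaf 0x0) (.leaf 0x0)))) (.node (.node (.node (.leaf 0x0) (.leaf 0x0)) (.node (.leaf 0x0) (.leaf 0x0))) (.node (.node (.leaf 0x0) (.leaf 0x0)) (.node (.leaf 0x0) (.leaf 0x0))))) (.node (.node (.node (.node (.leaf 0x0) (.leaf 0x0)) (.node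 (.leaf 0x0) (.leaf 0x0))) (.node (.node (.leaf 0x0) (.leaf 0x0)) (.node (.leaf 0x0) (.leaf 0x0)))) (.node (.node (.node (.leaf 0x0) (.leaf 0x0)) (.node (.leaf 0x0) (.leaf 0x0))) (.node (.node (.leaf 0x0) (.leaf 0x0)) (.node (.leaf 0x0) (.leaf 0x0)))))) (.node (.node (.node (.node (.node (.leaf 0x0) (.leaf 0x0)) (.node (.leaf 0x0) (.leaf 0x0))) (.node (.node (.leaf 0x0) (.leaf 0x0)) (.node (.leaf 0x0) (.leaf 0x0)))) (.node (.node (.node (.leaf 0x0) (.leaf 0x0)) (.node (.leaf 0x0) (.leaf 0x0))) (.node (.node (.leaf 0x0) (.leaf 0x0)) (.node (.leaf 0x0) (.leaf 0x0))))) (.node (.node (.node (.node (.leaf 0x0) (.leaf 0x0)) (.node (.leaf 0x0) (.leaf 0x0))) (.node (.node (.leaf 0x0) (.leaf 0x0)) (.node (.leaf 0x0) (.leaf 0x0)))) (.node (.node (.node (.leaf 0x0) (.leaf 0x0)) (.node (.leaf 0x0) (.leaf 0x0))) (.node (.node (.leaf 0x0) (.leaf 0x0)) (.node (.leaf 0x0) (.leaf 0x0)))))))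 (.node (.node (.node (.node (.node (.node (.leaf 0x0) (.leaf 0x0)) (.node (.leaf 0x0) (.leaf 0x0))) (.node (.node (.leaf 0x0) (.leaf 0x0)) (.node (.leaf 0x0) (.leaf 0x0)))) (.node (.node (.node (.leaf 0x0) (.leaf 0x0)) (.node (.leaf 0x0) (.leaf 0x0))) (.node (.node (.leaf 0x0) (.leaf 0x0)) (.node (.leaf 0x0) (.leaf 0x0))))) (.node (.node (.node (.node (.leaf 0x0) (.leaf 0x0)) (.node (.leaf 0x0) (.leaf 0x0))) (.node (.node (.leaf 0x0) (.leaf 0x0)) (.node (.leaf 0x0) (.leaf 0x0)))) (.node (.node (.node (.leaf 0x0) (.leaf 0x0)) (.node (.leaf 0x0) (.leaf 0x0))) (.node (.node (.leaf 0x0) (.leaf 0x0)) (.node (.leaf 0x0) (.leaf 0x0)))))) (.node (.node (.node (.node (.node (.leaf 0x0) (.leaf 0x0)) (.node (.leaf 0x0) (.leaf 0x0))) (.node (.node (.leaf 0x0) (.leaf 0x0)) (.node (.leaf 0x0) (.leaf 0x0)))) (.node (.node (.node (.leaf 0x0) (.leaf 0x0)) (.node (.leaf 0x0) (.leaf 0x0)))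 (.node (.node (.leaf 0x0) (.leaf 0x0)) (.node (.leaf 0x0) (.leaf 0x0))))) (.node (.node (.node (.node (.leaf 0x0) (.leaf 0x0)) (.node (.leaf 0x0) (.leaf 0x0))) (.node (.node (.leaf 0x0) (.leaf 0x0)) (.node (.leaf 0x0) (.leaf 0x0)))) (.node (.node (.node (.leaf 0x0) (.leaf 0x0)) (.node (.leaf 0x0) (.leaf 0x0))) (.node (.node (.leaf 0x0) (.leaf 0x0)) (.node (.leaf 0x0) (.leaf 0x0)))))))) (.node (.node (.node (.node (.node (.node (.node (.leaf 0x0) (.leaf 0x0)) (.node (.leaf 0x0) (.leaf 0x0))) (.node (.node (.leaf 0x0) (.leaf 0x0)) (.node (.leaf 0x0) (.leaf 0x0)))) (.node (.node (.node (.leaf 0x0) (.leaf 0x0)) (.node (.leaf 0x0) (.leaf 0x0))) (.node (.node (.leaf 0x0) (.leaf 0x0)) (.node (.leaf 0x0) (.leaf 0x0))))) (.node (.node (.node (.node (.leaf 0x0) (.leaf 0x0)) (.node (.leaf 0x0) (.leaf 0x0))) (.node (.node (.leaf 0x0) (.leaf 0x0)) (.node (.leaf 0x0) (.leaf 0x0))))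 (.node (.node (.node (.leaf 0x0) (.leaf 0x0)) (.node (.leaf 0x0) (.leaf 0x0))) (.node (.node (.leaf 0x0) (.leaf 0x0)) (.node (.leaf 0x0) (.leaf 0x0)))))) (.node (.node (.node (.node (.node (.leaf 0x0) (.leaf 0x0)) (.node (.leaf 0x0) (.leaf 0x0))) (.node (.node (.leaf 0x0) (.leaf 0x0)) (.node (.leaf 0x0) (.leaf 0x0)))) (.node (.node (.node (.leaf 0x0) (.leaf 0x0)) (.node (.leaf 0x0) (.leaf 0x0))) (.node (.node (.leaf 0x0) (.leaf 0x0)) (.node (.leaf 0x0) (.leaf 0x0))))) (.node (.node (.node (.node (.leaf 0x0) (.leaf 0x0)) (.node (.leaf 0x0) (.leaf 0x0))) (.node (.node (.leaf 0x0) (.leaf 0x0)) (.node (.leaf 0x0) (.leaf 0x0)))) (.node (.node (.node (.leaf 0x0) (.leaf 0x0)) (.node (.leaf 0x0) (.leaf 0x0))) (.node (.node (.leaf 0x0) (.leaf 0x0)) (.node (.leaf 0x0) (.leaf 0x0))))))) (.node (.node (.node (.node (.node (.node (.leaf 0x0) (.leaf 0x0)) (.node (.leaf 0x0) (.leaf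 0x0))) (.node (.node (.leaf 0x0) (.leaf 0x0)) (.node (.leaf 0x0) (.leaf 0x0)))) (.node (.node (.node (.leaf 0x0) (.leaf 0x0)) (.node (.leaf 0x0) (.leaf 0x0))) (.node (.node (.leaf 0x0) (.leaf 0x0)) (.node (.leaf 0x0) (.leaf 0x0))))) (.node (.node (.node (.node (.leaf 0x0) (.leaf 0x0)) (.node (.leaf 0x0) (.leaf 0x0))) (.node (.node (.leaf 0x0) (.leaf 0x0)) (.node (.leaf 0x0) (.leaf 0x0)))) (.node (.node (.node (.leaf 0x0) (.leaf 0x0)) (.node (.leaf 0x0) (.leaf 0x0))) (.node (.node (.leaf 0x0) (.leaf 0x0)) (.node (.leaf 0x0) (.leaf 0x0)))))) (.node (.node (.node (.node (.node (.leaf 0x0) (.leaf 0x0)) (.node (.leaf 0x0) (.leaf 0x0))) (.node (.node (.leaf 0x0) (.leaf 0x0)) (.node (.leaf 0x0) (.leaf 0x0)))) (.node (.node (.node (.leaf 0x0) (.leaf 0x0)) (.node (.leaf 0x0) (.leaf 0x0))) (.node (.node (.leaf 0x0) (.leaf 0x0)) (.node (.leaf 0x0) (.leaf 0x0))))) (.node (.node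 (.node (.node (.leaf 0x0) (.leaf 0x0)) (.node (.leaf 0x0) (.leaf 0x0))) (.node (.node (.leaf 0x0) (.leaf 0x0)) (.node (.leaf 0x0) (.leaf 0x0)))) (.node (.node (.node (.leaf 0x0) (.leaf 0x0)) (.node (.leaf 0x0) (.leaf 0x0))) (.node (.node (.leaf 0x0) (.leaf 0x0)) (.node (.leaf 0x0) (.leaf 0x0))))))))) (.node (.node (.node (.node (.node (.node (.node (.node (.leaf 0x0) (.leaf 0x0)) (.node (.leaf 0x0) (.leaf 0x0))) (.node (.node (.leaf 0x0) (.leaf 0x0)) (.node (.leaf 0x0) (.leaf 0x0)))) (.node (.node (.node (.leaf 0x0) (.leaf 0x0)) (.node (.leaf 0x0) (.leaf 0x0))) (.node (.node (.leaf 0x0) (.leaf 0x0)) (.node (.leaf 0x0) (.leaf 0x0))))) (.node (.node (.node (.node (.leaf 0x0) (.leaf 0x0)) (.node (.leaf 0x0) (.leaf 0x0))) (.node (.node (.leaf 0x0) (.leaf 0x0)) (.node (.leaf 0x0) (.leaf 0x0)))) (.node (.node (.node (.leaf 0x0) (.leaf 0x0)) (.node (.leaf 0x0) (.leaf 0x0)))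 (.node (.node (.leaf 0x0) (.leaf 0x0)) (.node (.leaf 0x0) (.leaf 0x0)))))) (.node (.node (.node (.node (.node (.leaf 0x0) (.leaf 0x0)) (.node (.leaf 0x0) (.leaf 0x0))) (.node (.node (.leaf 0x0) (.leaf 0x0)) (.node (.leaf 0x0) (.leaf 0x0)))) (.node (.node (.node (.leaf 0x0) (.leaf 0x0)) (.node (.leaf 0x0) (.leaf 0x0))) (.node (.node (.leaf 0x0) (.leaf 0x0)) (.node (.leaf 0x0) (.leaf 0x0))))) (.node (.node (.node (.node (.leaf 0x0) (.leaf 0x0)) (.node (.leaf 0x0) (.leaf 0x0))) (.node (.node (.leaf 0x0) (.leaf 0x0)) (.node (.leaf 0x0) (.leaf 0x0)))) (.node (.node (.node (.leaf 0x0) (.leaf 0x0)) (.node (.leaf 0x0) (.leaf 0x0))) (.node (.node (.leaf 0x0) (.leaf 0x0)) (.node (.leaf 0x0) (.leaf 0x0))))))) (.node (.node (.node (.node (.node (.node (.leaf 0x0) (.leaf 0x0)) (.node (.leaf 0x0) (.leaf 0x0))) (.node (.node (.leaf 0x0) (.leaf 0x0)) (.node (.leaf 0x0) (.leaf 0x0))))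 (.node (.node (.node (.leaf 0x0) (.leaf 0x0)) (.node (.leaf 0x0) (.leaf 0x0))) (.node (.node (.leaf 0x0) (.leaf 0x0)) (.node (.leaf 0x0) (.leaf 0x0))))) (.node (.node (.node (.node (.leaf 0x0) (.leaf 0x0)) (.node (.leaf 0x0) (.leaf 0x0))) (.node (.node (.leaf 0x0) (.leaf 0x0)) (.node (.leaf 0x0) (.leaf 0x0)))) (.node (.node (.node (.leaf 0x0) (.leaf 0x0)) (.node (.leaf 0x0) (.leaf 0x0))) (.node (.node (.leaf 0x0) (.leaf 0x0)) (.node (.leaf 0x0) (.leaf 0x0)))))) (.node (.node (.node (.node (.node (.leaf 0x0) (.leaf 0x0)) (.node (.leaf 0x0) (.leaf 0x0))) (.node (.node (.leaf 0x0) (.leaf 0x0)) (.node (.leaf 0x0) (.leaf 0x0)))) (.node (.node (.node (.leaf 0x0) (.leaf 0x0)) (.node (.leaf 0x0) (.leaf 0x0))) (.node (.node (.leaf 0x0) (.leaf 0x0)) (.node (.leaf 0x0) (.leaf 0x0))))) (.node (.node (.node (.node (.leaf 0x0) (.leaf 0x0)) (.node (.leaf 0x0) (.leaf 0x0))) (.node (.node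 (.leaf 0x0) (.leaf 0x0)) (.node (.leaf 0x0) (.leaf 0x0)))) (.node (.node (.node (.leaf 0x0) (.leaf 0x0)) (.node (.leaf 0x0) (.leaf 0x0))) (.node (.node (.leaf 0x0) (.leaf 0x0)) (.node (.leaf 0x0) (.leaf 0x0)))))))) (.node (.node (.node (.node (.node (.node (.node (.leaf 0x0) (.leaf 0x0)) (.node (.leaf 0x0) (.leaf 0x0))) (.node (.node (.leaf 0x0) (.leaf 0x0)) (.node (.leaf 0x0) (.leaf 0x0)))) (.node (.node (.node (.leaf 0x0) (.leaf 0x0)) (.node (.leaf 0x0) (.leaf 0x0))) (.node (.node (.leaf 0x0) (.leaf 0x0)) (.node (.leaf 0x0) (.leaf 0x0))))) (.node (.node (.node (.node (.leaf 0x0) (.leaf 0x0)) (.node (.leaf 0x0) (.leaf 0x0))) (.node (.node (.leaf 0x0) (.leaf 0x0)) (.node (.leaf 0x0) (.leaf 0x0)))) (.node (.node (.node (.leaf 0x0) (.leaf 0x0)) (.node (.leaf 0x0) (.leaf 0x0))) (.node (.node (.leaf 0x0) (.leaf 0x0)) (.node (.leaf 0x0) (.leaf 0x0)))))) (.node (.node (.node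 (.node (.node (.leaf 0x0) (.leaf 0x0)) (.node (.leaf 0x0) (.leaf 0x0))) (.node (.node (.leaf 0x0) (.leaf 0x0)) (.node (.leaf 0x0) (.leaf 0x0)))) (.node (.node (.node (.leaf 0x0) (.leaf 0x0)) (.node (.leaf 0x0) (.leaf 0x0))) (.node (.node (.leaf 0x0) (.leaf 0x0)) (.node (.leaf 0x0) (.leaf 0x0))))) (.node (.node (.node (.node (.leaf 0x0) (.leaf 0x0)) (.node (.leaf 0x0) (.leaf 0x0))) (.node (.node (.leaf 0x0) (.leaf 0x0)) (.node (.leaf 0x0) (.leaf 0x0)))) (.node (.node (.node (.leaf 0x0) (.leaf 0x0)) (.node (.leaf 0x0) (.leaf 0x0))) (.node (.node (.leaf 0x0) (.leaf 0x0)) (.node (.leaf 0x0) (.leaf 0x0))))))) (.node (.node (.node (.node (.node (.node (.leaf 0x0) (.leaf 0x0)) (.node (.leaf 0x0) (.leaf 0x0))) (.node (.node (.leaf 0x0) (.leaf 0x0)) (.node (.leaf 0x0) (.leaf 0x0)))) (.node (.node (.node (.leaf 0x0) (.leaf 0x0)) (.node (.leaf 0x0) (.leaf 0x0))) (.node (.node (.leaf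 0x0) (.leaf 0x0)) (.node (.leaf 0x0) (.leaf 0x0))))) (.node (.node (.node (.node (.leaf 0x0) (.leaf 0x0)) (.node (.leaf 0x0) (.leaf 0x0))) (.node (.node (.leaf 0x0) (.leaf 0x0)) (.node (.leaf 0x0) (.leaf 0x0)))) (.node (.node (.node (.leaf 0x0) (.leaf 0x0)) (.node (.leaf 0x0) (.leaf 0x0))) (.node (.node (.leaf 0x0) (.leaf 0x0)) (.node (.leaf 0x0) (.leaf 0x0)))))) (.node (.node (.node (.node (.node (.leaf 0x0) (.leaf 0x0)) (.node (.leaf 0x0) (.leaf 0x0))) (.node (.node (.leaf 0x0) (.leaf 0x0)) (.node (.leaf 0x0) (.leaf 0x0)))) (.node (.node (.node (.leaf 0x0) (.leaf 0x0)) (.node (.leaf 0x0) (.leaf 0x0))) (.node (.node (.leaf 0x0) (.leaf 0x0)) (.node (.leaf 0x0) (.leaf 0x0))))) (.node (.node (.node (.node (.leaf 0x0) (.leaf 0x0)) (.node (.leaf 0x0) (.leaf 0x0))) (.node (.node (.leaf 0x0) (.leaf 0x0)) (.node (.leaf 0x0) (.leaf 0x0)))) (.node (.node (.node (.leaf 0x0) (.leaf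 0x0)) (.node (.leaf 0x0) (.leaf 0x0))) (.node (.node (.leaf 0x0) (.leaf 0x0)) (.node (.leaf 0x0) (.leaf 0x0)))))))))) (.node (.node (.node (.node (.node (.node (.node (.node (.node (.leaf 0x0) (.leaf 0x0)) (.node (.leaf 0x0) (.leaf 0x0))) (.node (.node (.leaf 0x0) (.leaf 0x0)) (.node (.leaf 0x0) (.leaf 0x0)))) (.node (.node (.node (.leaf 0x0) (.leaf 0x0)) (.node (.leaf 0x0) (.leaf 0x0))) (.node (.node (.leaf 0x0) (.leaf 0x0)) (.node (.leaf 0x0) (.leaf 0x0))))) (.node (.node (.node (.node (.leaf 0x0) (.leaf 0x0)) (.node (.leaf 0x0) (.leaf 0x0))) (.node (.node (.leaf 0x0) (.leaf 0x0)) (.node (.leaf 0x0) (.leaf 0x0)))) (.node (.node (.node (.leaf 0x0) (.leaf 0x0)) (.node (.leaf 0x0) (.leaf 0x0))) (.node (.node (.leaf 0x0) (.leaf 0x0)) (.node (.leaf 0x0) (.leaf 0x0)))))) (.node (.node (.node (.node (.node (.leaf 0x0) (.leaf 0x0)) (.node (.leaf 0x0) (.leaf 0x0))) (.node (.node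 (.leaf 0x0) (.leaf 0x0)) (.node (.leaf 0x0) (.leaf 0x0)))) (.node (.node (.node (.leaf 0x0) (.leaf 0x0)) (.node (.leaf 0x0) (.leaf 0x0))) (.node (.node (.leaf 0x0) (.leaf 0x0)) (.node (.leaf 0x0) (.leaf 0x0))))) (.node (.node (.node (.node (.leaf 0x0) (.leaf 0x0)) (.node (.leaf 0x0) (.leaf 0x0))) (.node (.node (.leaf 0x0) (.leaf 0x0)) (.node (.leaf 0x0) (.leaf 0x0)))) (.node (.node (.node (.leaf 0x0) (.leaf 0x0)) (.node (.leaf 0x0) (.leaf 0x0))) (.node (.node (.leaf 0x0) (.leaf 0x0)) (.node (.leaf 0x0) (.leaf 0x0))))))) (.node (.node (.node (.node (.node (.node (.leaf 0x0) (.leaf 0x0)) (.node (.leaf 0x0) (.leaf 0x0))) (.node (.node (.leaf 0x0) (.leaf 0x0)) (.node (.leaf 0x0) (.leaf 0x0)))) (.node (.node (.node (.leaf 0x0) (.leaf 0x0)) (.node (.leaf 0x0) (.leaf 0x0))) (.node (.node (.leaf 0x0) (.leaf 0x0)) (.node (.leaf 0x0) (.leaf 0x0))))) (.node (.node (.node (.node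 (.leaf 0x0) (.leaf 0x0)) (.node (.leaf 0x0) (.leaf 0x0))) (.node (.node (.leaf 0x0) (.leaf 0x0)) (.node (.leaf 0x0) (.leaf 0x0)))) (.node (.node (.node (.leaf 0x0) (.leaf 0x0)) (.node (.leaf 0x0) (.leaf 0x0))) (.node (.node (.leaf 0x0) (.leaf 0x0)) (.node (.leaf 0x0) (.leaf 0x0)))))) (.node (.node (.node (.node (.node (.leaf 0x0) (.leaf 0x0)) (.node (.leaf 0x0) (.leaf 0x0))) (.node (.node (.leaf 0x0) (.leaf 0x0)) (.node (.leaf 0x0) (.leaf 0x0)))) (.node (.node (.node (.leaf 0x0) (.leaf 0x0)) (.node (.leaf 0x0) (.leaf 0x0))) (.node (.node (.leaf 0x0) (.leaf 0x0)) (.node (.leaf 0x0) (.leaf 0x0))))) (.node (.node (.node (.node (.leaf 0x0) (.leaf 0x0)) (.node (.leaf 0x0) (.leaf 0x0))) (.node (.node (.leaf 0x0) (.leaf 0x0)) (.node (.leaf 0x0) (.leaf 0x0)))) (.node (.node (.node (.leaf 0x0) (.leaf 0x0)) (.node (.leaf 0x0) (.leaf 0x0))) (.node (.node (.leaf 0x0) (.leaf 0x0))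 (.node (.leaf 0x0) (.leaf 0x0)))))))) (.node (.node (.node (.node (.node (.node (.node (.leaf 0x0) (.leaf 0x0)) (.node (.leaf 0x0) (.leaf 0x0))) (.node (.node (.leaf 0x0) (.leaf 0x0)) (.node (.leaf 0x0) (.leaf 0x0)))) (.node (.node (.node (.leaf 0x0) (.leaf 0x0)) (.node (.leaf 0x0) (.leaf 0x0))) (.node (.node (.leaf 0x0) (.leaf 0x0)) (.node (.leaf 0x0) (.leaf 0x0))))) (.node (.node (.node (.node (.leaf 0x0) (.leaf 0x0)) (.node (.leaf 0x0) (.leaf 0x0))) (.node (.node (.leaf 0x0) (.leaf 0x0)) (.node (.leaf 0x0) (.leaf 0x0)))) (.node (.node (.node (.leaf 0x0) (.leaf 0x0)) (.node (.leaf 0x0) (.leaf 0x0))) (.node (.node (.leaf 0x0) (.leaf 0x0)) (.node (.leaf 0x0) (.leaf 0x0)))))) (.node (.node (.node (.node (.node (.leaf 0x0) (.leaf 0x0)) (.node (.leaf 0x0) (.leaf 0x0))) (.node (.node (.leaf 0x0) (.leaf 0x0)) (.node (.leaf 0x0) (.leaf 0x0)))) (.node (.node (.node (.leaf 0x0)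 (.leaf 0x0)) (.node (.leaf 0x0) (.leaf 0x0))) (.node (.node (.leaf 0x0) (.leaf 0x0)) (.node (.leaf 0x0) (.leaf 0x0))))) (.node (.node (.node (.node (.leaf 0x0) (.leaf 0x0)) (.node (.leaf 0x0) (.leaf 0x0))) (.node (.node (.leaf 0x0) (.leaf 0x0)) (.node (.leaf 0x0) (.leaf 0x0)))) (.node (.node (.node (.leaf 0x0) (.leaf 0x0)) (.node (.leaf 0x0) (.leaf 0x0))) (.node (.node (.leaf 0x0) (.leaf 0x0)) (.node (.leaf 0x0) (.leaf 0x0))))))) (.node (.node (.node (.node (.node (.node (.leaf 0x0) (.leaf 0x0)) (.node (.leaf 0x0) (.leaf 0x0))) (.node (.node (.leaf 0x0) (.leaf 0x0)) (.node (.leaf 0x0) (.leaf 0x0)))) (.node (.node (.node (.leaf 0x0) (.leaf 0x0)) (.node (.leaf 0x0) (.leaf 0x0))) (.node (.node (.leaf 0x0) (.leaf 0x0)) (.node (.leaf 0x0) (.leaf 0x0))))) (.node (.node (.node (.node (.leaf 0x0) (.leaf 0x0)) (.node (.leaf 0x0) (.leaf 0x0))) (.node (.node (.leaf 0x0) (.leaf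 0x0)) (.node (.leaf 0x0) (.leaf 0x0)))) (.node (.node (.node (.leaf 0x0) (.leaf 0x0)) (.node (.leaf 0x0) (.leaf 0x0))) (.node (.node (.leaf 0x0) (.leaf 0x0)) (.node (.leaf 0x0) (.leaf 0x0)))))) (.node (.node (.node (.node (.node (.leaf 0x0) (.leaf 0x0)) (.node (.leaf 0x0) (.leaf 0x0))) (.node (.node (.leaf 0x0) (.leaf 0x0)) (.node (.leaf 0x0) (.leaf 0x0)))) (.node (.node (.node (.leaf 0x0) (.leaf 0x0)) (.node (.leaf 0x0) (.leaf 0x0))) (.node (.node (.leaf 0x0) (.leaf 0x0)) (.node (.leaf 0x0) (.leaf 0x0))))) (.node (.node (.node (.node (.leaf 0x0) (.leaf 0x0)) (.node (.leaf 0x0) (.leaf 0x0))) (.node (.node (.leaf 0x0) (.leaf 0x0)) (.node (.leaf 0x0) (.leaf 0x0)))) (.node (.node (.node (.leaf 0x0) (.leaf 0x0)) (.node (.leaf 0x0) (.leaf 0x0))) (.node (.node (.leaf 0x0) (.leaf 0x0)) (.node (.leaf 0x0) (.leaf 0x0))))))))) (.node (.node (.node (.node (.node (.node (.node (.node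 (.leaf 0x0) (.leaf 0x0)) (.node (.leaf 0x0) (.leaf 0x0))) (.node (.node (.leaf 0x0) (.leaf 0x0)) (.node (.leaf 0x0) (.leaf 0x0)))) (.node (.node (.node (.leaf 0x0) (.leaf 0x0)) (.node (.leaf 0x0) (.leaf 0x0))) (.node (.node (.leaf 0x0) (.leaf 0x0)) (.node (.leaf 0x0) (.leaf 0x0))))) (.node (.node (.node (.node (.leaf 0x0) (.leaf 0x0)) (.node (.leaf 0x0) (.leaf 0x0))) (.node (.node (.leaf 0x0) (.leaf 0x0)) (.node (.leaf 0x0) (.leaf 0x0)))) (.node (.node (.node (.leaf 0x0) (.leaf 0x0)) (.node (.leaf 0x0) (.leaf 0x0))) (.node (.node (.leaf 0x0) (.leaf 0x0)) (.node (.leaf 0x0) (.leaf 0x0)))))) (.node (.node (.node (.node (.node (.leaf 0x0) (.leaf 0x0)) (.node (.leaf 0x0) (.leaf 0x0))) (.node (.node (.leaf 0x0) (.leaf 0x0)) (.node (.leaf 0x0) (.leaf 0x0)))) (.node (.node (.node (.leaf 0x0) (.leaf 0x0)) (.node (.leaf 0x0) (.leaf 0x0))) (.node (.node (.leaf 0x0) (.leaf 0x0))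 (.node (.leaf 0x0) (.leaf 0x0))))) (.node (.node (.node (.node (.leaf 0x0) (.leaf 0x0)) (.node (.leaf 0x0) (.leaf 0x0))) (.node (.node (.leaf 0x0) (.leaf 0x0)) (.node (.leaf 0x0) (.leaf 0x0)))) (.node (.node (.node (.leaf 0x0) (.leaf 0x0)) (.node (.leaf 0x0) (.leaf 0x0))) (.node (.node (.leaf 0x0) (.leaf 0x0)) (.node (.leaf 0x0) (.leaf 0x0))))))) (.node (.node (.node (.node (.node (.node (.leaf 0x0) (.leaf 0x0)) (.node (.leaf 0x0) (.leaf 0x0))) (.node (.node (.leaf 0x0) (.leaf 0x0)) (.node (.leaf 0x0) (.leaf 0x0)))) (.node (.node (.node (.leaf 0x0) (.leaf 0x0)) (.node (.leaf 0x0) (.leaf 0x0))) (.node (.node (.leaf 0x0) (.leaf 0x0)) (.node (.leaf 0x0) (.leaf 0x0))))) (.node (.node (.node (.node (.leaf 0x0) (.leaf 0x0)) (.node (.leaf 0x0) (.leaf 0x0))) (.node (.node (.leaf 0x0) (.leaf 0x0)) (.node (.leaf 0x0) (.leaf 0x0)))) (.node (.node (.node (.leaf 0x0) (.leaf 0x0))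 (.node (.leaf 0x0) (.leaf 0x0))) (.node (.node (.leaf 0x0) (.leaf 0x0)) (.node (.leaf 0x0) (.leaf 0x0)))))) (.node (.node (.node (.node (.node (.leaf 0x0) (.leaf 0x0)) (.node (.leaf 0x0) (.leaf 0x0))) (.node (.node (.leaf 0x0) (.leaf 0x0)) (.node (.leaf 0x0) (.leaf 0x0)))) (.node (.node (.node (.leaf 0x0) (.leaf 0x0)) (.node (.leaf 0x0) (.leaf 0x0))) (.node (.node (.leaf 0x0) (.leaf 0x0)) (.node (.leaf 0x0) (.leaf 0x0))))) (.node (.node (.node (.node (.leaf 0x0) (.leaf 0x0)) (.node (.leaf 0x0) (.leaf 0x0))) (.node (.node (.leaf 0x0) (.leaf 0x0)) (.node (.leaf 0x0) (.leaf 0x0)))) (.node (.node (.node (.leaf 0x0) (.leaf 0x0)) (.node (.leaf 0x0) (.leaf 0x0))) (.node (.node (.leaf 0x0) (.leaf 0x0)) (.node (.leaf 0x0) (.leaf 0x0)))))))) (.node (.node (.node (.node (.node (.node (.node (.leaf 0x0) (.leaf 0x0)) (.node (.leaf 0x0) (.leaf 0x0))) (.node (.node (.leaf 0x0) (.leaf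 0x0)) (.node (.leaf 0x0) (.leaf 0x0)))) (.node (.node (.node (.leaf 0x0) (.leaf 0x0)) (.node (.leaf 0x0) (.leaf 0x0))) (.node (.node (.leaf 0x0) (.leaf 0x0)) (.node (.leaf 0x0) (.leaf 0x0))))) (.node (.node (.node (.node (.leaf 0x0) (.leaf 0x0)) (.node (.leaf 0x0) (.leaf 0x0))) (.node (.node (.leaf 0x0) (.leaf 0x0)) (.node (.leaf 0x0) (.leaf 0x0)))) (.node (.node (.node (.leaf 0x0) (.leaf 0x0)) (.node (.leaf 0x0) (.leaf 0x0))) (.node (.node (.leaf 0x0) (.leaf 0x0)) (.node (.leaf 0x0) (.leaf 0x0)))))) (.node (.node (.node (.node (.node (.leaf 0x0) (.leaf 0x0)) (.node (.leaf 0x0) (.leaf 0x0))) (.node (.node (.leaf 0x0) (.leaf 0x0)) (.node (.leaf 0x0) (.leaf 0x0)))) (.node (.node (.node (.leaf 0x0) (.leaf 0x0)) (.node (.leaf 0x0) (.leaf 0x0))) (.node (.node (.leaf 0x0) (.leaf 0x0)) (.node (.leaf 0x0) (.leaf 0x0))))) (.node (.node (.node (.node (.leaf 0x0) (.leaf 0x0)) (.node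 (.leaf 0x0) (.leaf 0x0))) (.node (.node (.leaf 0x0) (.leaf 0x0)) (.node (.leaf 0x0) (.leaf 0x0)))) (.node (.node (.node (.leaf 0x0) (.leaf 0x0)) (.node (.leaf 0x0) (.leaf 0x0))) (.node (.node (.leaf 0x0) (.leaf 0x0)) (.node (.leaf 0x0) (.leaf 0x0))))))) (.node (.node (.node (.node (.node (.node (.leaf 0x0) (.leaf 0x0)) (.node (.leaf 0x0) (.leaf 0x0))) (.node (.node (.leaf 0x0) (.leaf 0x0)) (.node (.leaf 0x0) (.leaf 0x0)))) (.node (.node (.node (.leaf 0x0) (.leaf 0x0)) (.node (.leaf 0x0) (.leaf 0x0))) (.node (.node (.leaf 0x0) (.leaf 0x0)) (.node (.leaf 0x0) (.leaf 0x0))))) (.node (.node (.node (.node (.leaf 0x0) (.leaf 0x0)) (.node (.leaf 0x0) (.leaf 0x0))) (.node (.node (.leaf 0x0) (.leaf 0x0)) (.node (.leaf 0x0) (.leaf 0x0)))) (.node (.node (.node (.leaf 0x0) (.leaf 0x0)) (.node (.leaf 0x0) (.leaf 0x0))) (.node (.node (.leaf 0x0) (.leaf 0x0)) (.node (.leaf 0x0) (.leaf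 0x0)))))) (.node (.node (.node (.node (.node (.leaf 0x0) (.leaf 0x0)) (.node (.leaf 0x0) (.leaf 0x0))) (.node (.node (.leaf 0x0) (.leaf 0x0)) (.node (.leaf 0x0) (.leaf 0x0)))) (.node (.node (.node (.leaf 0x0) (.leaf 0x0)) (.node (.leaf 0x0) (.leaf 0x0))) (.node (.node (.leaf 0x0) (.leaf 0x0)) (.node (.leaf 0x0) (.leaf 0x0))))) (.node (.node (.node (.node (.leaf 0x0) (.leaf 0x0)) (.node (.leaf 0x0) (.leaf 0x0))) (.node (.node (.leaf 0x0) (.leaf 0x0)) (.node (.leaf 0x0) (.leaf 0x0)))) (.node (.node (.node (.leaf 0x0) (.leaf 0x0)) (.node (.leaf 0x0) (.leaf 0x0))) (.node (.node (.leaf 0x0) (.leaf 0x0)) (.node (.leaf 0x0) (.leaf 0x0)))))))))))) (.node (.node (.node (.node (.node (.node (.node (.node (.node (.node (.node (.leaf 0x0) (.leaf 0x0)) (.node (.leaf 0x0) (.leaf 0x0))) (.node (.node (.leaf 0x0) (.leaf 0x0)) (.node (.leaf 0x0) (.leaf 0x0)))) (.node (.node (.node (.leaf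 0x0) (.leaf 0x0)) (.node (.leaf 0x0) (.leaf 0x0))) (.node (.node (.leaf 0x0) (.leaf 0x0)) (.node (.leaf 0x0) (.leaf 0x0))))) (.node (.node (.node (.node (.leaf 0x0) (.leaf 0x0)) (.node (.leaf 0x0) (.leaf 0x0))) (.node (.node (.leaf 0x0) (.leaf 0x0)) (.node (.leaf 0x0) (.leaf 0x0)))) (.node (.node (.node (.leaf 0x0) (.leaf 0x0)) (.node (.leaf 0x0) (.leaf 0x0))) (.node (.node (.leaf 0x0) (.leaf 0x0)) (.node (.leaf 0x0) (.leaf 0x0)))))) (.node (.node (.node (.node (.node (.leaf 0x0) (.leaf 0x0)) (.node (.leaf 0x0) (.leaf 0x0))) (.node (.node (.leaf 0x0) (.leaf 0x0)) (.node (.leaf 0x0) (.leaf 0x0)))) (.node (.node (.node (.leaf 0x0) (.leaf 0x0)) (.node (.leaf 0x0) (.leaf 0x0))) (.node (.node (.leaf 0x0) (.leaf 0x0)) (.node (.leaf 0x0) (.leaf 0x0))))) (.node (.node (.node (.node (.leaf 0x0) (.leaf 0x0)) (.node (.leaf 0x0) (.leaf 0x0))) (.node (.node (.leaf 0x0) (.leaf 0x0))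 (.node (.leaf 0x0) (.leaf 0x0)))) (.node (.node (.node (.leaf 0x0) (.leaf 0x0)) (.node (.leaf 0x0) (.leaf 0x0))) (.node (.node (.leaf 0x0) (.leaf 0x0)) (.node (.leaf 0x0) (.leaf 0x0))))))) (.node (.node (.node (.node (.node (.node (.leaf 0x0) (.leaf 0x0)) (.node (.leaf 0x0) (.leaf 0x0))) (.node (.node (.leaf 0x0) (.leaf 0x0)) (.node (.leaf 0x0) (.leaf 0x0)))) (.node (.node (.node (.leaf 0x0) (.leaf 0x0)) (.node (.leaf 0x0) (.leaf 0x0))) (.node (.node (.leaf 0x0) (.leaf 0x0)) (.node (.leaf 0x0) (.leaf 0x0))))) (.node (.node (.node (.node (.leaf 0x0) (.leaf 0x0)) (.node (.leaf 0x0) (.leaf 0x0))) (.node (.node (.leaf 0x0) (.leaf 0x0)) (.node (.leaf 0x0) (.leaf 0x0)))) (.node (.node (.node (.leaf 0x0) (.leaf 0x0)) (.node (.leaf 0x0) (.leaf 0x0))) (.node (.node (.leaf 0x0) (.leaf 0x0)) (.node (.leaf 0x0) (.leaf 0x0)))))) (.node (.node (.node (.node (.node (.leaf 0x0) (.leaf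 0x0)) (.node (.leaf 0x0) (.leaf 0x0))) (.node (.node (.leaf 0x0) (.leaf 0x0)) (.node (.leaf 0x0) (.leaf 0x0)))) (.node (.node (.node (.leaf 0x0) (.leaf 0x0)) (.node (.leaf 0x0) (.leaf 0x0))) (.node (.node (.leaf 0x0) (.leaf 0x0)) (.node (.leaf 0x0) (.leaf 0x0))))) (.node (.node (.node (.node (.leaf 0x0) (.leaf 0x0)) (.node (.leaf 0x0) (.leaf 0x0))) (.node (.node (.leaf 0x0) (.leaf 0x0)) (.node (.leaf 0x0) (.leaf 0x0)))) (.node (.node (.node (.leaf 0x0) (.leaf 0x0)) (.node (.leaf 0x0) (.leaf 0x0))) (.node (.node (.leaf 0x0) (.leaf 0x0)) (.node (.leaf 0x0) (.leaf 0x0)))))))) (.node (.node (.node (.node (.node (.node (.node (.leaf 0x0) (.leaf 0x0)) (.node (.leaf 0x0) (.leaf 0x0))) (.node (.node (.leaf 0x0) (.leaf 0x0)) (.node (.leaf 0x0) (.leaf 0x0)))) (.node (.node (.node (.leaf 0x0) (.leaf 0x0)) (.node (.leaf 0x0) (.leaf 0x0))) (.node (.node (.leaf 0x0) (.leaf 0x0)) (.node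 (.leaf 0x0) (.leaf 0x0))))) (.node (.node (.node (.node (.leaf 0x0) (.leaf 0x0)) (.node (.leaf 0x0) (.leaf 0x0))) (.node (.node (.leaf 0x0) (.leaf 0x0)) (.node (.leaf 0x0) (.leaf 0x0)))) (.node (.node (.node (.leaf 0x0) (.leaf 0x0)) (.node (.leaf 0x0) (.leaf 0x0))) (.node (.node (.leaf 0x0) (.leaf 0x0)) (.node (.leaf 0x0) (.leaf 0x0)))))) (.node (.node (.node (.node (.node (.leaf 0x0) (.leaf 0x0)) (.node (.leaf 0x0) (.leaf 0x0))) (.node (.node (.leaf 0x0) (.leaf 0x0)) (.node (.leaf 0x0) (.leaf 0x0)))) (.node (.node (.node (.leaf 0x0) (.leaf 0x0)) (.node (.leaf 0x0) (.leaf 0x0))) (.node (.node (.leaf 0x0) (.leaf 0x0)) (.node (.leaf 0x0) (.leaf 0x0))))) (.node (.node (.node (.node (.leaf 0x0) (.leaf 0x0)) (.node (.leaf 0x0) (.leaf 0x0))) (.node (.node (.leaf 0x0) (.leaf 0x0)) (.node (.leaf 0x0) (.leaf 0x0)))) (.node (.node (.node (.leaf 0x0) (.leaf 0x0)) (.node (.leaf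 0x0) (.leaf 0x0))) (.node (.node (.leaf 0x0) (.leaf 0x0)) (.node (.leaf 0x0) (.leaf 0x0))))))) (.node (.node (.node (.node (.node (.node (.leaf 0x0) (.leaf 0x0)) (.node (.leaf 0x0) (.leaf 0x0))) (.node (.node (.leaf 0x0) (.leaf 0x0)) (.node (.leaf 0x0) (.leaf 0x0)))) (.node (.node (.node (.leaf 0x0) (.leaf 0x0)) (.node (.leaf 0x0) (.leaf 0x0))) (.node (.node (.leaf 0x0) (.leaf 0x0)) (.node (.leaf 0x0) (.leaf 0x0))))) (.node (.node (.node (.node (.leaf 0x0) (.leaf 0x0)) (.node (.leaf 0x0) (.leaf 0x0))) (.node (.node (.leaf 0x0) (.leaf 0x0)) (.node (.leaf 0x0) (.leaf 0x0)))) (.node (.node (.node (.leaf 0x0) (.leaf 0x0)) (.node (.leaf 0x0) (.leaf 0x0))) (.node (.node (.leaf 0x0) (.leaf 0x0)) (.node (.leaf 0x0) (.leaf 0x0)))))) (.node (.node (.node (.node (.node (.leaf 0x0) (.leaf 0x0)) (.node (.leaf 0x0) (.leaf 0x0))) (.node (.node (.leaf 0x0) (.leaf 0x0)) (.node (.leaf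 0x0) (.leaf 0x0)))) (.node (.node (.node (.leaf 0x0) (.leaf 0x0)) (.node (.leaf 0x0) (.leaf 0x0))) (.node (.node (.leaf 0x0) (.leaf 0x0)) (.node (.leaf 0x0) (.leaf 0x0))))) (.node (.node (.node (.node (.leaf 0x0) (.leaf 0x0)) (.node (.leaf 0x0) (.leaf 0x0))) (.node (.node (.leaf 0x0) (.leaf 0x0)) (.node (.leaf 0x0) (.leaf 0x0)))) (.node (.node (.node (.leaf 0x0) (.leaf 0x0)) (.node (.leaf 0x0) (.leaf 0x0))) (.node (.node (.leaf 0x0) (.leaf 0x0)) (.node (.leaf 0x0) (.leaf 0x0))))))))) (.node (.node (.node (.node (.node (.node (.node (.node (.leaf 0x0) (.leaf 0x0)) (.node (.leaf 0x0) (.leaf 0x0))) (.node (.node (.leaf 0x0) (.leaf 0x0)) (.node (.leaf 0x0) (.leaf 0x0)))) (.node (.node (.node (.leaf 0x0) (.leaf 0x0)) (.node (.leaf 0x0) (.leaf 0x0))) (.node (.node (.leaf 0x0) (.leaf 0x0)) (.node (.leaf 0x0) (.leaf 0x0))))) (.node (.node (.node (.node (.leaf 0x0) (.leaf 0x0))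 (.node (.leaf 0x0) (.leaf 0x0))) (.node (.node (.leaf 0x0) (.leaf 0x0)) (.node (.leaf 0x0) (.leaf 0x0)))) (.node (.node (.node (.leaf 0x0) (.leaf 0x0)) (.node (.leaf 0x0) (.leaf 0x0))) (.node (.node (.leaf 0x0) (.leaf 0x0)) (.node (.leaf 0x0) (.leaf 0x0)))))) (.node (.node (.node (.node (.node (.leaf 0x0) (.leaf 0x0)) (.node (.leaf 0x0) (.leaf 0x0))) (.node (.node (.leaf 0x0) (.leaf 0x0)) (.node (.leaf 0x0) (.leaf 0x0)))) (.node (.node (.node (.leaf 0x0) (.leaf 0x0)) (.node (.leaf 0x0) (.leaf 0x0))) (.node (.node (.leaf 0x0) (.leaf 0x0)) (.node (.leaf 0x0) (.leaf 0x0))))) (.node (.node (.node (.node (.leaf 0x0) (.leaf 0x0)) (.node (.leaf 0x0) (.leaf 0x0))) (.node (.node (.leaf 0x0) (.leaf 0x0)) (.node (.leaf 0x0) (.leaf 0x0)))) (.node (.node (.node (.leaf 0x0) (.leaf 0x0)) (.node (.leaf 0x0) (.leaf 0x0))) (.node (.node (.leaf 0x0) (.leaf 0x0)) (.node (.leaf 0x0) (.leaf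 0x0))))))) (.node (.node (.node (.node (.node (.node (.leaf 0x0) (.leaf 0x0)) (.node (.leaf 0x0) (.leaf 0x0))) (.node (.node (.leaf 0x0) (.leaf 0x0)) (.node (.leaf 0x0) (.leaf 0x0)))) (.node (.node (.node (.leaf 0x0) (.leaf 0x0)) (.node (.leaf 0x0) (.leaf 0x0))) (.node (.node (.leaf 0x0) (.leaf 0x0)) (.node (.leaf 0x0) (.leaf 0x0))))) (.node (.node (.node (.node (.leaf 0x0) (.leaf 0x0)) (.node (.leaf 0x0) (.leaf 0x0))) (.node (.node (.leaf 0x0) (.leaf 0x0)) (.node (.leaf 0x0) (.leaf 0x0)))) (.node (.node (.node (.leaf 0x0) (.leaf 0x0)) (.node (.leaf 0x0) (.leaf 0x0))) (.node (.node (.leaf 0x0) (.leaf 0x0)) (.node (.leaf 0x0) (.leaf 0x0)))))) (.node (.node (.node (.node (.node (.leaf 0x0) (.leaf 0x0)) (.node (.leaf 0x0) (.leaf 0x0))) (.node (.node (.leaf 0x0) (.leaf 0x0)) (.node (.leaf 0x0) (.leaf 0x0)))) (.node (.node (.node (.leaf 0x0) (.leaf 0x0)) (.node (.leaf 0x0)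 (.leaf 0x0))) (.node (.node (.leaf 0x0) (.leaf 0x0)) (.node (.leaf 0x0) (.leaf 0x0))))) (.node (.node (.node (.node (.leaf 0x0) (.leaf 0x0)) (.node (.leaf 0x0) (.leaf 0x0))) (.node (.node (.leaf 0x0) (.leaf 0x0)) (.node (.leaf 0x0) (.leaf 0x0)))) (.node (.node (.node (.leaf 0x0) (.leaf 0x0)) (.node (.leaf 0x0) (.leaf 0x0))) (.node (.node (.leaf 0x0) (.leaf 0x0)) (.node (.leaf 0x0) (.leaf 0x0)))))))) (.node (.node (.node (.node (.node (.node (.node (.leaf 0x0) (.leaf 0x0)) (.node (.leaf 0x0) (.leaf 0x0))) (.node (.node (.leaf 0x0) (.leaf 0x0)) (.node (.leaf 0x0) (.leaf 0x0)))) (.node (.node (.node (.leaf 0x0) (.leaf 0x0)) (.node (.leaf 0x0) (.leaf 0x0))) (.node (.node (.leaf 0x0) (.leaf 0x0)) (.node (.leaf 0x0) (.leaf 0x0))))) (.node (.node (.node (.node (.leaf 0x0) (.leaf 0x0)) (.node (.leaf 0x0) (.leaf 0x0))) (.node (.node (.leaf 0x0) (.leaf 0x0)) (.node (.leaf 0x0)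 (.leaf 0x0)))) (.node (.node (.node (.leaf 0x0) (.leaf 0x0)) (.node (.leaf 0x0) (.leaf 0x0))) (.node (.node (.leaf 0x0) (.leaf 0x0)) (.node (.leaf 0x0) (.leaf 0x0)))))) (.node (.node (.node (.node (.node (.leaf 0x0) (.leaf 0x0)) (.node (.leaf 0x0) (.leaf 0x0))) (.node (.node (.leaf 0x0) (.leaf 0x0)) (.node (.leaf 0x0) (.leaf 0x0)))) (.node (.node (.node (.leaf 0x0) (.leaf 0x0)) (.node (.leaf 0x0) (.leaf 0x0))) (.node (.node (.leaf 0x0) (.leaf 0x0)) (.node (.leaf 0x0) (.leaf 0x0))))) (.node (.node (.node (.node (.leaf 0x0) (.leaf 0x0)) (.node (.leaf 0x0) (.leaf 0x0))) (.node (.node (.leaf 0x0) (.leaf 0x0)) (.node (.leaf 0x0) (.leaf 0x0)))) (.node (.node (.node (.leaf 0x0) (.leaf 0x0)) (.node (.leaf 0x0) (.leaf 0x0))) (.node (.node (.leaf 0x0) (.leaf 0x0)) (.node (.leaf 0x0) (.leaf 0x0))))))) (.node (.node (.node (.node (.node (.node (.leaf 0x0) (.leaf 0x0)) (.node (.leaf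 0x0) (.leaf 0x0))) (.node (.node (.leaf 0x0) (.leaf 0x0)) (.node (.leaf 0x0) (.leaf 0x0)))) (.node (.node (.node (.leaf 0x0) (.leaf 0x0)) (.node (.leaf 0x0) (.leaf 0x0))) (.node (.node (.leaf 0x0) (.leaf 0x0)) (.node (.leaf 0x0) (.leaf 0x0))))) (.node (.node (.node (.node (.leaf 0x0) (.leaf 0x0)) (.node (.leaf 0x0) (.leaf 0x0))) (.node (.node (.leaf 0x0) (.leaf 0x0)) (.node (.leaf 0x0) (.leaf 0x0)))) (.node (.node (.node (.leaf 0x0) (.leaf 0x0)) (.node (.leaf 0x0) (.leaf 0x0))) (.node (.node (.leaf 0x0) (.leaf 0x0)) (.node (.leaf 0x0) (.leaf 0x0)))))) (.node (.node (.node (.node (.node (.leaf 0x0) (.leaf 0x0)) (.node (.leaf 0x0) (.leaf 0x0))) (.node (.node (.leaf 0x0) (.leaf 0x0)) (.node (.leaf 0x0) (.leaf 0x0)))) (.node (.node (.node (.leaf 0x0) (.leaf 0x0)) (.node (.leaf 0x0) (.leaf 0x0))) (.node (.node (.leaf 0x0) (.leaf 0x0)) (.node (.leaf 0x0) (.leaf 0x0))))) (.node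 (.node (.node (.node (.leaf 0x0) (.leaf 0x0)) (.node (.leaf 0x0) (.leaf 0x0))) (.node (.node (.leaf 0x0) (.leaf 0x0)) (.node (.leaf 0x0) (.leaf 0x0)))) (.node (.node (.node (.leaf 0x0) (.leaf 0x0)) (.node (.leaf 0x0) (.leaf 0x0))) (.node (.node (.leaf 0x0) (.leaf 0x0)) (.node (.leaf 0x0) (.leaf 0x0)))))))))) (.node (.node (.node (.node (.node (.node (.node (.node (.node (.leaf 0x0) (.leaf 0x0)) (.node (.leaf 0x0) (.leaf 0x0))) (.node (.node (.leaf 0x0) (.leaf 0x0)) (.node (.leaf 0x0) (.leaf 0x0)))) (.node (.node (.node (.leaf 0x0) (.leaf 0x0)) (.node (.leaf 0x0) (.leaf 0x0))) (.node (.node (.leaf 0x0) (.leaf 0x0)) (.node (.leaf 0x0) (.leaf 0x0))))) (.node (.node (.node (.node (.leaf 0x0) (.leaf 0x0)) (.node (.leaf 0x0) (.leaf 0x0))) (.node (.node (.leaf 0x0) (.leaf 0x0)) (.node (.leaf 0x0) (.leaf 0x0)))) (.node (.node (.node (.leaf 0x0) (.leaf 0x0)) (.node (.leaf 0x0)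 (.leaf 0x0))) (.node (.node (.leaf 0x0) (.leaf 0x0)) (.node (.leaf 0x0) (.leaf 0x0)))))) (.node (.node (.node (.node (.node (.leaf 0x0) (.leaf 0x0)) (.node (.leaf 0x0) (.leaf 0x0))) (.node (.node (.leaf 0x0) (.leaf 0x0)) (.node (.leaf 0x0) (.leaf 0x0)))) (.node (.node (.node (.leaf 0x0) (.leaf 0x0)) (.node (.leaf 0x0) (.leaf 0x0))) (.node (.node (.leaf 0x0) (.leaf 0x0)) (.node (.leaf 0x0) (.leaf 0x0))))) (.node (.node (.node (.node (.leaf 0x0) (.leaf 0x0)) (.node (.leaf 0x0) (.leaf 0x0))) (.node (.node (.leaf 0x0) (.leaf 0x0)) (.node (.leaf 0x0) (.leaf 0x0)))) (.node (.node (.node (.leaf 0x0) (.leaf 0x0)) (.node (.leaf 0x0) (.leaf 0x0))) (.node (.node (.leaf 0x0) (.leaf 0x0)) (.node (.leaf 0x0) (.leaf 0x0))))))) (.node (.node (.node (.node (.node (.node (.leaf 0x0) (.leaf 0x0)) (.node (.leaf 0x0) (.leaf 0x0))) (.node (.node (.leaf 0x0) (.leaf 0x0)) (.node (.leaf 0x0)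 (.leaf 0x0)))) (.node (.node (.node (.leaf 0x0) (.leaf 0x0)) (.node (.leaf 0x0) (.leaf 0x0))) (.node (.node (.leaf 0x0) (.leaf 0x0)) (.node (.leaf 0x0) (.leaf 0x0))))) (.node (.node (.node (.node (.leaf 0x0) (.leaf 0x0)) (.node (.leaf 0x0) (.leaf 0x0))) (.node (.node (.leaf 0x0) (.leaf 0x0)) (.node (.leaf 0x0) (.leaf 0x0)))) (.node (.node (.node (.leaf 0x0) (.leaf 0x0)) (.node (.leaf 0x0) (.leaf 0x0))) (.node (.node (.leaf 0x0) (.leaf 0x0)) (.node (.leaf 0x0) (.leaf 0x0)))))) (.node (.node (.node (.node (.node (.leaf 0x0) (.leaf 0x0)) (.node (.leaf 0x0) (.leaf 0x0))) (.node (.node (.leaf 0x0) (.leaf 0x0)) (.node (.leaf 0x0) (.leaf 0x0)))) (.node (.node (.node (.leaf 0x0) (.leaf 0x0)) (.node (.leaf 0x0) (.leaf 0x0))) (.node (.node (.leaf 0x0) (.leaf 0x0)) (.node (.leaf 0x0) (.leaf 0x0))))) (.node (.node (.node (.node (.leaf 0x0) (.leaf 0x0)) (.node (.leaf 0x0) (.leaf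 0x0))) (.node (.node (.leaf 0x0) (.leaf 0x0)) (.node (.leaf 0x0) (.leaf 0x0)))) (.node (.node (.node (.leaf 0x0) (.leaf 0x0)) (.node (.leaf 0x0) (.leaf 0x0))) (.node (.node (.leaf 0x0) (.leaf 0x0)) (.node (.leaf 0x0) (.leaf 0x0)))))))) (.node (.node (.node (.node (.node (.node (.node (.leaf 0x0) (.leaf 0x0)) (.node (.leaf 0x0) (.leaf 0x0))) (.node (.node (.leaf 0x0) (.leaf 0x0)) (.node (.leaf 0x0) (.leaf 0x0)))) (.node (.node (.node (.leaf 0x0) (.leaf 0x0)) (.node (.leaf 0x0) (.leaf 0x0))) (.node (.node (.leaf 0x0) (.leaf 0x0)) (.node (.leaf 0x0) (.leaf 0x0))))) (.node (.node (.node (.node (.leaf 0x0) (.leaf 0x0)) (.node (.leaf 0x0) (.leaf 0x0))) (.node (.node (.leaf 0x0) (.leaf 0x0)) (.node (.leaf 0x0) (.leaf 0x0)))) (.node (.node (.node (.leaf 0x0) (.leaf 0x0)) (.node (.leaf 0x0) (.leaf 0x0))) (.node (.node (.leaf 0x0) (.leaf 0x0)) (.node (.leaf 0x0) (.leaf 0x0))))))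 (.node (.node (.node (.node (.node (.leaf 0x0) (.leaf 0x0)) (.node (.leaf 0x0) (.leaf 0x0))) (.node (.node (.leaf 0x0) (.leaf 0x0)) (.node (.leaf 0x0) (.leaf 0x0)))) (.node (.node (.node (.leaf 0x0) (.leaf 0x0)) (.node (.leaf 0x0) (.leaf 0x0))) (.node (.node (.leaf 0x0) (.leaf 0x0)) (.node (.leaf 0x0) (.leaf 0x0))))) (.node (.node (.node (.node (.leaf 0x0) (.leaf 0x0)) (.node (.leaf 0x0) (.leaf 0x0))) (.node (.node (.leaf 0x0) (.leaf 0x0)) (.node (.leaf 0x0) (.leaf 0x0)))) (.node (.node (.node (.leaf 0x0) (.leaf 0x0)) (.node (.leaf 0x0) (.leaf 0x0))) (.node (.node (.leaf 0x0) (.leaf 0x0)) (.node (.leaf 0x0) (.leaf 0x0))))))) (.node (.node (.node (.node (.node (.node (.leaf 0x0) (.leaf 0x0)) (.node (.leaf 0x0) (.leaf 0x0))) (.node (.node (.leaf 0x0) (.leaf 0x0)) (.node (.leaf 0x0) (.leaf 0x0)))) (.node (.node (.node (.leaf 0x0) (.leaf 0x0)) (.node (.leaf 0x0) (.leaf 0x0)))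 (.node (.node (.leaf 0x0) (.leaf 0x0)) (.node (.leaf 0x0) (.leaf 0x0))))) (.node (.node (.node (.node (.leaf 0x0) (.leaf 0x0)) (.node (.leaf 0x0) (.leaf 0x0))) (.node (.node (.leaf 0x0) (.leaf 0x0)) (.node (.leaf 0x0) (.leaf 0x0)))) (.node (.node (.node (.leaf 0x0) (.leaf 0x0)) (.node (.leaf 0x0) (.leaf 0x0))) (.node (.node (.leaf 0x0) (.leaf 0x0)) (.node (.leaf 0x0) (.leaf 0x0)))))) (.node (.node (.node (.node (.node (.leaf 0x0) (.leaf 0x0)) (.node (.leaf 0x0) (.leaf 0x0))) (.node (.node (.leaf 0x0) (.leaf 0x0)) (.node (.leaf 0x0) (.leaf 0x0)))) (.node (.node (.node (.leaf 0x0) (.leaf 0x0)) (.node (.leaf 0x0) (.leaf 0x0))) (.node (.node (.leaf 0x0) (.leaf 0x0)) (.node (.leaf 0x0) (.leaf 0x0))))) (.node (.node (.node (.node (.leaf 0x0) (.leaf 0x0)) (.node (.leaf 0x0) (.leaf 0x0))) (.node (.node (.leaf 0x0) (.leaf 0x0)) (.node (.leaf 0x0) (.leaf 0x0)))) (.node (.node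 (.node (.leaf 0x0) (.leaf 0x0)) (.node (.leaf 0x0) (.leaf 0x0))) (.node (.node (.leaf 0x0) (.leaf 0x0)) (.node (.leaf 0x0) (.leaf 0x0))))))))) (.node (.node (.node (.node (.node (.node (.node (.node (.leaf 0x0) (.leaf 0x0)) (.node (.leaf 0x0) (.leaf 0x0))) (.node (.node (.leaf 0x0) (.leaf 0x0)) (.node (.leaf 0x0) (.leaf 0x0)))) (.node (.node (.node (.leaf 0x0) (.leaf 0x0)) (.node (.leaf 0x0) (.leaf 0x0))) (.node (.node (.leaf 0x0) (.leaf 0x0)) (.node (.leaf 0x0) (.leaf 0x0))))) (.node (.node (.node (.node (.leaf 0x0) (.leaf 0x0)) (.node (.leaf 0x0) (.leaf 0x0))) (.node (.node (.leaf 0x0) (.leaf 0x0)) (.node (.leaf 0x0) (.leaf 0x0)))) (.node (.node (.node (.leaf 0x0) (.leaf 0x0)) (.node (.leaf 0x0) (.leaf 0x0))) (.node (.node (.leaf 0x0) (.leaf 0x0)) (.node (.leaf 0x0) (.leaf 0x0)))))) (.node (.node (.node (.node (.node (.leaf 0x0) (.leaf 0x0)) (.node (.leaf 0x0) (.leaf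 0x0))) (.node (.node (.leaf 0x0) (.leaf 0x0)) (.node (.leaf 0x0) (.leaf 0x0)))) (.node (.node (.node (.leaf 0x0) (.leaf 0x0)) (.node (.leaf 0x0) (.leaf 0x0))) (.node (.node (.leaf 0x0) (.leaf 0x0)) (.node (.leaf 0x0) (.leaf 0x0))))) (.node (.node (.node (.node (.leaf 0x0) (.leaf 0x0)) (.node (.leaf 0x0) (.leaf 0x0))) (.node (.node (.leaf 0x0) (.leaf 0x0)) (.node (.leaf 0x0) (.leaf 0x0)))) (.node (.node (.node (.leaf 0x0) (.leaf 0x0)) (.node (.leaf 0x0) (.leaf 0x0))) (.node (.node (.leaf 0x0) (.leaf 0x0)) (.node (.leaf 0x0) (.leaf 0x0))))))) (.node (.node (.node (.node (.node (.node (.leaf 0x0) (.leaf 0x0)) (.node (.leaf 0x0) (.leaf 0x0))) (.node (.node (.leaf 0x0) (.leaf 0x0)) (.node (.leaf 0x0) (.leaf 0x0)))) (.node (.node (.node (.leaf 0x0) (.leaf 0x0)) (.node (.leaf 0x0) (.leaf 0x0))) (.node (.node (.leaf 0x0) (.leaf 0x0)) (.node (.leaf 0x0) (.leaf 0x0))))) (.node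 (.node (.node (.node (.leaf 0x0) (.leaf 0x0)) (.node (.leaf 0x0) (.leaf 0x0))) (.node (.node (.leaf 0x0) (.leaf 0x0)) (.node (.leaf 0x0) (.leaf 0x0)))) (.node (.node (.node (.leaf 0x0) (.leaf 0x0)) (.node (.leaf 0x0) (.leaf 0x0))) (.node (.node (.leaf 0x0) (.leaf 0x0)) (.node (.leaf 0x0) (.leaf 0x0)))))) (.node (.node (.node (.node (.node (.leaf 0x0) (.leaf 0x0)) (.node (.leaf 0x0) (.leaf 0x0))) (.node (.node (.leaf 0x0) (.leaf 0x0)) (.node (.leaf 0x0) (.leaf 0x0)))) (.node (.node (.node (.leaf 0x0) (.leaf 0x0)) (.node (.leaf 0x0) (.leaf 0x0))) (.node (.node (.leaf 0x0) (.leaf 0x0)) (.node (.leaf 0x0) (.leaf 0x0))))) (.node (.node (.node (.node (.leaf 0x0) (.leaf 0x0)) (.node (.leaf 0x0) (.leaf 0x0))) (.node (.node (.leaf 0x0) (.leaf 0x0)) (.node (.leaf 0x0) (.leaf 0x0)))) (.node (.node (.node (.leaf 0x0) (.leaf 0x0)) (.node (.leaf 0x0) (.leaf 0x0))) (.node (.node (.leaf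 0x0) (.leaf 0x0)) (.node (.leaf 0x0) (.leaf 0x0)))))))) (.node (.node (.node (.node (.node (.node (.node (.leaf 0x0) (.leaf 0x0)) (.node (.leaf 0x0) (.leaf 0x0))) (.node (.node (.leaf 0x0) (.leaf 0x0)) (.node (.leaf 0x0) (.leaf 0x0)))) (.node (.node (.node (.leaf 0x0) (.leaf 0x0)) (.node (.leaf 0x0) (.leaf 0x0))) (.node (.node (.leaf 0x0) (.leaf 0x0)) (.node (.leaf 0x0) (.leaf 0x0))))) (.node (.node (.node (.node (.leaf 0x0) (.leaf 0x0)) (.node (.leaf 0x0) (.leaf 0x0))) (.node (.node (.leaf 0x0) (.leaf 0x0)) (.node (.leaf 0x0) (.leaf 0x0)))) (.node (.node (.node (.leaf 0x0) (.leaf 0x0)) (.node (.leaf 0x0) (.leaf 0x0))) (.node (.node (.leaf 0x0) (.leaf 0x0)) (.node (.leaf 0x0) (.leaf 0x0)))))) (.node (.node (.node (.node (.node (.leaf 0x0) (.leaf 0x0)) (.node (.leaf 0x0) (.leaf 0x0))) (.node (.node (.leaf 0x0) (.leaf 0x0)) (.node (.leaf 0x0) (.leaf 0x0)))) (.node (.node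 (.node (.leaf 0x0) (.leaf 0x0)) (.node (.leaf 0x0) (.leaf 0x0))) (.node (.node (.leaf 0x0) (.leaf 0x0)) (.node (.leaf 0x0) (.leaf 0x0))))) (.node (.node (.node (.node (.leaf 0x0) (.leaf 0x0)) (.node (.leaf 0x0) (.leaf 0x0))) (.node (.node (.leaf 0x0) (.leaf 0x0)) (.node (.leaf 0x0) (.leaf 0x0)))) (.node (.node (.node (.leaf 0x0) (.leaf 0x0)) (.node (.leaf 0x0) (.leaf 0x0))) (.node (.node (.leaf 0x0) (.leaf 0x0)) (.node (.leaf 0x0) (.leaf 0x0))))))) (.node (.node (.node (.node (.node (.node (.leaf 0x0) (.leaf 0x0)) (.node (.leaf 0x0) (.leaf 0x0))) (.node (.node (.leaf 0x0) (.leaf 0x0)) (.node (.leaf 0x0) (.leaf 0x0)))) (.node (.node (.node (.leaf 0x0) (.leaf 0x0)) (.node (.leaf 0x0) (.leaf 0x0))) (.node (.node (.leaf 0x0) (.leaf 0x0)) (.node (.leaf 0x0) (.leaf 0x0))))) (.node (.node (.node (.node (.leaf 0x0) (.leaf 0x0)) (.node (.leaf 0x0) (.leaf 0x0))) (.node (.node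 (.leaf 0x0) (.leaf 0x0)) (.node (.leaf 0x0) (.leaf 0x0)))) (.node (.node (.node (.leaf 0x0) (.leaf 0x0)) (.node (.leaf 0x0) (.leaf 0x0))) (.node (.node (.leaf 0x0) (.leaf 0x0)) (.node (.leaf 0x0) (.leaf 0x0)))))) (.node (.node (.node (.node (.node (.leaf 0x0) (.leaf 0x0)) (.node (.leaf 0x0) (.leaf 0x0))) (.node (.node (.leaf 0x0) (.leaf 0x0)) (.node (.leaf 0x0) (.leaf 0x0)))) (.node (.node (.node (.leaf 0x0) (.leaf 0x0)) (.node (.leaf 0x0) (.leaf 0x0))) (.node (.node (.leaf 0x0) (.leaf 0x0)) (.node (.leaf 0x0) (.leaf 0x0))))) (.node (.node (.node (.node (.leaf 0x0) (.leaf 0x0)) (.node (.leaf 0x0) (.leaf 0x0))) (.node (.node (.leaf 0x0) (.leaf 0x0)) (.node (.leaf 0x0) (.leaf 0x0)))) (.node (.node (.node (.leaf 0x0) (.leaf 0x0)) (.node (.leaf 0x0) (.leaf 0x0))) (.node (.node (.leaf 0x0) (.leaf 0x0)) (.node (.leaf 0x0) (.leaf 0x0))))))))))) (.node (.node (.node (.node (.node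 (.node (.node (.node (.node (.node (.leaf 0x0) (.leaf 0x0)) (.node (.leaf 0x0) (.leaf 0x0))) (.node (.node (.leaf 0x0) (.leaf 0x0)) (.node (.leaf 0x0) (.leaf 0x0)))) (.node (.node (.node (.leaf 0x0) (.leaf 0x0)) (.node (.leaf 0x0) (.leaf 0x0))) (.node (.node (.leaf 0x0) (.leaf 0x0)) (.node (.leaf 0x0) (.leaf 0x0))))) (.node (.node (.node (.node (.leaf 0x0) (.leaf 0x0)) (.node (.leaf 0x0) (.leaf 0x0))) (.node (.node (.leaf 0x0) (.leaf 0x0)) (.node (.leaf 0x0) (.leaf 0x0)))) (.node (.node (.node (.leaf 0x0) (.leaf 0x0)) (.node (.leaf 0x0) (.leaf 0x0))) (.node (.node (.leaf 0x0) (.leaf 0x0)) (.node (.leaf 0x0) (.leaf 0x0)))))) (.node (.node (.node (.node (.node (.leaf 0x0) (.leaf 0x0)) (.node (.leaf 0x0) (.leaf 0x0))) (.node (.node (.leaf 0x0) (.leaf 0x0)) (.node (.leaf 0x0) (.leaf 0x0)))) (.node (.node (.node (.leaf 0x0) (.leaf 0x0)) (.node (.leaf 0x0) (.leaf 0x0))) (.node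 (.node (.leaf 0x0) (.leaf 0x0)) (.node (.leaf 0x0) (.leaf 0x0))))) (.node (.node (.node (.node (.leaf 0x0) (.leaf 0x0)) (.node (.leaf 0x0) (.leaf 0x0))) (.node (.node (.leaf 0x0) (.leaf 0x0)) (.node (.leaf 0x0) (.leaf 0x0)))) (.node (.node (.node (.leaf 0x0) (.leaf 0x0)) (.node (.leaf 0x0) (.leaf 0x0))) (.node (.node (.leaf 0x0) (.leaf 0x0)) (.node (.leaf 0x0) (.leaf 0x0))))))) (.node (.node (.node (.node (.node (.node (.leaf 0x0) (.leaf 0x0)) (.node (.leaf 0x0) (.leaf 0x0))) (.node (.node (.leaf 0x0) (.leaf 0x0)) (.node (.leaf 0x0) (.leaf 0x0)))) (.node (.node (.node (.leaf 0x0) (.leaf 0x0)) (.node (.leaf 0x0) (.leaf 0x0))) (.node (.node (.leaf 0x0) (.leaf 0x0)) (.node (.leaf 0x0) (.leaf 0x0))))) (.node (.node (.node (.node (.leaf 0x0) (.leaf 0x0)) (.node (.leaf 0x0) (.leaf 0x0))) (.node (.node (.leaf 0x0) (.leaf 0x0)) (.node (.leaf 0x0) (.leaf 0x0)))) (.node (.node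 (.node (.leaf 0x0) (.leaf 0x0)) (.node (.leaf 0x0) (.leaf 0x0))) (.node (.node (.leaf 0x0) (.leaf 0x0)) (.node (.leaf 0x0) (.leaf 0x0)))))) (.node (.node (.node (.node (.node (.leaf 0x0) (.leaf 0x0)) (.node (.leaf 0x0) (.leaf 0x0))) (.node (.node (.leaf 0x0) (.leaf 0x0)) (.node (.leaf 0x0) (.leaf 0x0)))) (.node (.node (.node (.leaf 0x0) (.leaf 0x0)) (.node (.leaf 0x0) (.leaf 0x0))) (.node (.node (.leaf 0x0) (.leaf 0x0)) (.node (.leaf 0x0) (.leaf 0x0))))) (.node (.node (.node (.node (.leaf 0x0) (.leaf 0x0)) (.node (.leaf 0x0) (.leaf 0x0))) (.node (.node (.leaf 0x0) (.leaf 0x0)) (.node (.leaf 0x0) (.leaf 0x0)))) (.node (.node (.node (.leaf 0x0) (.leaf 0x0)) (.node (.leaf 0x0) (.leaf 0x0))) (.node (.node (.leaf 0x0) (.leaf 0x0)) (.node (.leaf 0x0) (.leaf 0x0)))))))) (.node (.node (.node (.node (.node (.node (.node (.leaf 0x0) (.leaf 0x0)) (.node (.leaf 0x0) (.leaf 0x0)))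 (.node (.node (.leaf 0x0) (.leaf 0x0)) (.node (.leaf 0x0) (.leaf 0x0)))) (.node (.node (.node (.leaf 0x0) (.leaf 0x0)) (.node (.leaf 0x0) (.leaf 0x0))) (.node (.node (.leaf 0x0) (.leaf 0x0)) (.node (.leaf 0x0) (.leaf 0x0))))) (.node (.node (.node (.node (.leaf 0x0) (.leaf 0x0)) (.node (.leaf 0x0) (.leaf 0x0))) (.node (.node (.leaf 0x0) (.leaf 0x0)) (.node (.leaf 0x0) (.leaf 0x0)))) (.node (.node (.node (.leaf 0x0) (.leaf 0x0)) (.node (.leaf 0x0) (.leaf 0x0))) (.node (.node (.leaf 0x0) (.leaf 0x0)) (.node (.leaf 0x0) (.leaf 0x0)))))) (.node (.node (.node (.node (.node (.leaf 0x0) (.leaf 0x0)) (.node (.leaf 0x0) (.leaf 0x0))) (.node (.node (.leaf 0x0) (.leaf 0x0)) (.node (.leaf 0x0) (.leaf 0x0)))) (.node (.node (.node (.leaf 0x0) (.leaf 0x0)) (.node (.leaf 0x0) (.leaf 0x0))) (.node (.node (.leaf 0x0) (.leaf 0x0)) (.node (.leaf 0x0) (.leaf 0x0))))) (.node (.node (.node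 (.node (.leaf 0x0) (.leaf 0x0)) (.node (.leaf 0x0) (.leaf 0x0))) (.node (.node (.leaf 0x0) (.leaf 0x0)) (.node (.leaf 0x0) (.leaf 0x0)))) (.node (.node (.node (.leaf 0x0) (.leaf 0x0)) (.node (.leaf 0x0) (.leaf 0x0))) (.node (.node (.leaf 0x0) (.leaf 0x0)) (.node (.leaf 0x0) (.leaf 0x0))))))) (.node (.node (.node (.node (.node (.node (.leaf 0x0) (.leaf 0x0)) (.node (.leaf 0x0) (.leaf 0x0))) (.node (.node (.leaf 0x0) (.leaf 0x0)) (.node (.leaf 0x0) (.leaf 0x0)))) (.node (.node (.node (.leaf 0x0) (.leaf 0x0)) (.node (.leaf 0x0) (.leaf 0x0))) (.node (.node (.leaf 0x0) (.leaf 0x0)) (.node (.leaf 0x0) (.leaf 0x0))))) (.node (.node (.node (.node (.leaf 0x0) (.leaf 0x0)) (.node (.leaf 0x0) (.leaf 0x0))) (.node (.node (.leaf 0x0) (.leaf 0x0)) (.node (.leaf 0x0) (.leaf 0x0)))) (.node (.node (.node (.leaf 0x0) (.leaf 0x0)) (.node (.leaf 0x0) (.leaf 0x0))) (.node (.node (.leaf 0x0)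 (.leaf 0x0)) (.node (.leaf 0x0) (.leaf 0x0)))))) (.node (.node (.node (.node (.node (.leaf 0x0) (.leaf 0x0)) (.node (.leaf 0x0) (.leaf 0x0))) (.node (.node (.leaf 0x0) (.leaf 0x0)) (.node (.leaf 0x0) (.leaf 0x0)))) (.node (.node (.node (.leaf 0x0) (.leaf 0x0)) (.node (.leaf 0x0) (.leaf 0x0))) (.node (.node (.leaf 0x0) (.leaf 0x0)) (.node (.leaf 0x0) (.leaf 0x0))))) (.node (.node (.node (.node (.leaf 0x0) (.leaf 0x0)) (.node (.leaf 0x0) (.leaf 0x0))) (.node (.node (.leaf 0x0) (.leaf 0x0)) (.node (.leaf 0x0) (.leaf 0x0)))) (.node (.node (.node (.leaf 0x0) (.leaf 0x0)) (.node (.leaf 0x0) (.leaf 0x0))) (.node (.node (.leaf 0x0) (.leaf 0x0)) (.node (.leaf 0x0) (.leaf 0x0))))))))) (.node (.node (.node (.node (.node (.node (.node (.node (.leaf 0x0) (.leaf 0x0)) (.node (.leaf 0x0) (.leaf 0x0))) (.node (.node (.leaf 0x0) (.leaf 0x0)) (.node (.leaf 0x0) (.leaf 0x0)))) (.node (.node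 (.node (.leaf 0x0) (.leaf 0x0)) (.node (.leaf 0x0) (.leaf 0x0))) (.node (.node (.leaf 0x0) (.leaf 0x0)) (.node (.leaf 0x0) (.leaf 0x0))))) (.node (.node (.node (.node (.leaf 0x0) (.leaf 0x0)) (.node (.leaf 0x0) (.leaf 0x0))) (.node (.node (.leaf 0x0) (.leaf 0x0)) (.node (.leaf 0x0) (.leaf 0x0)))) (.node (.node (.node (.leaf 0x0) (.leaf 0x0)) (.node (.leaf 0x0) (.leaf 0x0))) (.node (.node (.leaf 0x0) (.leaf 0x0)) (.node (.leaf 0x0) (.leaf 0x0)))))) (.node (.node (.node (.node (.node (.leaf 0x0) (.leaf 0x0)) (.node (.leaf 0x0) (.leaf 0x0))) (.node (.node (.leaf 0x0) (.leaf 0x0)) (.node (.leaf 0x0) (.leaf 0x0)))) (.node (.node (.node (.leaf 0x0) (.leaf 0x0)) (.node (.leaf 0x0) (.leaf 0x0))) (.node (.node (.leaf 0x0) (.leaf 0x0)) (.node (.leaf 0x0) (.leaf 0x0))))) (.node (.node (.node (.node (.leaf 0x0) (.leaf 0x0)) (.node (.leaf 0x0) (.leaf 0x0))) (.node (.node (.leaf 0x0)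 (.leaf 0x0)) (.node (.leaf 0x0) (.leaf 0x0)))) (.node (.node (.node (.leaf 0x0) (.leaf 0x0)) (.node (.leaf 0x0) (.leaf 0x0))) (.node (.node (.leaf 0x0) (.leaf 0x0)) (.node (.leaf 0x0) (.leaf 0x0))))))) (.node (.node (.node (.node (.node (.node (.leaf 0x0) (.leaf 0x0)) (.node (.leaf 0x0) (.leaf 0x0))) (.node (.node (.leaf 0x0) (.leaf 0x0)) (.node (.leaf 0x0) (.leaf 0x0)))) (.node (.node (.node (.leaf 0x0) (.leaf 0x0)) (.node (.leaf 0x0) (.leaf 0x0))) (.node (.node (.leaf 0x0) (.leaf 0x0)) (.node (.leaf 0x0) (.leaf 0x0))))) (.node (.node (.node (.node (.leaf 0x0) (.leaf 0x0)) (.node (.leaf 0x0) (.leaf 0x0))) (.node (.node (.leaf 0x0) (.leaf 0x0)) (.node (.leaf 0x0) (.leaf 0x0)))) (.node (.node (.node (.leaf 0x0) (.leaf 0x0)) (.node (.leaf 0x0) (.leaf 0x0))) (.node (.node (.leaf 0x0) (.leaf 0x0)) (.node (.leaf 0x0) (.leaf 0x0)))))) (.node (.node (.node (.node (.node (.leaf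 0x0) (.leaf 0x0)) (.node (.leaf 0x0) (.leaf 0x0))) (.node (.node (.leaf 0x0) (.leaf 0x0)) (.node (.leaf 0x0) (.leaf 0x0)))) (.node (.node (.node (.leaf 0x0) (.leaf 0x0)) (.node (.leaf 0x0) (.leaf 0x0))) (.node (.node (.leaf 0x0) (.leaf 0x0)) (.node (.leaf 0x0) (.leaf 0x0))))) (.node (.node (.node (.node (.leaf 0x0) (.leaf 0x0)) (.node (.leaf 0x0) (.leaf 0x0))) (.node (.node (.leaf 0x0) (.leaf 0x0)) (.node (.leaf 0x0) (.leaf 0x0)))) (.node (.node (.node (.leaf 0x0) (.leaf 0x0)) (.node (.leaf 0x0) (.leaf 0x0))) (.node (.node (.leaf 0x0) (.leaf 0x0)) (.node (.leaf 0x0) (.leaf 0x0)))))))) (.node (.node (.node (.node (.node (.node (.node (.leaf 0x0) (.leaf 0x0)) (.node (.leaf 0x0) (.leaf 0x0))) (.node (.node (.leaf 0x0) (.leaf 0x0)) (.node (.leaf 0x0) (.leaf 0x0)))) (.node (.node (.node (.leaf 0x0) (.leaf 0x0)) (.node (.leaf 0x0) (.leaf 0x0))) (.node (.node (.leaf 0x0) (.leaf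 0x0)) (.node (.leaf 0x0) (.leaf 0x0))))) (.node (.node (.node (.node (.leaf 0x0) (.leaf 0x0)) (.node (.leaf 0x0) (.leaf 0x0))) (.node (.node (.leaf 0x0) (.leaf 0x0)) (.node (.leaf 0x0) (.leaf 0x0)))) (.node (.node (.node (.leaf 0x0) (.leaf 0x0)) (.node (.leaf 0x0) (.leaf 0x0))) (.node (.node (.leaf 0x0) (.leaf 0x0)) (.node (.leaf 0x0) (.leaf 0x0)))))) (.node (.node (.node (.node (.node (.leaf 0x0) (.leaf 0x0)) (.node (.leaf 0x0) (.leaf 0x0))) (.node (.node (.leaf 0x0) (.leaf 0x0)) (.node (.leaf 0x0) (.leaf 0x0)))) (.node (.node (.node (.leaf 0x0) (.leaf 0x0)) (.node (.leaf 0x0) (.leaf 0x0))) (.node (.node (.leaf 0x0) (.leaf 0x0)) (.node (.leaf 0x0) (.leaf 0x0))))) (.node (.node (.node (.node (.leaf 0x0) (.leaf 0x0)) (.node (.leaf 0x0) (.leaf 0x0))) (.node (.node (.leaf 0x0) (.leaf 0x0)) (.node (.leaf 0x0) (.leaf 0x0)))) (.node (.node (.node (.leaf 0x0) (.leaf 0x0)) (.node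 (.leaf 0x0) (.leaf 0x0))) (.node (.node (.leaf 0x0) (.leaf 0x0)) (.node (.leaf 0x0) (.leaf 0x0))))))) (.node (.node (.node (.node (.node (.node (.leaf 0x0) (.leaf 0x0)) (.node (.leaf 0x0) (.leaf 0x0))) (.node (.node (.leaf 0x0) (.leaf 0x0)) (.node (.leaf 0x0) (.leaf 0x0)))) (.node (.node (.node (.leaf 0x0) (.leaf 0x0)) (.node (.leaf 0x0) (.leaf 0x0))) (.node (.node (.leaf 0x0) (.leaf 0x0)) (.node (.leaf 0x0) (.leaf 0x0))))) (.node (.node (.node (.node (.leaf 0x0) (.leaf 0x0)) (.node (.leaf 0x0) (.leaf 0x0))) (.node (.node (.leaf 0x0) (.leaf 0x0)) (.node (.leaf 0x0) (.leaf 0x0)))) (.node (.node (.node (.leaf 0x0) (.leaf 0x0)) (.node (.leaf 0x0) (.leaf 0x0))) (.node (.node (.leaf 0x0) (.leaf 0x0)) (.node (.leaf 0x0) (.leaf 0x0)))))) (.node (.node (.node (.node (.node (.leaf 0x0) (.leaf 0x0)) (.node (.leaf 0x0) (.leaf 0x0))) (.node (.node (.leaf 0x0) (.leaf 0x0)) (.node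 (.leaf 0x0) (.leaf 0x0)))) (.node (.node (.node (.leaf 0x0) (.leaf 0x0)) (.node (.leaf 0x0) (.leaf 0x0))) (.node (.node (.leaf 0x0) (.leaf 0x0)) (.node (.leaf 0x0) (.leaf 0x0))))) (.node (.node (.node (.node (.leaf 0x0) (.leaf 0x0)) (.node (.leaf 0x0) (.leaf 0x0))) (.node (.node (.leaf 0x0) (.leaf 0x0)) (.node (.leaf 0x0) (.leaf 0x0)))) (.node (.node (.node (.leaf 0x0) (.leaf 0x0)) (.node (.leaf 0x0) (.leaf 0x0))) (.node (.node (.leaf 0x0) (.leaf 0x0)) (.node (.leaf 0x0) (.leaf 0x0)))))))))) (.node (.node (.node (.node (.node (.node (.node (.node (.node (.leaf 0x0) (.leaf 0x0)) (.node (.leaf 0x0) (.leaf 0x0))) (.node (.node (.leaf 0x0) (.leaf 0x0)) (.node (.leaf 0x0) (.leaf 0x0)))) (.node (.node (.node (.leaf 0x0) (.leaf 0x0)) (.node (.leaf 0x0) (.leaf 0x0))) (.node (.node (.leaf 0x0) (.leaf 0x0)) (.node (.leaf 0x0) (.leaf 0x0))))) (.node (.node (.node (.node (.leaf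 0x0) (.leaf 0x0)) (.node (.leaf 0x0) (.leaf 0x0))) (.node (.node (.leaf 0x0) (.leaf 0x0)) (.node (.leaf 0x0) (.leaf 0x0)))) (.node (.node (.node (.leaf 0x0) (.leaf 0x0)) (.node (.leaf 0x0) (.leaf 0x0))) (.node (.node (.leaf 0x0) (.leaf 0x0)) (.node (.leaf 0x0) (.leaf 0x0)))))) (.node (.node (.node (.node (.node (.leaf 0x0) (.leaf 0x0)) (.node (.leaf 0x0) (.leaf 0x0))) (.node (.node (.leaf 0x0) (.leaf 0x0)) (.node (.leaf 0x0) (.leaf 0x0)))) (.node (.node (.node (.leaf 0x0) (.leaf 0x0)) (.node (.leaf 0x0) (.leaf 0x0))) (.node (.node (.leaf 0x0) (.leaf 0x0)) (.node (.leaf 0x0) (.leaf 0x0))))) (.node (.node (.node (.node (.leaf 0x0) (.leaf 0x0)) (.node (.leaf 0x0) (.leaf 0x0))) (.node (.node (.leaf 0x0) (.leaf 0x0)) (.node (.leaf 0x0) (.leaf 0x0)))) (.node (.node (.node (.leaf 0x0) (.leaf 0x0)) (.node (.leaf 0x0) (.leaf 0x0))) (.node (.node (.leaf 0x0) (.leaf 0x0)) (.node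 (.leaf 0x0) (.leaf 0x0))))))) (.node (.node (.node (.node (.node (.node (.leaf 0x0) (.leaf 0x0)) (.node (.leaf 0x0) (.leaf 0x0))) (.node (.node (.leaf 0x0) (.leaf 0x0)) (.node (.leaf 0x0) (.leaf 0x0)))) (.node (.node (.node (.leaf 0x0) (.leaf 0x0)) (.node (.leaf 0x0) (.leaf 0x0))) (.node (.node (.leaf 0x0) (.leaf 0x0)) (.node (.leaf 0x0) (.leaf 0x0))))) (.node (.node (.node (.node (.leaf 0x0) (.leaf 0x0)) (.node (.leaf 0x0) (.leaf 0x0))) (.node (.node (.leaf 0x0) (.leaf 0x0)) (.node (.leaf 0x0) (.leaf 0x0)))) (.node (.node (.node (.leaf 0x0) (.leaf 0x0)) (.node (.leaf 0x0) (.leaf 0x0))) (.node (.node (.leaf 0x0) (.leaf 0x0)) (.node (.leaf 0x0) (.leaf 0x0)))))) (.node (.node (.node (.node (.node (.leaf 0x0) (.leaf 0x0)) (.node (.leaf 0x0) (.leaf 0x0))) (.node (.node (.leaf 0x0) (.leaf 0x0)) (.node (.leaf 0x0) (.leaf 0x0)))) (.node (.node (.node (.leaf 0x0) (.leaf 0x0))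 (.node (.leaf 0x0) (.leaf 0x0))) (.node (.node (.leaf 0x0) (.leaf 0x0)) (.node (.leaf 0x0) (.leaf 0x0))))) (.node (.node (.node (.node (.leaf 0x0) (.leaf 0x0)) (.node (.leaf 0x0) (.leaf 0x0))) (.node (.node (.leaf 0x0) (.leaf 0x0)) (.node (.leaf 0x0) (.leaf 0x0)))) (.node (.node (.node (.leaf 0x0) (.leaf 0x0)) (.node (.leaf 0x0) (.leaf 0x0))) (.node (.node (.leaf 0x0) (.leaf 0x0)) (.node (.leaf 0x0) (.leaf 0x0)))))))) (.node (.node (.node (.node (.node (.node (.node (.leaf 0x0) (.leaf 0x0)) (.node (.leaf 0x0) (.leaf 0x0))) (.node (.node (.leaf 0x0) (.leaf 0x0)) (.node (.leaf 0x0) (.leaf 0x0)))) (.node (.node (.node (.leaf 0x0) (.leaf 0x0)) (.node (.leaf 0x0) (.leaf 0x0))) (.node (.node (.leaf 0x0) (.leaf 0x0)) (.node (.leaf 0x0) (.leaf 0x0))))) (.node (.node (.node (.node (.leaf 0x0) (.leaf 0x0)) (.node (.leaf 0x0) (.leaf 0x0))) (.node (.node (.leaf 0x0) (.leaf 0x0))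 (.node (.leaf 0x0) (.leaf 0x0)))) (.node (.node (.node (.leaf 0x0) (.leaf 0x0)) (.node (.leaf 0x0) (.leaf 0x0))) (.node (.node (.leaf 0x0) (.leaf 0x0)) (.node (.leaf 0x0) (.leaf 0x0)))))) (.node (.node (.node (.node (.node (.leaf 0x0) (.leaf 0x0)) (.node (.leaf 0x0) (.leaf 0x0))) (.node (.node (.leaf 0x0) (.leaf 0x0)) (.node (.leaf 0x0) (.leaf 0x0)))) (.node (.node (.node (.leaf 0x0) (.leaf 0x0)) (.node (.leaf 0x0) (.leaf 0x0))) (.node (.node (.leaf 0x0) (.leaf 0x0)) (.node (.leaf 0x0) (.leaf 0x0))))) (.node (.node (.node (.node (.leaf 0x0) (.leaf 0x0)) (.node (.leaf 0x0) (.leaf 0x0))) (.node (.node (.leaf 0x0) (.leaf 0x0)) (.node (.leaf 0x0) (.leaf 0x0)))) (.node (.node (.node (.leaf 0x0) (.leaf 0x0)) (.node (.leaf 0x0) (.leaf 0x0))) (.node (.node (.leaf 0x0) (.leaf 0x0)) (.node (.leaf 0x0) (.leaf 0x0))))))) (.node (.node (.node (.node (.node (.node (.leaf 0x0) (.leaf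 0x0)) (.node (.leaf 0x0) (.leaf 0x0))) (.node (.node (.leaf 0x0) (.leaf 0x0)) (.node (.leaf 0x0) (.leaf 0x0)))) (.node (.node (.node (.leaf 0x0) (.leaf 0x0)) (.node (.leaf 0x0) (.leaf 0x0))) (.node (.node (.leaf 0x0) (.leaf 0x0)) (.node (.leaf 0x0) (.leaf 0x0))))) (.node (.node (.node (.node (.leaf 0x0) (.leaf 0x0)) (.node (.leaf 0x0) (.leaf 0x0))) (.node (.node (.leaf 0x0) (.leaf 0x0)) (.node (.leaf 0x0) (.leaf 0x0)))) (.node (.node (.node (.leaf 0x0) (.leaf 0x0)) (.node (.leaf 0x0) (.leaf 0x0))) (.node (.node (.leaf 0x0) (.leaf 0x0)) (.node (.leaf 0x0) (.leaf 0x0)))))) (.node (.node (.node (.node (.node (.leaf 0x0) (.leaf 0x0)) (.node (.leaf 0x0) (.leaf 0x0))) (.node (.node (.leaf 0x0) (.leaf 0x0)) (.node (.leaf 0x0) (.leaf 0x0)))) (.node (.node (.node (.leaf 0x0) (.leaf 0x0)) (.node (.leaf 0x0) (.leaf 0x0))) (.node (.node (.leaf 0x0) (.leaf 0x0)) (.node (.leaf 0x0)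 (.leaf 0x0))))) (.node (.node (.node (.node (.leaf 0x0) (.leaf 0x0)) (.node (.leaf 0x0) (.leaf 0x0))) (.node (.node (.leaf 0x0) (.leaf 0x0)) (.node (.leaf 0x0) (.leaf 0x0)))) (.node (.node (.node (.leaf 0x0) (.leaf 0x0)) (.node (.leaf 0x0) (.leaf 0x0))) (.node (.node (.leaf 0x0) (.leaf 0x0)) (.node (.leaf 0x0) (.leaf 0x0))))))))) (.node (.node (.node (.node (.node (.node (.node (.node (.leaf 0x0) (.leaf 0x0)) (.node (.leaf 0x0) (.leaf 0x0))) (.node (.node (.leaf 0x0) (.leaf 0x0)) (.node (.leaf 0x0) (.leaf 0x0)))) (.node (.node (.node (.leaf 0x0) (.leaf 0x0)) (.node (.leaf 0x0) (.leaf 0x0))) (.node (.node (.leaf 0x0) (.leaf 0x0)) (.node (.leaf 0x0) (.leaf 0x0))))) (.node (.node (.node (.node (.leaf 0x0) (.leaf 0x0)) (.node (.leaf 0x0) (.leaf 0x0))) (.node (.node (.leaf 0x0) (.leaf 0x0)) (.node (.leaf 0x0) (.leaf 0x0)))) (.node (.node (.node (.leaf 0x0) (.leaf 0x0)) (.node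 (.leaf 0x0) (.leaf 0x0))) (.node (.node (.leaf 0x0) (.leaf 0x0)) (.node (.leaf 0x0) (.leaf 0x0)))))) (.node (.node (.node (.node (.node (.leaf 0x0) (.leaf 0x0)) (.node (.leaf 0x0) (.leaf 0x0))) (.node (.node (.leaf 0x0) (.leaf 0x0)) (.node (.leaf 0x0) (.leaf 0x0)))) (.node (.node (.node (.leaf 0x0) (.leaf 0x0)) (.node (.leaf 0x0) (.leaf 0x0))) (.node (.node (.leaf 0x0) (.leaf 0x0)) (.node (.leaf 0x0) (.leaf 0x0))))) (.node (.node (.node (.node (.leaf 0x0) (.leaf 0x0)) (.node (.leaf 0x0) (.leaf 0x0))) (.node (.node (.leaf 0x0) (.leaf 0x0)) (.node (.leaf 0x0) (.leaf 0x0)))) (.node (.node (.node (.leaf 0x0) (.leaf 0x0)) (.node (.leaf 0x0) (.leaf 0x0))) (.node (.node (.leaf 0x0) (.leaf 0x0)) (.node (.leaf 0x0) (.leaf 0x0))))))) (.node (.node (.node (.node (.node (.node (.leaf 0x0) (.leaf 0x0)) (.node (.leaf 0x0) (.leaf 0x0))) (.node (.node (.leaf 0x0) (.leaf 0x0)) (.node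 (.leaf 0x0) (.leaf 0x0)))) (.node (.node (.node (.leaf 0x0) (.leaf 0x0)) (.node (.leaf 0x0) (.leaf 0x0))) (.node (.node (.leaf 0x0) (.leaf 0x0)) (.node (.leaf 0x0) (.leaf 0x0))))) (.node (.node (.node (.node (.leaf 0x0) (.leaf 0x0)) (.node (.leaf 0x0) (.leaf 0x0))) (.node (.node (.leaf 0x0) (.leaf 0x0)) (.node (.leaf 0x0) (.leaf 0x0)))) (.node (.node (.node (.leaf 0x0) (.leaf 0x0)) (.node (.leaf 0x0) (.leaf 0x0))) (.node (.node (.leaf 0x0) (.leaf 0x0)) (.node (.leaf 0x0) (.leaf 0x0)))))) (.node (.node (.node (.node (.node (.leaf 0x0) (.leaf 0x0)) (.node (.leaf 0x0) (.leaf 0x0))) (.node (.node (.leaf 0x0) (.leaf 0x0)) (.node (.leaf 0x0) (.leaf 0x0)))) (.node (.node (.node (.leaf 0x0) (.leaf 0x0)) (.node (.leaf 0x0) (.leaf 0x0))) (.node (.node (.leaf 0x0) (.leaf 0x0)) (.node (.leaf 0x0) (.leaf 0x0))))) (.node (.node (.node (.node (.leaf 0x0) (.leaf 0x0)) (.node (.leaf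 0x0) (.leaf 0x0))) (.node (.node (.leaf 0x0) (.leaf 0x0)) (.node (.leaf 0x0) (.leaf 0x0)))) (.node (.node (.node (.leaf 0x0) (.leaf 0x0)) (.node (.leaf 0x0) (.leaf 0x0))) (.node (.node (.leaf 0x0) (.leaf 0x0)) (.node (.leaf 0x0) (.leaf 0x0)))))))) (.node (.node (.node (.node (.node (.node (.node (.leaf 0x0) (.leaf 0x0)) (.node (.leaf 0x0) (.leaf 0x0))) (.node (.node (.leaf 0x0) (.leaf 0x0)) (.node (.leaf 0x0) (.leaf 0x0)))) (.node (.node (.node (.leaf 0x0) (.leaf 0x0)) (.node (.leaf 0x0) (.leaf 0x0))) (.node (.node (.leaf 0x0) (.leaf 0x0)) (.node (.leaf 0x0) (.leaf 0x0))))) (.node (.node (.node (.node (.leaf 0x0) (.leaf 0x0)) (.node (.leaf 0x0) (.leaf 0x0))) (.node (.node (.leaf 0x0) (.leaf 0x0)) (.node (.leaf 0x0) (.leaf 0x0)))) (.node (.node (.node (.leaf 0x0) (.leaf 0x0)) (.node (.leaf 0x0) (.leaf 0x0))) (.node (.node (.leaf 0x0) (.leaf 0x0)) (.node (.leaf 0x0) (.leaf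 0x0)))))) (.node (.node (.node (.node (.node (.leaf 0x0) (.leaf 0x0)) (.node (.leaf 0x0) (.leaf 0x0))) (.node (.node (.leaf 0x0) (.leaf 0x0)) (.node (.leaf 0x0) (.leaf 0x0)))) (.node (.node (.node (.leaf 0x0) (.leaf 0x0)) (.node (.leaf 0x0) (.leaf 0x0))) (.node (.node (.leaf 0x0) (.leaf 0x0)) (.node (.leaf 0x0) (.leaf 0x0))))) (.node (.node (.node (.node (.leaf 0x0) (.leaf 0x0)) (.node (.leaf 0x0) (.leaf 0x0))) (.node (.node (.leaf 0x0) (.leaf 0x0)) (.node (.leaf 0x0) (.leaf 0x0)))) (.node (.node (.node (.leaf 0x0) (.leaf 0x0)) (.node (.leaf 0x0) (.leaf 0x0))) (.node (.node (.leaf 0x0) (.leaf 0x0)) (.node (.leaf 0x0) (.leaf 0x0))))))) (.node (.node (.node (.node (.node (.node (.leaf 0x0) (.leaf 0x0)) (.node (.leaf 0x0) (.leaf 0x0))) (.node (.node (.leaf 0x0) (.leaf 0x0)) (.node (.leaf 0x0) (.leaf 0x0)))) (.node (.node (.node (.leaf 0x0) (.leaf 0x0)) (.node (.leaf 0x0)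 (.leaf 0x0))) (.node (.node (.leaf 0x0) (.leaf 0x0)) (.node (.leaf 0x0) (.leaf 0x0))))) (.node (.node (.node (.node (.leaf 0x0) (.leaf 0x0)) (.node (.leaf 0x0) (.leaf 0x0))) (.node (.node (.leaf 0x0) (.leaf 0x0)) (.node (.leaf 0x0) (.leaf 0x0)))) (.node (.node (.node (.leaf 0x0) (.leaf 0x0)) (.node (.leaf 0x0) (.leaf 0x0))) (.node (.node (.leaf 0x0) (.leaf 0x0)) (.node (.leaf 0x0) (.leaf 0x0)))))) (.node (.node (.node (.node (.node (.leaf 0x0) (.leaf 0x0)) (.node (.leaf 0x0) (.leaf 0x0))) (.node (.node (.leaf 0x0) (.leaf 0x0)) (.node (.leaf 0x0) (.leaf 0x0)))) (.node (.node (.node (.leaf 0x0) (.leaf 0x0)) (.node (.leaf 0x0) (.leaf 0x0))) (.node (.node (.leaf 0x0) (.leaf 0x0)) (.node (.leaf 0x0) (.leaf 0x0))))) (.node (.node (.node (.node (.leaf 0x0) (.leaf 0x0)) (.node (.leaf 0x0) (.leaf 0x0))) (.node (.node (.leaf 0x0) (.leaf 0x0)) (.node (.leaf 0x0) (.leaf 0x0))))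 (.node (.node (.node (.leaf 0x0) (.leaf 0x0)) (.node (.leaf 0x0) (.leaf 0x0))) (.node (.node (.leaf 0x0) (.leaf 0x0)) (.node (.leaf 0x0) (.leaf 0x0))))))))))))

end Cfsg.Agent.Lib.H12.Co3M.Ct
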