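import Cfsg.Agent.Lib.H12.J3M.MonoWide
import Cfsg.Agent.Lib.H12.Co3M.Ct.Tree0
import Cfsg.Agent.Lib.H12.Co3M.Ct.Tree1
import Cfsg.Agent.Lib.H12.Co3M.Ct.Tree2
import Cfsg.Agent.Lib.H12.Co3M.Ct.Tree3

set_option autoImplicit false
set_option maxRecDepth 100000

/-! # Data of the monomial coset enumeration (generated) -/

namespace Cfsg.Agent.Lib.H12.Co3M.Ct

open Cfsg.Agent.Lib.H17.CosetCert (BT WT)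
open Cfsg.Agent.Lib.H17.MonoCert
open Cfsg.Agent.Lib.H12.J3M

/-- the packed facts -/
def factTree : BT := .node (.node (factTree0) (factTree1)) (.node (factTree2) (factTree3))

/-- the fact with a given number -/
noncomputable def F (f : ℕ) : (ℕ × ℕ × ℕ) × List ℤ :=
  factOfW factTree 8192 32 215 52656145834278593348959013841835216159447547700274555627155488768 16 65536 6 30 1073741824 536870912 f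

/-- the words -/
def words : WT := .node (.node (.node (.node (.node (.node (.node (.node (.node (.node (.leaf [0] false) (.leaf [0, 2, 0, 3, 1, 2, 1, 2, 5, 2, 2, 2, 4] true)) (.node (.leaf [0, 3, 0, 3, 4, 2, 5, 2, 1, 3, 3, 3] true) (.leaf [6, 6, 0, 6, 5, 5, 1, 1, 5, 5, 1, 3, 5, 7, 1, 7, 7, 1, 1, 5, 1, 4, 4, 0, 4, 2, 4, 0, 3] true))) (.node (.node (.leaf [0, 0, 4, 3, 5, 3, 4, 2, 5, 1, 2] true) (.leaf [6, 4, 0, 0, 0, 0, 7, 4, 4, 1, 5, 5, 1, 1, 1, 1, 4] true)) (.node (.leaf [0, 0, 2, 2, 4, 1, 1, 3, 0, 5, 2, 1, 2] true) (.nil)))) (.node (.node (.node (.leaf [0, 0, 4, 3, 5, 2, 2, 2, 1, 2] true) (.leaf [0, 2, 2, 2, 0, 2, 2, 4, 2, 5, 1, 2, 2] true)) (.node (.leaf [0, 0, 0, 4, 2, 5, 1, 1, 2, 4, 3, 5, 3] true) (.leaf [6,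 5, 2, 5, 1, 3, 0, 5, 1, 7, 2, 0, 5, 2, 1, 2, 5, 0, 2, 4, 0, 0] true))) (.node (.node (.leaf [0, 0, 2, 5, 1, 1, 3, 0, 4, 2, 1, 2] true) (.leaf [6, 3, 6, 1, 1, 4, 0, 5, 5, 0, 3, 3, 7, 2, 7, 4, 0, 4, 4, 3, 1, 4, 0, 4, 4, 3, 0, 0] true)) (.node (.leaf [0, 0, 4, 2, 1, 2, 0, 0, 5, 2, 2, 1, 2] true) (.nil))))) (.node (.node (.node (.node (.leaf [2, 2, 4, 2, 5, 2, 4, 2, 5] true) (.leaf [0, 2, 2, 0, 2, 2, 2, 1, 4, 3, 5, 1, 3] true)) (.node (.leaf [0, 0, 0, 0, 3, 3, 1, 4, 4, 3, 5, 3, 5] true) (.leaf [6, 2, 1, 4, 1, 4, 0, 4, 2, 5, 7, 4, 4, 1, 5, 1, 5, 2, 1, 4, 3, 3, 1] true))) (.node (.node (.leaf [0, 0, 0, 0, 3, 3, 1, 5, 5, 3, 4, 4] true) (.leaf [6, 5, 5, 3, 1, 5, 0, 0, 5, 7, 3, 5, 5, 1, 4, 4, 2, 0, 4, 2, 4] true)) (.node (.leaf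 [0, 0, 3, 1, 3, 5, 5, 1, 1, 3, 0, 4, 4] true) (.nil)))) (.node (.node (.node (.leaf [0, 0, 0, 5, 2, 4, 1, 4, 2, 2, 5] true) (.leaf [0, 3, 0, 4, 3, 3, 5, 2, 1, 2, 4, 3, 5] true)) (.node (.leaf [0, 0, 2, 0, 3, 5, 2, 4, 1, 3, 3, 0, 3] true) (.leaf [2, 2, 2, 2, 4, 3, 5] true))) (.node (.node (.leaf [0, 2, 0, 2, 2, 2, 1, 3, 4, 2, 2, 5] true) (.leaf [6, 3, 6, 5, 5, 0, 2, 4, 2, 0, 4, 3, 3, 7, 2, 7, 0, 4, 1, 4, 4, 0, 4, 2, 0, 4, 0, 3] true)) (.node (.leaf [0, 0, 5, 2, 4, 0, 2, 2, 0, 5, 2, 2, 4] true) (.nil)))))) (.node (.node (.node (.node (.node (.leaf [0, 2, 0, 3, 1, 2, 1, 3] true) (.leaf [0, 2, 0, 4, 3, 3, 5, 1, 2, 5, 2, 2, 4] true)) (.node (.leaf [0, 5, 2, 2, 4, 1, 2, 2, 0, 5, 2, 4] true) (.leaf [6, 6, 0, 6, 1, 3, 4, 4,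 0, 3, 5, 1, 1, 5, 7, 1, 7, 7, 0, 3, 3, 4, 1, 4, 0, 0, 4, 0, 5, 3] true))) (.node (.node (.leaf [0, 3, 0, 4, 2, 5, 1, 2, 4, 3, 5] true) (.leaf [6, 5, 5, 1, 5, 5, 0, 2, 7, 0, 0, 2, 4, 0, 4, 0, 3, 0, 5, 3] true)) (.node (.leaf [0, 0, 2, 5, 3, 4, 2, 1, 4, 2, 2, 2, 5] true) (.nil)))) (.node (.node (.node (.leaf [0, 0, 0, 0, 0, 2, 2, 0, 3, 0, 3] true) (.leaf [0, 3, 0, 3, 0, 3, 3, 0, 5, 3, 3, 4, 3] true)) (.node (.leaf [0, 0, 0, 5, 3, 3, 3, 4, 2, 1, 3, 3, 3] true) (.leaf [6, 6, 0, 2, 0, 7, 0, 4, 2, 4, 0, 4, 2, 6, 1, 3, 1, 7, 7, 0, 4, 3, 1, 5, 0, 5, 0, 3, 4, 3] true))) (.node (.node (.leaf [0, 0, 3, 4, 3, 5, 1, 2, 1, 4, 2, 5] true) (.leaf [6, 3, 6, 3, 0, 0, 4, 1, 4, 4, 1, 5, 1, 7, 2, 7, 5, 0, 0, 2, 5, 1, 4, 0, 3, 0] true))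 (.node (.leaf [0, 0, 4, 3, 5, 1, 3, 1, 4, 4, 2, 5, 5] true) (.nil))))) (.node (.node (.node (.node (.leaf [0, 0, 3, 1, 3, 3, 4, 2, 5, 3] true) (.leaf [0, 2, 2, 0, 5, 3, 3, 4, 0, 5, 2, 4, 2] true)) (.node (.leaf [0, 0, 0, 2, 2, 2, 1, 2, 4, 2, 2, 5, 3] true) (.leaf [6, 5, 3, 1, 3, 4, 0, 5, 1, 7, 3, 0, 4, 2, 4, 2, 0, 5, 2, 0, 4, 1] true))) (.node (.node (.leaf [0, 0, 0, 4, 2, 5, 3, 1, 4, 2, 2, 5] true) (.leaf [6, 4, 3, 4, 0, 4, 1, 3, 4, 7, 0, 2, 0, 4, 3, 1, 5, 0, 0, 5, 0] true)) (.node (.leaf [0, 0, 3, 3, 0, 4, 3, 3, 5, 2, 1, 3, 3] true) (.nil)))) (.node (.node (.node (.leaf [0, 0, 3, 1, 3, 4, 4, 3, 5, 3, 5] true) (.leaf [0, 3, 3, 0, 4, 3, 5, 0, 4, 2, 5, 2, 2] true)) (.node (.leaf [0, 0, 2, 2, 0, 3, 5, 3, 4, 1, 1, 2,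 2] true) (.nil))) (.node (.node (.leaf [0, 2, 2, 0, 3, 3, 1, 2, 2, 1, 3, 3] true) (.leaf [6, 3, 6, 1, 1, 4, 1, 5, 1, 4, 1, 2, 2, 7, 2, 7, 0, 4, 3, 0, 3, 0, 5, 1, 3, 1, 5, 0] true)) (.node (.leaf [0, 2, 0, 2, 1, 2, 4, 2, 5, 0, 4, 2, 5] true) (.nil))))))) (.node (.node (.node (.node (.node (.node (.leaf [2, 2, 2, 2, 4, 3, 5] true) (.leaf [0, 2, 0, 3, 3, 1, 5, 3, 3, 3, 4, 0, 3] true)) (.node (.leaf [0, 3, 0, 5, 2, 4, 2, 1, 2, 4, 3, 5] true) (.leaf [6, 6, 0, 6, 4, 3, 4, 1, 3, 4, 4, 1, 1, 5, 7, 1, 7, 7, 0, 5, 1, 5, 0, 0, 0, 0, 4, 1, 3, 3] true))) (.node (.node (.leaf [0, 2, 0, 2, 2, 1, 2, 0, 4, 3, 5] true) (.leaf [6, 3, 0, 0, 4, 0, 4, 2, 7, 2, 0, 4, 0, 5, 5, 3, 0, 4, 1, 3] true)) (.node (.leaf [0, 0, 2, 4, 2, 5, 0, 3, 3,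 0, 3, 3, 3] true) (.nil)))) (.node (.node (.node (.leaf [0, 0, 5, 5, 3, 4, 3, 4, 1, 2] true) (.leaf [0, 2, 4, 2, 5, 2, 0, 3, 3, 0, 4, 3, 5] true)) (.node (.leaf [0, 0, 0, 5, 1, 2, 0, 0, 4, 1, 3, 3, 3] true) (.leaf [6, 1, 5, 2, 1, 3, 4, 4, 0, 5, 0, 7, 4, 0, 2, 2, 4, 1, 1] true))) (.node (.node (.leaf [0, 0, 3, 1, 4, 3, 5, 3, 3, 4, 3, 5] true) (.leaf [6, 3, 6, 1, 2, 2, 0, 5, 1, 5, 3, 5, 1, 7, 2, 7, 0, 0, 5, 1, 1, 4, 0, 5, 0, 2] true)) (.node (.leaf [0, 0, 4, 2, 5, 2, 1, 2, 2, 0, 4, 2, 5] true) (.nil))))) (.node (.node (.node (.node (.leaf [0, 0, 2, 2, 2, 4, 3, 5, 1, 2] true) (.leaf [0, 2, 2, 0, 4, 2, 5, 2, 0, 2, 5, 2, 4] true)) (.node (.leaf [0, 0, 0, 0, 5, 3, 4, 2, 1, 5, 2, 4, 3] true) (.leaf [6, 2, 1, 5, 3, 3, 5, 3,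 7, 3, 5, 3, 0, 5, 0, 5, 1, 5, 1, 1, 2] true))) (.node (.node (.leaf [0, 0, 0, 2, 2, 2, 1, 2, 5, 3, 4, 3] true) (.leaf [6, 1, 2, 1, 5, 1, 4, 2, 5, 7, 3, 3, 1, 4, 2, 0, 5, 1, 1, 4, 3] true)) (.node (.leaf [0, 0, 3, 1, 5, 0, 2, 0, 2, 2, 2, 1, 4] true) (.nil)))) (.node (.node (.node (.leaf [0, 0, 2, 1, 3, 3, 1, 2, 2, 0, 3] true) (.leaf [0, 3, 0, 5, 5, 5, 5, 2, 5, 1, 3, 3, 3] true)) (.node (.leaf [0, 0, 2, 0, 5, 3, 3, 4, 0, 5, 3, 3, 4] true) (.nil))) (.node (.node (.leaf [0, 2, 0, 4, 2, 5, 3, 1, 3, 5, 3, 4] true) (.leaf [6, 3, 6, 0, 3, 5, 1, 1, 5, 0, 5, 3, 0, 7, 2, 7, 3, 4, 0, 4, 0, 5, 0, 2, 5, 2] true)) (.node (.leaf [0, 0, 5, 3, 4, 1, 4, 2, 5, 2, 0, 3, 3] true) (.nil)))))) (.node (.node (.node (.node (.node (.leaf [0,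 0, 2, 2, 5, 3, 4, 1, 2] true) (.leaf [0, 2, 0, 5, 2, 5, 5, 5, 5, 1, 4, 3, 5] true)) (.node (.leaf [0, 0, 0, 0, 2, 2, 0, 2, 2, 0, 4, 3, 5] true) (.leaf [3, 2] true))) (.node (.node (.leaf [0, 0, 0, 0, 2, 4, 3, 5, 2, 1, 2, 2] true) (.leaf [6, 4, 0, 4, 3, 0, 3, 4, 1, 7, 5, 2, 5, 0, 5, 5, 1, 5, 2, 5, 3] true)) (.node (.leaf [0, 0, 3, 1, 3, 3, 4, 1, 1, 3, 0, 3, 5] true) (.nil)))) (.node (.node (.node (.leaf [0, 0, 0, 2, 2, 2, 1, 2, 4, 3, 5] true) (.leaf [0, 3, 0, 4, 2, 5, 1, 3, 4, 3, 5, 2, 2] true)) (.node (.leaf [0, 0, 2, 0, 2, 4, 2, 5, 0, 2, 4, 2, 5] true) (.leaf [6, 0, 6, 5, 5, 0, 4, 0, 4, 3, 7, 1, 7, 3, 1, 5, 5, 0, 5, 5, 1, 2] true))) (.node (.node (.leaf [0, 0, 4, 3, 5, 1, 3, 1, 5, 3, 3, 4] true) (.leaf [6, 3, 6, 4,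 2, 4, 0, 5, 5, 0, 2, 5, 2, 7, 2, 7, 5, 1, 4, 0, 5, 0, 3, 5, 1, 5, 0, 2] true)) (.node (.leaf [0, 0, 5, 1, 3, 3, 3, 0, 3, 0, 4, 1, 2] true) (.nil))))) (.node (.node (.node (.node (.leaf [0, 0, 3, 1, 4, 4, 3, 3, 5, 5] true) (.leaf [0, 2, 2, 1, 4, 2, 5, 3, 1, 5, 2, 2, 4] true)) (.node (.leaf [0, 0, 0, 2, 4, 3, 3, 5, 1, 1, 4, 3, 5] true) (.leaf [6, 2, 0, 4, 4, 0, 4, 0, 0, 7, 1, 1, 1, 5, 5, 2, 1, 3, 3, 4, 1] true))) (.node (.node (.leaf [0, 0, 2, 0, 2, 0, 2, 0, 4, 2, 2, 5] true) (.leaf [6, 0, 2, 5, 3, 1, 5, 3, 0, 0, 7, 3, 3, 1, 4, 0, 2, 0, 4, 4] true)) (.node (.leaf [0, 0, 3, 3, 3, 0, 5, 2, 4, 0, 2, 0, 3] true) (.nil)))) (.node (.node (.node (.leaf [0, 0, 3, 1, 5, 3, 5, 5, 5, 2, 5] true) (.leaf [0, 3, 4, 2, 5, 0, 3, 4,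 3, 5, 1, 2, 2] true)) (.node (.leaf [0, 0, 2, 2, 1, 3, 4, 3, 5, 2, 0, 2, 2] true) (.nil))) (.node (.node (.leaf [0, 2, 2, 1, 5, 2, 4, 1, 5, 2, 2, 4] true) (.leaf [6, 6, 0, 6, 0, 5, 3, 3, 1, 5, 0, 3, 7, 1, 7, 7, 0, 2, 4, 1, 5, 0, 4, 0, 2, 2, 2, 1] true)) (.node (.leaf [0, 2, 0, 2, 4, 2, 5, 3, 3, 1, 4, 3, 5] true) (.nil)))))))) (.node (.node (.node (.node (.node (.node (.node (.leaf [2, 2, 2, 2, 2, 2, 2, 2, 2, 2, 2] true) (.leaf [0, 2, 0, 3, 1, 2, 1, 5, 3, 5, 3, 4, 4] true)) (.node (.leaf [0, 3, 0, 4, 2, 5, 1, 2, 5, 3, 4, 3] true) (.leaf [6, 6, 0, 6, 4, 0, 0, 4, 2, 1, 5, 5, 2, 0, 7, 1, 7, 7, 2, 4, 1, 5, 1, 1, 5, 0, 5, 2, 2, 1] true))) (.node (.node (.leaf [0, 0, 5, 2, 5, 5, 5, 3, 5, 1, 2] true) (.leaf [6, 0, 3, 5, 0,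 4, 1, 2, 7, 2, 0, 4, 0, 5, 2, 2, 0, 3, 5, 5, 1] true)) (.node (.leaf [0, 0, 2, 4, 1, 2, 0, 0, 2, 5, 2, 1, 2] true) (.nil)))) (.node (.node (.node (.leaf [0, 0, 5, 2, 2, 2, 4, 2, 1, 2] true) (.leaf [0, 2, 2, 4, 2, 5, 0, 3, 3, 0, 4, 3, 5] true)) (.node (.leaf [0, 0, 0, 4, 4, 4, 4, 2, 4, 1, 3, 3, 3] true) (.leaf [6, 6, 5, 2, 0, 2, 5, 3, 0, 4, 1, 7, 7, 5, 1, 3, 4, 0, 0, 5, 3] true))) (.node (.node (.leaf [0, 0, 3, 1, 3, 5, 0, 2, 1, 1, 4, 3] true) (.leaf [6, 3, 6, 2, 2, 1, 4, 4, 1, 5, 0, 0, 7, 2, 7, 2, 0, 4, 0, 3, 3, 0, 5, 0, 0, 5, 2, 1] true)) (.node (.leaf [0, 0, 4, 2, 5, 1, 4, 3, 5, 1, 2, 0, 3] true) (.nil))))) (.node (.node (.node (.node (.leaf [0, 0, 0, 2, 2, 2, 1, 3, 3, 3] true) (.leaf [0, 2, 2, 0, 3, 3, 4, 3, 5,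 0, 4, 2, 5] true)) (.node (.leaf [0, 0, 0, 0, 4, 4, 3, 5, 2, 5, 1, 1, 2] true) (.leaf [6, 2, 4, 2, 0, 3, 5, 0, 7, 3, 1, 5, 3, 5, 1, 2] true))) (.node (.node (.leaf [0, 0, 0, 0, 5, 2, 2, 2, 4, 1, 2, 2] true) (.leaf [6, 0, 4, 0, 2, 5, 5, 0, 5, 7, 4, 4, 1, 3, 5, 5, 1, 4, 1] true)) (.node (.leaf [0, 0, 3, 1, 4, 4, 0, 2, 1, 1, 5, 3, 5] true) (.nil)))) (.node (.node (.node (.leaf [0, 0, 2, 0, 2, 2, 0, 3, 0, 3, 3] true) (.leaf [0, 3, 0, 5, 2, 4, 2, 1, 2, 5, 3, 4, 3] true)) (.node (.leaf [0, 0, 2, 0, 5, 2, 2, 4, 0, 0, 4, 2, 5] true) (.nil))) (.node (.node (.leaf [0, 2, 0, 3, 3, 0, 3, 3, 0, 5, 2, 4] true) (.leaf [6, 3, 6, 0, 4, 2, 4, 0, 4, 1, 3, 3, 0, 7, 2, 7, 3, 1, 4, 1, 5, 0, 0, 4, 1, 1] true)) (.node (.leaf [0, 0, 5, 3,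 3, 4, 2, 1, 2, 1, 4, 2, 5] true) (.nil)))))) (.node (.node (.node (.node (.node (.leaf [2, 2, 5, 5, 2, 5, 5, 5] true) (.leaf [0, 2, 0, 5, 2, 4, 1, 2, 2, 2, 4, 2, 5] true)) (.node (.leaf [0, 0, 0, 0, 0, 5, 2, 4, 3, 0, 3, 0, 3] true) (.leaf [6, 6, 0, 6, 2, 2, 5, 1, 2, 5, 3, 1, 1, 4, 7, 1, 7, 7, 5, 1, 4, 3, 3, 0, 4, 1, 1, 5, 1] true))) (.node (.node (.leaf [0, 3, 0, 5, 2, 4, 2, 1, 5, 3, 4] true) (.leaf [6, 2, 2, 1, 4, 4, 1, 1, 1, 7, 5, 1, 1, 4, 1, 5, 1, 2, 5, 0, 4, 3] true)) (.node (.leaf [0, 0, 3, 0, 4, 3, 5, 2, 2, 2, 1, 2, 2] true) (.nil)))) (.node (.node (.node (.leaf [0, 0, 0, 0, 5, 3, 4, 2, 1, 2, 2] true) (.leaf [0, 3, 0, 3, 4, 2, 5, 2, 1, 2, 4, 3, 5] true)) (.node (.leaf [0, 0, 0, 5, 5, 3, 4, 4, 2, 1, 3, 3, 3] true)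 (.leaf [6, 2, 5, 2, 0, 2, 4, 3, 4, 1, 3, 7, 5, 5, 0, 5, 0, 0, 5, 5, 3, 1, 3, 1] true))) (.node (.node (.leaf [0, 0, 4, 3, 3, 5, 0, 3, 0, 3, 0, 3] true) (.leaf [6, 3, 6, 3, 5, 0, 5, 0, 0, 5, 2, 5, 1, 7, 2, 7, 1, 3, 4, 1, 4, 0, 2, 2, 4, 1, 1, 1] true)) (.node (.leaf [0, 0, 4, 4, 2, 1, 2, 0, 0, 5, 5, 1, 2] true) (.nil))))) (.node (.node (.node (.node (.leaf [0, 0, 3, 1, 3, 5, 5, 3, 4, 4] true) (.leaf [0, 2, 2, 1, 3, 4, 2, 5, 1, 3, 4, 3, 5] true)) (.node (.leaf [0, 0, 0, 2, 2, 2, 1, 5, 1, 1, 3, 0, 4] true) (.leaf [6, 0, 2, 4, 2, 0, 2, 0, 4, 4, 2, 1, 7, 0, 3, 4, 1, 4, 4, 0, 3, 0, 5, 0, 5] true))) (.node (.node (.leaf [0, 0, 0, 5, 2, 4, 1, 2, 5, 3, 4, 3] true) (.leaf [6, 0, 2, 0, 5, 1, 4, 4, 1, 5, 7, 4, 1, 4, 3, 0, 4, 4,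 1, 2, 5, 1, 5] true)) (.node (.leaf [0, 0, 3, 3, 1, 4, 4, 3, 3, 5, 5, 0, 2] true) (.nil)))) (.node (.node (.node (.leaf [0, 0, 3, 1, 4, 3, 4, 3, 5, 5, 3] true) (.leaf [0, 3, 3, 0, 5, 3, 4, 3, 0, 3, 4, 3, 5] true)) (.node (.leaf [0, 0, 2, 2, 1, 1, 2, 2, 1, 3, 5, 3, 4] true) (.nil))) (.node (.node (.leaf [0, 2, 2, 1, 2, 2, 2, 1, 4, 3, 5, 3] true) (.leaf [6, 3, 6, 1, 3, 4, 2, 4, 0, 5, 3, 0, 3, 7, 2, 7, 4, 0, 5, 2, 0, 2, 4, 4, 0, 5, 5, 2] true)) (.node (.leaf [0, 2, 0, 2, 2, 2, 1, 2, 4, 4, 3, 5, 5] true) (.nil))))))) (.node (.node (.node (.node (.node (.node (.leaf [2, 4, 4, 3, 5, 2, 5] true) (.leaf [0, 2, 0, 3, 4, 2, 5, 1, 3, 4, 2, 2, 5] true)) (.node (.leaf [0, 3, 3, 0, 4, 3, 5, 0, 4, 3, 5, 3] true) (.leaf [6, 6, 0,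 6, 5, 3, 5, 0, 5, 5, 1, 4, 4, 1, 7, 1, 7, 7, 0, 4, 1, 5, 0, 2, 0, 4, 4, 1, 5] true))) (.node (.node (.leaf [0, 2, 0, 4, 3, 3, 5, 1, 4, 3, 5] true) (.leaf [6, 3, 5, 1, 5, 1, 1, 2, 7, 2, 0, 5, 1, 2, 4, 4, 1, 5, 1, 3] true)) (.node (.leaf [0, 0, 2, 4, 2, 5, 2, 1, 2, 1, 4, 2, 5] true) (.nil)))) (.node (.node (.node (.leaf [0, 3, 0, 4, 2, 5, 1, 3, 3, 3] true) (.leaf [0, 2, 5, 2, 2, 4, 1, 2, 1, 3, 4, 2, 5] true)) (.node (.leaf [0, 0, 0, 5, 2, 4, 1, 3, 5, 5, 2, 4, 4] true) (.leaf [6, 2, 0, 4, 3, 0, 4, 4, 3, 1, 3, 7, 5, 2, 5, 0, 3, 4, 4, 0, 4, 2, 4, 1] true))) (.node (.node (.leaf [0, 0, 3, 1, 5, 3, 5, 2, 5, 3, 5, 5] true) (.leaf [6, 3, 6, 2, 0, 2, 4, 1, 5, 1, 4, 3, 1, 7, 2, 7, 0, 3, 3, 1, 5, 0, 5, 0, 0, 5, 2] true)) (.node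 (.leaf [0, 0, 4, 3, 5, 0, 3, 3, 1, 3, 4, 3, 5] true) (.nil))))) (.node (.node (.node (.node (.leaf [0, 0, 2, 4, 3, 5, 2, 2, 1, 2] true) (.leaf [0, 2, 2, 0, 5, 2, 2, 4, 3, 0, 4, 2, 5] true)) (.node (.leaf [0, 0, 0, 2, 0, 4, 2, 2, 5, 0, 0, 2, 2] true) (.leaf [6, 1, 2, 2, 1, 5, 1, 5, 7, 4, 0, 3, 4, 0, 5, 3, 5, 2, 1, 4, 0] true))) (.node (.node (.leaf [0, 0, 0, 3, 3, 0, 0, 5, 2, 4, 0, 3] true) (.leaf [6, 3, 0, 5, 2, 1, 2, 2, 4, 7, 1, 4, 3, 3, 1, 4, 4, 0, 5, 2, 5, 1] true)) (.node (.leaf [0, 0, 3, 1, 5, 5, 1, 1, 3, 0, 4, 4, 3] true) (.nil)))) (.node (.node (.node (.leaf [0, 0, 2, 4, 4, 2, 5, 2, 5, 1, 2] true) (.leaf [0, 3, 3, 0, 3, 3, 3, 3, 0, 5, 2, 2, 4] true)) (.node (.leaf [0, 0, 2, 1, 3, 3, 1, 5, 2, 4, 3, 0, 3] true)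 (.nil))) (.node (.node (.leaf [0, 2, 2, 0, 2, 2, 0, 3, 0, 3, 3, 3] true) (.leaf [6, 3, 6, 0, 5, 1, 3, 4, 2, 4, 1, 5, 2, 7, 2, 7, 5, 5, 1, 3, 5, 1, 4, 3, 0, 5, 5, 0] true)) (.node (.leaf [0, 0, 5, 3, 4, 3, 1, 3, 1, 5, 3, 3, 4] true) (.nil)))))) (.node (.node (.node (.node (.node (.leaf [0, 0, 3, 1, 4, 2, 2, 2, 5] true) (.leaf [0, 2, 1, 4, 2, 5, 1, 3, 3, 3, 0, 3, 3] true)) (.node (.leaf [0, 0, 0, 0, 3, 1, 1, 4, 4, 2, 5, 3, 5] true) (.leaf [7, 6] true))) (.node (.node (.leaf [0, 0, 0, 0, 3, 3, 1, 3, 4, 3, 3, 5] true) (.leaf [6, 5, 0, 5, 2, 0, 2, 4, 2, 7, 3, 0, 4, 4, 0, 5, 1, 3, 1, 1, 4] true)) (.node (.leaf [0, 0, 3, 1, 3, 4, 1, 2, 0, 0, 5, 3, 3] true) (.nil)))) (.node (.node (.node (.leaf [0, 0, 0, 4, 2, 5, 3, 1, 5,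 3, 4] true) (.leaf [0, 3, 0, 4, 2, 5, 1, 5, 2, 2, 2, 4, 3] true)) (.node (.leaf [0, 0, 2, 0, 3, 0, 3, 3, 3, 0, 5, 2, 4] true) (.leaf [0, 0, 3, 1, 2] true))) (.node (.node (.leaf [0, 0, 5, 2, 5, 3, 3, 4, 2, 4, 1, 2] true) (.leaf [6, 3, 6, 5, 1, 5, 0, 2, 0, 5, 0, 3, 5, 7, 2, 7, 0, 5, 1, 5, 1, 4, 4, 3, 0, 5, 0] true)) (.node (.leaf [0, 0, 5, 2, 2, 4, 0, 5, 2, 2, 4, 0, 3] true) (.nil))))) (.node (.node (.node (.node (.leaf [0, 0, 3, 1, 5, 3, 4, 4, 2, 5] true) (.leaf [0, 2, 2, 1, 5, 2, 4, 1, 2, 4, 2, 5, 2] true)) (.node (.leaf [0, 0, 0, 3, 3, 0, 0, 4, 3, 3, 5, 0, 3] true) (.leaf [6, 0, 5, 0, 5, 0, 0, 5, 2, 2, 1, 7, 1, 2, 5, 5, 1, 5, 2, 0, 2, 5, 3, 1] true))) (.node (.node (.leaf [0, 0, 2, 2, 1, 3, 5, 3, 4, 0, 2, 2] true)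 (.leaf [6, 3, 6, 4, 1, 4, 0, 4, 3, 0, 3, 7, 2, 7, 5, 1, 3, 5, 1, 2, 4, 1, 3, 5, 5] true)) (.node (.leaf [0, 0, 3, 4, 3, 5, 0, 5, 2, 2, 4, 0, 3] true) (.nil)))) (.node (.node (.node (.leaf [0, 0, 4, 2, 4, 2, 5, 5, 2, 1, 2] true) (.leaf [0, 4, 3, 3, 5, 0, 5, 2, 2, 4, 1, 2, 2] true)) (.node (.leaf [0, 0, 2, 2, 2, 0, 2, 2, 0, 4, 3, 5, 3] true) (.nil))) (.node (.node (.leaf [0, 2, 4, 2, 5, 1, 5, 3, 4, 1, 3, 3] true) (.leaf [6, 6, 0, 6, 3, 4, 1, 5, 1, 3, 4, 0, 3, 7, 1, 7, 7, 1, 1, 1, 5, 3, 0, 5, 2, 1, 3, 5, 1, 1] true)) (.node (.leaf [0, 2, 0, 2, 5, 3, 3, 3, 4, 1, 4, 3, 5] true) (.nil))))))))) (.node (.node (.node (.node (.node (.node (.node (.node (.leaf [4] false) (.leaf [0, 2, 0, 3, 1, 2, 1, 4, 2, 4, 3, 5, 5] true)) (.node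 (.leaf [0, 3, 0, 3, 5, 3, 3, 4, 1, 3, 3, 3] true) (.leaf [6, 6, 0, 6, 3, 1, 4, 0, 5, 5, 1, 1, 4, 1, 7, 1, 7, 7, 5, 3, 0, 4, 1, 4, 0, 4, 0, 3, 5, 0] true))) (.node (.node (.leaf [0, 0, 5, 2, 4, 0, 3, 0, 3, 0, 3] true) (.leaf [6, 2, 4, 1, 1, 4, 3, 7, 5, 0, 5, 3, 1, 4, 1, 5, 3, 1, 1] true)) (.node (.leaf [0, 0, 2, 2, 4, 2, 5, 1, 2, 1, 4, 2, 5] true) (.nil)))) (.node (.node (.node (.leaf [0, 0, 4, 4, 2, 2, 5, 5, 1, 2] true) (.leaf [0, 2, 2, 2, 4, 2, 5, 1, 2, 1, 2, 2, 2] true)) (.node (.leaf [0, 0, 0, 4, 2, 5, 1, 1, 4, 2, 2, 5, 3] true) (.leaf [6, 6, 0, 0, 0, 2, 4, 1, 4, 3, 3, 7, 7, 1, 5, 2, 0, 4, 1, 5, 0, 5, 5, 1, 4] true))) (.node (.node (.leaf [0, 0, 3, 0, 0, 4, 3, 3, 5, 1, 3, 3] true) (.leaf [6, 3, 6, 1, 5, 0, 0, 5,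 3, 0, 0, 5, 7, 2, 7, 4, 1, 2, 4, 1, 1, 1, 4, 0, 4, 2, 1] true)) (.node (.leaf [0, 0, 4, 2, 5, 0, 2, 0, 3, 0, 4, 3, 5] true) (.nil))))) (.node (.node (.node (.node (.leaf [2, 4, 2, 4, 4, 2, 4, 3, 4] true) (.leaf [0, 2, 2, 0, 2, 4, 2, 5, 0, 2, 5, 2, 4] true)) (.node (.leaf [0, 0, 0, 0, 4, 2, 5, 0, 3, 3, 0, 3, 3] true) (.leaf [6, 1, 5, 0, 0, 6, 2, 2, 1, 5, 2, 5, 1, 5, 1, 3, 1] true))) (.node (.node (.leaf [0, 0, 0, 0, 4, 3, 3, 3, 5, 1, 1, 2] true) (.leaf [6, 0, 0, 0, 5, 5, 0, 3, 3, 7, 5, 5, 3, 0, 5, 1, 5, 5, 0, 3, 5, 1] true)) (.node (.leaf [0, 0, 3, 1, 4, 1, 3, 1, 4, 2, 5, 0, 5] true) (.nil)))) (.node (.node (.node (.leaf [0, 0, 2, 0, 2, 0, 2, 0, 3, 3, 3] true) (.leaf [0, 3, 0, 4, 3, 5, 0, 3, 4, 3, 5, 1, 3] true)) (.node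 (.leaf [0, 0, 2, 0, 4, 2, 5, 2, 0, 5, 3, 3, 4] true) (.leaf [6, 6, 6, 6, 6, 6, 6, 6, 6, 6, 6, 6, 6, 6, 6, 6, 6, 6, 6, 6, 6, 6, 6] true))) (.node (.node (.leaf [0, 2, 0, 2, 5, 3, 4, 1, 2, 2, 0, 3] true) (.leaf [6, 3, 6, 0, 0, 4, 0, 5, 5, 1, 2, 4, 1, 7, 2, 7, 4, 0, 0, 5, 2, 1, 2, 5, 3, 1, 4, 1, 1] true)) (.node (.leaf [0, 0, 5, 3, 3, 4, 0, 3, 3, 0, 5, 3, 4] true) (.nil)))))) (.node (.node (.node (.node (.node (.leaf [2, 2, 4, 4, 2, 5, 2, 5] true) (.leaf [0, 2, 0, 4, 4, 4, 4, 2, 4, 1, 4, 3, 5] true)) (.node (.leaf [0, 0, 0, 0, 0, 0, 5, 2, 4, 3, 1, 3, 3] true) (.leaf [6, 6, 0, 6, 0, 5, 1, 5, 0, 5, 1, 1, 5, 5, 7, 1, 7, 7, 1, 5, 1, 4, 4, 0, 5, 0, 0, 5, 1, 1] true))) (.node (.node (.leaf [0, 3, 0, 4, 2, 5, 1, 4, 3, 5, 2]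 true) (.leaf [6, 1, 4, 4, 0, 5, 3, 5, 1, 7, 4, 1, 1, 5, 1, 5, 5, 3, 0, 5, 5] true)) (.node (.leaf [0, 0, 2, 5, 5, 1, 2, 0, 0, 4, 4, 1, 2] true) (.nil)))) (.node (.node (.node (.leaf [0, 0, 0, 0, 3, 3, 1, 3, 5, 2, 4] true) (.leaf [0, 3, 0, 3, 3, 3, 4, 3, 5, 1, 5, 3, 4] true)) (.node (.leaf [0, 0, 0, 5, 3, 3, 4, 3, 1, 1, 4, 3, 5] true) (.leaf [6, 1, 3, 4, 3, 0, 0, 4, 7, 4, 0, 3, 4, 0, 4, 1, 3, 4, 4] true))) (.node (.node (.leaf [0, 0, 4, 2, 5, 2, 2, 4, 2, 5, 1, 2] true) (.leaf [6, 3, 6, 3, 3, 0, 5, 0, 4, 0, 5, 0, 0, 7, 2, 7, 1, 4, 0, 2, 0, 4, 1, 2, 1, 2, 5, 1] true)) (.node (.leaf [0, 0, 4, 3, 5, 3, 0, 4, 3, 5, 3, 0, 3] true) (.nil))))) (.node (.node (.node (.node (.leaf [0, 0, 3, 1, 3, 4, 3, 3, 5, 3] true) (.leaf [0,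 2, 2, 1, 2, 2, 2, 1, 2, 2, 4, 2, 5] true)) (.node (.leaf [0, 0, 0, 2, 2, 2, 1, 3, 5, 5, 2, 4, 4] true) (.leaf [6, 1, 4, 3, 0, 3, 5, 3, 0, 5, 7, 1, 2, 5, 5, 1, 4, 3, 0, 4, 0, 5] true))) (.node (.node (.leaf [0, 0, 0, 4, 3, 3, 5, 1, 4, 2, 2, 5] true) (.leaf [6, 0, 0, 2, 4, 1, 5, 5, 2, 0, 7, 0, 5, 5, 1, 1, 2, 5, 1, 1] true)) (.node (.leaf [0, 0, 3, 3, 1, 3, 3, 3, 4, 2, 5, 0, 2] true) (.nil)))) (.node (.node (.node (.leaf [0, 0, 3, 1, 4, 2, 4, 4, 4, 3, 4] true) (.leaf [0, 3, 3, 0, 4, 3, 5, 0, 5, 3, 3, 4, 2] true)) (.node (.leaf [0, 0, 2, 2, 0, 5, 2, 2, 4, 1, 2, 2, 2] true) (.nil))) (.node (.node (.leaf [0, 2, 2, 0, 5, 3, 3, 4, 0, 4, 2, 5] true) (.leaf [6, 3, 6, 2, 0, 4, 0, 0, 4, 4, 0, 3, 4, 7, 2, 7, 4, 0, 0, 4, 1, 2, 5,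 2, 0, 3, 4, 0] true)) (.node (.leaf [0, 2, 0, 2, 2, 1, 5, 3, 4, 0, 2, 0, 3] true) (.nil))))))) (.node (.node (.node (.node (.node (.node (.leaf [2, 2, 5, 5, 2, 4, 4] true) (.leaf [0, 2, 0, 3, 3, 5, 3, 3, 4, 1, 4, 3, 5] true)) (.node (.leaf [0, 3, 0, 5, 2, 4, 2, 1, 4, 3, 5, 2] true) (.leaf [6, 6, 0, 6, 5, 0, 0, 2, 4, 3, 0, 4, 3, 3, 7, 1, 7, 7, 0, 4, 0, 0, 5, 1, 3, 5, 2, 0, 4] true))) (.node (.node (.leaf [0, 2, 0, 3, 4, 2, 5, 1, 4, 3, 5] true) (.leaf [6, 3, 1, 4, 4, 0, 4, 4, 7, 3, 4, 3, 1, 5, 3, 1, 5, 3, 1, 1] true)) (.node (.leaf [0, 0, 2, 4, 2, 5, 1, 1, 4, 3, 5, 1, 3] true) (.nil)))) (.node (.node (.node (.leaf [0, 2, 0, 3, 3, 1, 2, 2, 0, 3] true) (.leaf [0, 2, 4, 4, 3, 5, 5, 1, 2, 1, 2, 2, 2] true)) (.node (.leaf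 [0, 0, 0, 5, 2, 4, 1, 2, 4, 2, 2, 5, 3] true) (.leaf [6, 4, 1, 5, 2, 5, 0, 5, 2, 2, 1, 7, 2, 0, 3, 5, 5, 0, 3, 5, 0, 4, 1, 3] true))) (.node (.node (.leaf [0, 0, 3, 1, 5, 2, 5, 5, 2, 5, 2, 5] true) (.leaf [6, 3, 6, 1, 5, 0, 4, 4, 0, 3, 5, 2, 0, 7, 2, 7, 0, 0, 0, 5, 2, 1, 2, 2, 4, 1, 1] true)) (.node (.leaf [0, 0, 4, 3, 3, 3, 5, 1, 3, 5, 2, 4, 3] true) (.nil))))) (.node (.node (.node (.node (.leaf [0, 0, 2, 2, 4, 3, 5, 2, 1, 2] true) (.leaf [0, 2, 2, 0, 4, 3, 5, 3, 3, 0, 4, 2, 5] true)) (.node (.leaf [0, 0, 0, 2, 0, 2, 4, 3, 5, 0, 0, 2, 2] true) (.leaf [6, 4, 0, 5, 2, 1, 4, 4, 7, 1, 3, 4, 4, 0, 3, 4, 1, 4, 0] true))) (.node (.node (.leaf [0, 0, 0, 2, 5, 2, 4, 3, 1, 3, 3, 3] true) (.leaf [6, 1, 5, 5, 0, 5, 2, 1, 2, 7,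 0, 5, 3, 1, 1, 5, 0, 0, 4, 1, 2] true)) (.node (.leaf [0, 0, 3, 1, 5, 1, 2, 1, 2, 2, 2, 0, 4] true) (.nil)))) (.node (.node (.node (.leaf [0, 0, 2, 2, 1, 4, 3, 5, 0, 2, 2] true) (.leaf [0, 3, 3, 0, 3, 3, 3, 3, 0, 3, 4, 3, 5] true)) (.node (.leaf [0, 0, 2, 1, 2, 2, 2, 1, 2, 5, 2, 2, 4] true) (.nil))) (.node (.node (.leaf [0, 2, 0, 5, 2, 4, 1, 2, 5, 2, 2, 4] true) (.leaf [6, 3, 6, 0, 4, 0, 5, 5, 0, 5, 1, 1, 2, 7, 2, 7, 1, 2, 1, 5, 0, 4, 3, 1, 1, 4] true)) (.node (.leaf [0, 0, 5, 3, 4, 2, 0, 4, 2, 5, 1, 3, 3] true) (.nil)))))) (.node (.node (.node (.node (.node (.leaf [0, 0, 3, 1, 3, 3, 5, 2, 4] true) (.leaf [0, 2, 0, 5, 3, 5, 3, 4, 4, 1, 2, 1, 3] true)) (.node (.leaf [0, 0, 0, 0, 2, 5, 3, 4, 1, 3, 5, 2, 4] true) (.leaf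 [5, 4] true))) (.node (.node (.leaf [0, 0, 0, 0, 3, 3, 1, 3, 3, 4, 2, 5] true) (.leaf [6, 4, 1, 4, 4, 3, 1, 5, 1, 7, 0, 5, 0, 4, 4, 2, 0, 5, 5] true)) (.node (.leaf [0, 0, 3, 1, 3, 4, 0, 2, 1, 1, 5, 3, 3] true) (.nil)))) (.node (.node (.node (.leaf [0, 0, 0, 4, 2, 5, 1, 1, 4, 3, 5] true) (.leaf [0, 3, 0, 4, 2, 5, 1, 3, 5, 5, 2, 4, 4] true)) (.node (.leaf [0, 0, 2, 0, 2, 4, 2, 5, 0, 5, 3, 3, 4] true) (.leaf [6, 1, 4, 0, 3, 3, 1, 3, 7, 5, 1, 3, 4, 3, 1, 4, 4, 1, 2] true))) (.node (.node (.leaf [0, 0, 4, 4, 2, 4, 3, 4, 2, 4, 1, 2] true) (.leaf [6, 3, 6, 4, 4, 2, 0, 5, 0, 0, 0, 0, 0, 7, 2, 7, 4, 1, 5, 2, 1, 4, 2, 1, 5, 2, 1, 2] true)) (.node (.leaf [0, 0, 5, 2, 2, 4, 0, 3, 4, 3, 5, 0, 3] true) (.nil))))) (.node (.node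 (.node (.node (.leaf [0, 0, 3, 1, 5, 2, 5, 2, 4, 4] true) (.leaf [0, 2, 2, 1, 4, 3, 3, 5, 1, 5, 2, 2, 4] true)) (.node (.leaf [0, 0, 0, 2, 4, 3, 3, 5, 3, 1, 5, 3, 4] true) (.leaf [6, 0, 5, 0, 4, 4, 0, 5, 5, 0, 7, 5, 0, 0, 0, 0, 5, 0, 5, 0, 5, 5] true))) (.node (.node (.leaf [0, 0, 2, 2, 0, 4, 3, 5, 1, 1, 2, 2] true) (.leaf [6, 0, 3, 0, 5, 0, 5, 5, 2, 0, 7, 2, 2, 4, 0, 5, 0, 2, 5, 5, 0] true)) (.node (.leaf [0, 0, 3, 3, 3, 1, 5, 3, 3, 4, 0, 3, 3] true) (.nil)))) (.node (.node (.node (.leaf [0, 0, 3, 3, 0, 3, 1, 2, 2, 0, 2] true) (.leaf [0, 3, 4, 3, 5, 1, 2, 2, 0, 4, 3, 3, 5] true)) (.node (.leaf [0, 0, 2, 2, 1, 5, 2, 2, 4, 2, 0, 2, 2] true) (.nil))) (.node (.node (.leaf [0, 2, 2, 2, 0, 4, 3, 5, 3, 1, 2, 2] true) (.leaf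 [6, 6, 0, 6, 2, 0, 5, 1, 2, 2, 4, 1, 2, 7, 1, 7, 7, 5, 0, 3, 4, 3, 0, 4, 3, 1, 3, 1] true)) (.node (.leaf [0, 2, 0, 2, 5, 2, 2, 2, 4, 1, 2, 1, 3] true) (.nil)))))))) (.node (.node (.node (.node (.node (.node (.node (.leaf [0, 0, 3, 1, 2] true) (.leaf [0, 2, 0, 3, 3, 0, 3, 3, 0, 4, 3, 3, 5] true)) (.node (.leaf [0, 3, 0, 4, 3, 3, 5, 2, 1, 3, 3, 3] true) (.leaf [6, 6, 0, 6, 4, 3, 1, 3, 1, 5, 1, 5, 1, 1, 7, 1, 7, 7, 4, 1, 1, 5, 5, 3, 0, 5, 3, 1, 4, 1] true))) (.node (.node (.leaf [0, 0, 5, 5, 2, 5, 5, 5, 2, 1, 2] true) (.leaf [6, 1, 2, 5, 1, 4, 4, 2, 7, 0, 3, 4, 1, 5, 5, 2, 0, 5, 5, 1] true)) (.node (.leaf [0, 0, 2, 4, 2, 1, 2, 0, 0, 5, 2, 1, 2] true) (.nil)))) (.node (.node (.node (.leaf [0, 0, 5, 3, 5, 3, 4, 4, 1, 2]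 true) (.leaf [0, 2, 4, 2, 5, 1, 4, 2, 5, 1, 2, 1, 2] true)) (.node (.leaf [0, 0, 0, 5, 0, 2, 1, 1, 4, 1, 3, 3, 3] true) (.leaf [6, 6, 0, 2, 0, 7, 3, 0, 4, 4, 1, 6, 1, 3, 1, 7, 7, 1, 1, 1, 5, 0, 4, 1, 2, 5, 1, 3, 3] true))) (.node (.node (.leaf [0, 0, 3, 1, 4, 2, 4, 2, 4, 4, 2, 4] true) (.leaf [6, 3, 6, 4, 1, 1, 2, 4, 1, 1, 4, 0, 7, 2, 7, 0, 3, 5, 1, 5, 0, 0, 0, 5, 3, 0, 5] true)) (.node (.leaf [0, 0, 4, 2, 5, 2, 0, 3, 3, 0, 3, 3, 3] true) (.nil))))) (.node (.node (.node (.node (.leaf [0, 0, 0, 5, 2, 4, 1, 3, 3, 3] true) (.leaf [0, 2, 2, 0, 3, 5, 2, 2, 4, 0, 4, 2, 5] true)) (.node (.leaf [0, 0, 0, 0, 5, 3, 4, 0, 4, 2, 5, 1, 3] true) (.leaf [6, 2, 1, 3, 5, 3, 5, 7, 3, 5, 3, 0, 5, 0, 5, 1, 5, 1, 1, 2] true))) (.node (.node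 (.leaf [0, 0, 0, 2, 0, 4, 3, 5, 0, 2, 2, 2] true) (.leaf [6, 0, 5, 2, 1, 2, 5, 1, 5, 7, 5, 3, 5, 5, 0, 4, 4, 1, 4, 3, 4] true)) (.node (.leaf [0, 0, 3, 1, 4, 4, 1, 2, 0, 0, 5, 3, 5] true) (.nil)))) (.node (.node (.node (.leaf [0, 0, 2, 0, 3, 3, 1, 2, 2, 1, 3] true) (.leaf [0, 3, 0, 5, 5, 3, 3, 4, 4, 1, 3, 3, 3] true)) (.node (.leaf [0, 0, 2, 0, 5, 3, 3, 4, 0, 2, 4, 2, 5] true) (.nil))) (.node (.node (.leaf [0, 2, 0, 3, 4, 2, 5, 1, 3, 5, 3, 4] true) (.leaf [6, 3, 6, 0, 2, 5, 0, 4, 0, 5, 3, 1, 3, 7, 2, 7, 3, 4, 1, 1, 4, 1, 4, 0, 2, 2, 1] true)) (.node (.leaf [0, 0, 5, 3, 4, 0, 2, 2, 2, 0, 2, 0, 3] true) (.nil)))))) (.node (.node (.node (.node (.node (.leaf [2, 4, 2, 5, 3, 4, 3, 5] true) (.leaf [0, 2, 0, 5, 2, 4, 1, 4,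 3, 4, 4, 4, 4] true)) (.node (.leaf [0, 0, 0, 0, 2, 1, 1, 2, 2, 1, 5, 3, 4] true) (.leaf [1, 0] true))) (.node (.node (.leaf [0, 0, 0, 0, 2, 2, 0, 3, 0, 0, 0, 3] true) (.leaf [6, 3, 0, 4, 4, 1, 4, 3, 0, 7, 2, 1, 4, 2, 0, 4, 4, 1, 5, 3] true)) (.node (.leaf [0, 0, 3, 0, 5, 3, 5, 3, 4, 4, 1, 2, 2] true) (.nil)))) (.node (.node (.node (.leaf [0, 0, 0, 2, 2, 1, 2, 0, 3, 3, 3] true) (.leaf [0, 3, 0, 4, 2, 5, 1, 2, 2, 4, 3, 5, 3] true)) (.node (.leaf [0, 0, 2, 0, 2, 2, 1, 2, 5, 3, 4, 0, 3] true) (.leaf [6, 0, 3, 5, 3, 0, 0, 5, 1, 3, 1, 7, 5, 0, 4, 1, 2, 5, 1] true))) (.node (.node (.leaf [0, 0, 4, 3, 5, 1, 3, 1, 2, 4, 2, 5] true) (.leaf [6, 3, 6, 4, 1, 5, 1, 4, 4, 1, 5, 3, 0, 7, 2, 7, 1, 5, 3, 0, 4, 1, 5, 2, 1, 4, 1] true))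 (.node (.leaf [0, 0, 5, 0, 3, 3, 3, 1, 3, 1, 4, 1, 2] true) (.nil))))) (.node (.node (.node (.node (.leaf [0, 0, 3, 1, 4, 3, 4, 2, 5, 5] true) (.leaf [0, 2, 2, 1, 4, 2, 5, 3, 1, 3, 4, 3, 5] true)) (.node (.leaf [0, 0, 0, 2, 4, 2, 5, 3, 1, 1, 4, 3, 5] true) (.leaf [6, 3, 0, 0, 5, 2, 2, 0, 4, 2, 7, 3, 5, 1, 4, 0, 3, 4, 3, 0, 3, 0] true))) (.node (.node (.leaf [0, 0, 2, 0, 0, 2, 2, 1, 4, 2, 2, 5] true) (.leaf [6, 0, 2, 4, 4, 1, 4, 3, 0, 5, 7, 2, 2, 1, 5, 5, 3, 1, 4, 2, 1, 4, 1] true)) (.node (.leaf [0, 0, 3, 3, 1, 5, 5, 2, 4, 2, 4, 0, 2] true) (.nil)))) (.node (.node (.node (.leaf [0, 0, 3, 1, 4, 3, 5, 5, 3, 3, 4] true) (.leaf [0, 3, 3, 0, 5, 3, 4, 3, 0, 5, 2, 2, 4] true)) (.node (.leaf [0, 0, 2, 2, 1, 2, 5, 2, 2, 4,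 0, 2, 2] true) (.nil))) (.node (.node (.leaf [0, 2, 2, 1, 5, 2, 4, 1, 3, 4, 3, 5] true) (.leaf [6, 3, 6, 2, 2, 5, 1, 3, 5, 3, 1, 4, 4, 7, 2, 7, 2, 1, 5, 1, 3, 5, 1, 5, 5, 0, 5, 1] true)) (.node (.leaf [0, 2, 0, 2, 2, 2, 1, 5, 5, 2, 2, 4, 4] true) (.nil))))))) (.node (.node (.node (.node (.node (.node (.leaf [0, 0, 3, 0, 3, 1, 2, 2] true) (.leaf [0, 2, 0, 4, 2, 4, 3, 5, 5, 1, 2, 1, 3] true)) (.node (.leaf [0, 3, 4, 3, 5, 1, 2, 2, 0, 5, 2, 4] true) (.leaf [6, 6, 0, 6, 0, 5, 0, 0, 4, 4, 1, 5, 0, 2, 7, 1, 7, 7, 5, 2, 0, 4, 0, 4, 0, 0, 0, 4, 1, 4] true))) (.node (.node (.leaf [0, 2, 1, 4, 3, 5, 1, 2, 1, 2, 2] true) (.leaf [6, 4, 0, 4, 2, 0, 5, 3, 7, 3, 5, 0, 0, 4, 1, 1, 2, 4, 3, 0, 3] true)) (.node (.leaf [0, 0, 2, 5, 2,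 0, 2, 1, 1, 2, 4, 1, 2] true) (.nil)))) (.node (.node (.node (.leaf [0, 0, 0, 0, 0, 0, 2, 2, 1, 3, 3] true) (.leaf [0, 2, 5, 3, 3, 4, 0, 3, 3, 0, 4, 3, 5] true)) (.node (.leaf [0, 0, 0, 5, 2, 4, 1, 5, 1, 1, 3, 0, 4] true) (.leaf [6, 6, 0, 2, 0, 7, 1, 3, 1, 5, 5, 6, 1, 3, 1, 7, 7, 4, 0, 3, 5, 2, 1, 4, 1, 3] true))) (.node (.node (.leaf [0, 0, 3, 3, 1, 3, 3, 5, 2, 4, 0, 2] true) (.leaf [6, 3, 6, 2, 4, 0, 5, 1, 4, 0, 2, 4, 0, 7, 2, 7, 1, 3, 5, 1, 5, 0, 3, 0, 4, 4, 3] true)) (.node (.leaf [0, 0, 4, 3, 5, 0, 3, 3, 1, 5, 2, 2, 4] true) (.nil))))) (.node (.node (.node (.node (.leaf [0, 0, 2, 5, 5, 2, 4, 4, 1, 2] true) (.leaf [0, 2, 2, 0, 5, 3, 3, 4, 0, 2, 2, 2, 2] true)) (.node (.leaf [0, 0, 0, 2, 2, 1, 2, 2, 0, 0, 4, 3,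 5] true) (.leaf [6, 3, 0, 4, 1, 5, 3, 1, 7, 4, 1, 1, 4, 3, 0, 4, 3, 1, 3, 1] true))) (.node (.node (.leaf [0, 0, 0, 3, 3, 3, 0, 4, 2, 5, 0, 3] true) (.leaf [6, 3, 5, 3, 1, 3, 4, 1, 4, 7, 5, 0, 0, 2, 0, 4, 1, 5, 5, 1, 2] true)) (.node (.leaf [0, 0, 3, 3, 0, 3, 4, 2, 5, 2, 1, 3, 3] true) (.nil)))) (.node (.node (.node (.leaf [0, 0, 3, 0, 3, 0, 3, 1, 2, 2, 2] true) (.leaf [0, 3, 3, 0, 3, 5, 3, 4, 0, 5, 2, 2, 4] true)) (.node (.leaf [0, 0, 2, 2, 0, 3, 4, 3, 5, 1, 2, 2, 2] true) (.nil))) (.node (.node (.leaf [0, 2, 2, 0, 2, 2, 1, 3, 3, 0, 3, 3] true) (.leaf [6, 3, 6, 3, 4, 3, 1, 4, 4, 1, 5, 3, 5, 7, 2, 7, 5, 1, 4, 0, 4, 2, 0, 4, 0, 2, 4, 1] true)) (.node (.leaf [0, 2, 0, 2, 0, 4, 3, 5, 0, 3, 5, 2, 4] true) (.nil)))))) (.node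 (.node (.node (.node (.node (.leaf [0, 0, 4, 3, 3, 3, 5, 1, 2] true) (.leaf [0, 2, 2, 0, 2, 2, 0, 3, 0, 4, 2, 2, 5] true)) (.node (.leaf [0, 0, 0, 0, 3, 1, 1, 5, 2, 5, 2, 4, 4] true) (.leaf [6, 0, 6, 1, 4, 0, 0, 5, 3, 3, 7, 1, 7, 0, 0, 5, 2, 0, 4, 0, 2, 5, 0, 2] true))) (.node (.node (.leaf [0, 0, 0, 0, 3, 3, 1, 4, 3, 3, 5, 3] true) (.leaf [6, 5, 2, 0, 5, 1, 5, 2, 5, 7, 1, 4, 1, 1, 4, 0, 2, 5, 1, 3, 1] true)) (.node (.leaf [0, 0, 3, 1, 3, 5, 1, 1, 3, 0, 3, 3, 4] true) (.nil)))) (.node (.node (.node (.leaf [0, 0, 0, 4, 3, 3, 5, 1, 5, 3, 4] true) (.leaf [0, 3, 0, 4, 2, 5, 1, 5, 3, 5, 5, 5, 5] true)) (.node (.leaf [0, 0, 2, 0, 3, 1, 4, 2, 5, 1, 4, 3, 5] true) (.leaf [0, 0, 3, 1, 2] true))) (.node (.node (.leaf [0, 2,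 0, 2, 0, 3, 5, 3, 4, 0, 2, 2] true) (.leaf [6, 3, 6, 5, 2, 1, 5, 5, 1, 1, 5, 1, 3, 7, 2, 7, 5, 1, 3, 1, 5, 0, 2, 5, 0, 4, 0, 3] true)) (.node (.leaf [0, 0, 5, 2, 4, 0, 2, 2, 0, 3, 4, 3, 5] true) (.nil))))) (.node (.node (.node (.node (.leaf [0, 0, 3, 1, 5, 5, 3, 4, 4, 3] true) (.leaf [0, 2, 2, 1, 5, 2, 4, 1, 4, 4, 3, 5, 5] true)) (.node (.leaf [0, 0, 0, 4, 2, 2, 5, 0, 4, 2, 5, 0, 3] true) (.leaf [6, 5, 1, 1, 5, 1, 4, 2, 7, 5, 3, 5, 5, 1, 4, 4, 2, 1, 5, 0, 5] true))) (.node (.node (.leaf [0, 0, 2, 4, 3, 4, 3, 5, 3, 5, 1, 2] true) (.leaf [6, 3, 6, 2, 1, 2, 5, 1, 5, 0, 5, 7, 2, 7, 5, 0, 4, 3, 4, 1, 5, 0, 0, 4, 2] true)) (.node (.leaf [0, 0, 4, 0, 4, 3, 5, 1, 2, 1, 5, 1, 2] true) (.nil)))) (.node (.node (.node (.leaf [0,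 0, 4, 2, 5, 3, 4, 3, 5, 1, 2] true) (.leaf [6, 6, 6, 6, 6, 6, 6, 6, 6, 6, 6, 6, 6, 6, 6, 6, 6, 6, 6, 6, 6, 6, 6] true)) (.node (.leaf [0, 0, 2, 2, 4, 0, 0, 3, 1, 5, 2, 1, 2] true) (.nil))) (.node (.node (.leaf [0, 2, 5, 2, 2, 4, 1, 2, 1, 5, 2, 4] true) (.leaf [6, 6, 0, 6, 4, 2, 0, 4, 4, 0, 0, 4, 4, 7, 1, 7, 7, 3, 0, 4, 1, 5, 0, 2, 4, 1, 5, 3, 1] true)) (.node (.leaf [0, 2, 0, 2, 5, 5, 3, 4, 4, 1, 4, 3, 5] true) (.nil)))))))))) (.node (.node (.node (.node (.node (.node (.node (.node (.node (.leaf [2] false) (.leaf [0, 2, 0, 3, 1, 2, 1, 2, 5, 5, 2, 4, 4] true)) (.node (.leaf [0, 3, 0, 3, 4, 2, 5, 2, 1, 5, 3, 4] true) (.leaf [6, 6, 0, 6, 0, 5, 1, 2, 4, 3, 4, 1, 3, 1, 7, 1, 7, 7, 3, 1, 4, 0, 0, 4, 0, 2, 4, 0, 4, 0] true)))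 (.node (.node (.leaf [0, 0, 5, 2, 2, 4, 4, 2, 5, 1, 2] true) (.leaf [6, 2, 5, 0, 0, 5, 3, 7, 4, 1, 2, 4, 4, 0, 5, 2, 5, 5, 0] true)) (.node (.leaf [0, 0, 2, 2, 4, 1, 2, 0, 0, 2, 5, 1, 2] true) (.nil)))) (.node (.node (.node (.leaf [0, 0, 4, 3, 5, 5, 2, 4, 1, 2] true) (.leaf [0, 2, 2, 2, 0, 4, 4, 3, 5, 5, 1, 2, 2] true)) (.node (.leaf [0, 0, 0, 4, 2, 5, 1, 1, 2, 5, 2, 2, 4] true) (.leaf [6, 0, 4, 0, 3, 4, 0, 4, 2, 0, 7, 2, 1, 2, 1, 4, 4, 2, 1, 4, 1, 4, 4] true))) (.node (.node (.leaf [0, 0, 3, 0, 0, 4, 2, 5, 3, 1, 3, 3] true) (.leaf [6, 3, 6, 1, 1, 5, 1, 4, 3, 1, 1, 1, 7, 2, 7, 5, 1, 4, 4, 1, 5, 5, 0, 4, 1] true)) (.node (.leaf [0, 0, 4, 2, 4, 1, 1, 3, 0, 5, 5, 1, 2] true) (.nil))))) (.node (.node (.node (.node (.leaf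 [2, 2, 4, 3, 4, 3, 5, 3, 5] true) (.leaf [0, 2, 2, 0, 2, 2, 5, 2, 4, 0, 4, 2, 5] true)) (.node (.leaf [0, 0, 0, 0, 4, 2, 4, 3, 5, 5, 1, 1, 2] true) (.leaf [6, 4, 0, 5, 5, 1, 1, 2, 5, 1, 1, 7, 0, 4, 2, 4, 0, 3, 5, 1, 1, 5, 3] true))) (.node (.node (.leaf [0, 0, 0, 0, 4, 2, 2, 5, 2, 1, 2, 2] true) (.leaf [6, 0, 0, 0, 4, 4, 1, 5, 0, 7, 4, 2, 0, 3, 4, 3, 1, 4, 1, 1, 2] true)) (.node (.leaf [0, 0, 3, 1, 4, 0, 3, 0, 4, 2, 5, 1, 5] true) (.nil)))) (.node (.node (.node (.leaf [0, 0, 2, 0, 0, 2, 2, 1, 5, 3, 4] true) (.leaf [0, 3, 0, 4, 3, 3, 5, 2, 1, 4, 3, 5, 2] true)) (.node (.leaf [0, 0, 2, 0, 4, 2, 5, 2, 0, 2, 4, 2, 5] true) (.leaf [2, 2, 2, 4, 2, 2, 5] true))) (.node (.node (.leaf [0, 2, 0, 2, 5, 2, 4, 3, 1, 4, 3, 5] true)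 (.leaf [6, 3, 6, 5, 5, 1, 5, 0, 5, 5, 0, 0, 0, 7, 2, 7, 2, 4, 4, 0, 4, 4, 2, 0, 4, 4, 3, 0] true)) (.node (.leaf [0, 0, 5, 3, 3, 4, 0, 3, 3, 0, 3, 3, 3] true) (.nil)))))) (.node (.node (.node (.node (.node (.leaf [2, 2, 4, 2, 4, 2, 5, 5] true) (.leaf [0, 2, 0, 4, 4, 2, 2, 5, 5, 1, 2, 1, 3] true)) (.node (.leaf [0, 0, 0, 0, 0, 0, 2, 2, 1, 2, 5, 3, 4] true) (.leaf [6, 6, 0, 6, 1, 2, 2, 1, 4, 1, 5, 1, 1, 5, 7, 1, 7, 7, 4, 4, 0, 5, 1, 4, 2, 1, 3, 3, 4] true))) (.node (.node (.leaf [0, 3, 0, 4, 2, 5, 1, 4, 2, 2, 5] true) (.leaf [6, 1, 4, 0, 5, 5, 1, 1, 1, 7, 3, 0, 0, 5, 0, 2, 5, 2, 1, 3, 5] true)) (.node (.leaf [0, 0, 2, 5, 5, 0, 2, 1, 1, 4, 4, 1, 2] true) (.nil)))) (.node (.node (.node (.leaf [0, 0, 0, 0, 2, 5, 3, 4, 1,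 2, 2] true) (.leaf [0, 3, 0, 3, 0, 5, 3, 4, 2, 0, 4, 2, 5] true)) (.node (.leaf [0, 0, 0, 5, 3, 3, 3, 4, 2, 1, 5, 3, 4] true) (.leaf [6, 1, 2, 2, 4, 0, 2, 4, 7, 4, 0, 3, 4, 0, 4, 1, 3, 4, 4] true))) (.node (.node (.leaf [0, 0, 4, 2, 5, 0, 3, 1, 3, 3, 1, 3] true) (.leaf [6, 3, 6, 3, 0, 4, 1, 1, 1, 1, 4, 3, 0, 7, 2, 7, 3, 1, 1, 4, 2, 1, 5, 1, 4, 0, 0, 4] true)) (.node (.leaf [0, 0, 4, 3, 5, 3, 0, 3, 4, 3, 5, 0, 3] true) (.nil))))) (.node (.node (.node (.node (.leaf [0, 0, 3, 1, 3, 4, 2, 5, 3, 3] true) (.leaf [0, 2, 2, 1, 2, 2, 1, 2, 0, 3, 4, 3, 5] true)) (.node (.leaf [0, 0, 0, 2, 2, 2, 1, 3, 5, 2, 2, 2, 4] true) (.leaf [6, 0, 5, 0, 5, 5, 1, 4, 0, 0, 7, 1, 4, 4, 0, 5, 3, 0, 4, 0, 4, 0] true))) (.node (.node (.leaf [0,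 0, 0, 4, 3, 3, 5, 1, 2, 4, 3, 5] true) (.leaf [6, 0, 0, 0, 2, 5, 0, 4, 0, 0, 7, 4, 1, 1, 5, 1, 1, 5, 5, 3, 1] true)) (.node (.leaf [0, 0, 3, 3, 0, 5, 3, 3, 4, 3, 1, 3, 3] true) (.nil)))) (.node (.node (.node (.leaf [0, 0, 3, 1, 3, 4, 4, 4, 3, 4, 4] true) (.leaf [0, 3, 3, 0, 4, 3, 5, 0, 4, 4, 3, 5, 5] true)) (.node (.leaf [0, 0, 2, 2, 0, 4, 3, 5, 3, 1, 5, 2, 4] true) (.nil))) (.node (.node (.leaf [0, 2, 2, 0, 4, 2, 5, 2, 0, 4, 2, 5] true) (.leaf [6, 3, 6, 1, 2, 4, 0, 5, 5, 0, 4, 0, 5, 7, 2, 7, 0, 5, 0, 3, 4, 0, 5, 1, 2, 4, 0] true)) (.node (.leaf [0, 2, 0, 2, 2, 0, 4, 2, 5, 1, 4, 2, 5] true) (.nil))))))) (.node (.node (.node (.node (.node (.node (.leaf [2, 2, 2, 4, 2, 2, 5] true) (.leaf [0, 2, 0, 3, 3, 4, 2, 5, 2, 1,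 4, 3, 5] true)) (.node (.leaf [0, 3, 0, 5, 2, 4, 2, 1, 4, 2, 2, 5] true) (.leaf [6, 6, 0, 6, 4, 4, 0, 0, 4, 1, 4, 0, 4, 1, 7, 1, 7, 7, 5, 3, 1, 1, 4, 0, 2, 5, 2, 1, 5, 1] true))) (.node (.node (.leaf [0, 2, 0, 2, 2, 2, 1, 3, 5, 3, 4] true) (.leaf [6, 3, 0, 5, 1, 4, 2, 1, 7, 3, 3, 1, 4, 4, 3, 0, 5, 0, 3, 4, 1] true)) (.node (.leaf [0, 0, 2, 4, 2, 5, 0, 3, 3, 0, 5, 3, 4] true) (.nil)))) (.node (.node (.node (.leaf [0, 2, 0, 2, 2, 2, 1, 4, 3, 5] true) (.leaf [0, 2, 4, 2, 5, 2, 2, 1, 2, 1, 5, 2, 4] true)) (.node (.leaf [0, 0, 0, 5, 1, 2, 0, 0, 4, 1, 5, 3, 4] true) (.leaf [6, 0, 6, 3, 0, 5, 1, 5, 3, 1, 5, 7, 1, 7, 1, 2, 1, 4, 1, 4, 0, 4, 4, 0] true))) (.node (.node (.leaf [0, 0, 3, 1, 4, 3, 5, 3, 4, 3, 5, 3] true) (.leaf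 [6, 3, 6, 1, 2, 4, 1, 4, 0, 0, 4, 2, 1, 7, 2, 7, 3, 4, 3, 1, 4, 1, 5, 1, 5, 2] true)) (.node (.leaf [0, 0, 4, 2, 5, 2, 2, 1, 2, 1, 4, 2, 5] true) (.nil))))) (.node (.node (.node (.node (.leaf [0, 0, 2, 2, 4, 2, 2, 5, 1, 2] true) (.leaf [0, 2, 2, 0, 4, 2, 5, 2, 0, 5, 2, 4, 2] true)) (.node (.leaf [0, 0, 0, 0, 5, 5, 3, 4, 3, 4, 1, 1, 2] true) (.leaf [6, 0, 0, 5, 0, 0, 7, 4, 3, 5, 1, 5, 1, 4, 1, 4, 0, 2, 0] true))) (.node (.node (.leaf [0, 0, 0, 2, 5, 2, 4, 1, 1, 4, 3, 5] true) (.leaf [6, 1, 2, 5, 0, 5, 5, 1, 2, 7, 2, 4, 0, 5, 5, 1, 3, 5, 0, 3] true)) (.node (.leaf [0, 0, 3, 1, 5, 0, 2, 0, 5, 2, 4, 1, 4] true) (.nil)))) (.node (.node (.node (.leaf [0, 0, 2, 2, 0, 2, 0, 3, 3, 0, 3] true) (.leaf [0, 3, 0, 5, 5, 5, 5, 2,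 5, 1, 5, 3, 4] true)) (.node (.leaf [0, 0, 2, 0, 5, 3, 4, 2, 1, 2, 2, 1, 3] true) (.nil))) (.node (.node (.leaf [0, 2, 0, 4, 3, 3, 5, 1, 3, 5, 3, 4] true) (.leaf [6, 3, 6, 0, 4, 0, 2, 4, 2, 0, 4, 4, 3, 7, 2, 7, 1, 4, 0, 3, 0, 0, 4, 1, 5, 3, 3, 0] true)) (.node (.leaf [0, 0, 5, 3, 4, 1, 5, 3, 3, 4, 0, 3, 3] true) (.nil)))))) (.node (.node (.node (.node (.node (.leaf [0, 0, 2, 5, 3, 4, 2, 1, 2] true) (.leaf [0, 2, 0, 5, 3, 3, 3, 4, 2, 1, 4, 3, 5] true)) (.node (.leaf [0, 0, 0, 0, 2, 2, 0, 3, 3, 0, 2, 0, 3] true) (.leaf [4, 5] true))) (.node (.node (.leaf [0, 0, 0, 0, 3, 1, 1, 4, 2, 2, 2, 5] true) (.leaf [6, 4, 0, 4, 4, 1, 5, 0, 2, 7, 2, 5, 0, 2, 4, 0, 2, 4, 4, 1, 1, 1] true)) (.node (.leaf [0, 0, 3, 1, 3, 4, 0, 0, 3,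 1, 3, 5, 3] true) (.nil)))) (.node (.node (.node (.leaf [0, 0, 0, 2, 2, 2, 1, 4, 2, 2, 5] true) (.leaf [0, 3, 0, 4, 2, 5, 1, 3, 5, 2, 2, 2, 4] true)) (.node (.leaf [0, 0, 2, 0, 2, 4, 2, 5, 0, 4, 2, 5, 2] true) (.leaf [6, 4, 2, 0, 3, 0, 5, 2, 0, 7, 3, 1, 5, 3, 5, 1, 2] true))) (.node (.node (.leaf [0, 0, 4, 3, 5, 3, 1, 2, 1, 4, 2, 5] true) (.leaf [6, 3, 6, 4, 4, 1, 2, 4, 4, 1, 2, 5, 2, 7, 2, 7, 1, 2, 1, 5, 1, 4, 1, 4, 2, 0, 2, 4] true)) (.node (.leaf [0, 0, 5, 1, 5, 3, 4, 0, 3, 0, 4, 1, 2] true) (.nil))))) (.node (.node (.node (.node (.leaf [0, 0, 3, 1, 5, 2, 2, 2, 2, 4] true) (.leaf [0, 2, 2, 1, 4, 3, 3, 5, 1, 3, 4, 3, 5] true)) (.node (.leaf [0, 0, 0, 2, 4, 3, 3, 5, 3, 1, 3, 3, 3] true) (.leaf [6, 0, 2, 5, 1, 3, 1,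 1, 5, 0, 7, 1, 2, 4, 3, 0, 5, 1, 1, 4, 0, 5] true))) (.node (.node (.leaf [0, 0, 2, 1, 2, 2, 1, 2, 0, 4, 3, 5] true) (.leaf [6, 0, 2, 5, 5, 1, 5, 0, 2, 5, 7, 3, 0, 4, 1, 4, 1, 5, 3, 5, 1, 4, 2] true)) (.node (.leaf [0, 0, 3, 3, 3, 1, 4, 2, 5, 2, 0, 3, 3] true) (.nil)))) (.node (.node (.node (.leaf [0, 0, 3, 1, 5, 5, 3, 3, 4, 3, 4] true) (.leaf [0, 3, 4, 3, 5, 1, 2, 2, 0, 4, 2, 5, 3] true)) (.node (.leaf [0, 0, 2, 2, 1, 4, 3, 5, 0, 3, 5, 2, 4] true) (.nil))) (.node (.node (.leaf [0, 2, 2, 2, 0, 3, 4, 3, 5, 1, 2, 2] true) (.leaf [6, 6, 0, 6, 0, 0, 2, 5, 2, 0, 4, 1, 3, 7, 1, 7, 7, 0, 2, 0, 2, 5, 1, 2, 5, 2, 1, 4] true)) (.node (.leaf [0, 2, 0, 2, 4, 3, 3, 5, 3, 1, 4, 3, 5] true) (.nil)))))))) (.node (.node (.node (.node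 (.node (.node (.node (.leaf [4, 4, 4, 4, 4] true) (.leaf [0, 2, 0, 3, 3, 0, 3, 3, 0, 3, 4, 2, 5] true)) (.node (.leaf [0, 3, 0, 4, 2, 5, 1, 3, 5, 3, 4, 2] true) (.leaf [6, 6, 0, 6, 4, 2, 1, 3, 5, 3, 0, 4, 1, 1, 7, 1, 7, 7, 4, 0, 4, 4, 1, 4, 4, 2, 1, 4, 4, 0] true))) (.node (.node (.leaf [0, 0, 5, 5, 2, 2, 4, 2, 4, 1, 2] true) (.leaf [6, 0, 5, 1, 1, 1, 1, 1, 7, 2, 0, 4, 2, 0, 4, 1, 5, 0, 5, 1] true)) (.node (.leaf [0, 0, 2, 4, 2, 0, 2, 1, 1, 5, 2, 1, 2] true) (.nil)))) (.node (.node (.node (.leaf [0, 0, 5, 3, 3, 3, 3, 4, 1, 2] true) (.leaf [0, 2, 2, 4, 2, 5, 1, 2, 2, 0, 5, 2, 4] true)) (.node (.leaf [0, 0, 0, 4, 4, 4, 4, 2, 4, 1, 5, 3, 4] true) (.leaf [6, 6, 1, 2, 1, 4, 1, 3, 4, 4, 1, 7, 7, 0, 5, 2, 0, 5, 1, 5, 1, 3,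 3, 1] true))) (.node (.node (.leaf [0, 0, 3, 1, 3, 5, 1, 2, 0, 0, 4, 3] true) (.leaf [6, 3, 6, 3, 1, 4, 2, 4, 1, 4, 4, 0, 7, 2, 7, 5, 1, 3, 1, 4, 0, 0, 2, 4, 4] true)) (.node (.leaf [0, 0, 4, 2, 5, 2, 0, 3, 0, 0, 4, 3, 5] true) (.nil))))) (.node (.node (.node (.node (.leaf [0, 0, 0, 2, 2, 2, 1, 5, 3, 4] true) (.leaf [0, 2, 2, 0, 3, 4, 3, 5, 3, 0, 4, 2, 5] true)) (.node (.leaf [0, 0, 0, 0, 5, 2, 4, 1, 3, 3, 1, 1, 3] true) (.leaf [6, 2, 4, 0, 2, 1, 3, 5, 0, 7, 3, 1, 5, 3, 5, 1, 2] true))) (.node (.node (.leaf [0, 0, 0, 0, 5, 5, 2, 4, 4, 1, 2, 2] true) (.leaf [6, 0, 4, 2, 4, 1, 5, 5, 0, 7, 4, 4, 1, 2, 4, 4, 0, 4, 0, 0, 5] true)) (.node (.leaf [0, 0, 3, 1, 4, 4, 1, 1, 3, 0, 3, 5, 5] true) (.nil)))) (.node (.node (.node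 (.leaf [0, 0, 2, 0, 2, 2, 1, 3, 3, 0, 3] true) (.leaf [0, 3, 0, 5, 2, 4, 2, 1, 3, 5, 3, 4, 2] true)) (.node (.leaf [0, 0, 2, 0, 5, 2, 4, 3, 0, 3, 0, 3, 3] true) (.nil))) (.node (.node (.leaf [0, 2, 0, 3, 3, 1, 5, 2, 4, 3, 0, 3] true) (.leaf [6, 3, 6, 0, 4, 3, 4, 1, 1, 4, 1, 4, 2, 7, 2, 7, 4, 1, 2, 5, 0, 3, 5, 5, 1, 4, 0, 0] true)) (.node (.leaf [0, 0, 5, 3, 3, 4, 3, 1, 3, 3, 3, 1, 3] true) (.nil)))))) (.node (.node (.node (.node (.node (.leaf [2, 4, 2, 4, 3, 4, 4, 4] true) (.leaf [0, 2, 0, 5, 2, 4, 1, 2, 4, 4, 3, 5, 5] true)) (.node (.leaf [0, 0, 0, 0, 2, 0, 3, 0, 2, 2, 0, 3, 3] true) (.leaf [0, 1] true))) (.node (.node (.leaf [0, 0, 0, 0, 2, 0, 0, 0, 2, 0, 3, 3] true) (.leaf [6, 3, 0, 3, 4, 1, 4, 4, 0, 7, 3, 0, 5,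 1, 1, 4, 0, 0, 2, 4, 1] true)) (.node (.leaf [0, 0, 3, 0, 4, 4, 2, 2, 5, 5, 1, 2, 2] true) (.nil)))) (.node (.node (.node (.leaf [0, 0, 0, 2, 0, 0, 3, 3, 1, 1, 2] true) (.leaf [0, 3, 0, 3, 5, 3, 3, 4, 1, 2, 4, 3, 5] true)) (.node (.leaf [0, 0, 0, 5, 5, 3, 4, 4, 2, 1, 5, 3, 4] true) (.leaf [6, 3, 5, 3, 0, 0, 4, 3, 4, 1, 3, 7, 5, 5, 0, 5, 0, 0, 5, 5, 3, 1, 3, 1] true))) (.node (.node (.leaf [0, 0, 4, 3, 4, 3, 4, 4, 3, 4, 1, 2] true) (.leaf [6, 3, 6, 4, 1, 1, 4, 3, 0, 4, 1, 1, 5, 7, 2, 7, 4, 3, 0, 5, 3, 1, 5, 5, 3, 1, 5, 0] true)) (.node (.leaf [0, 0, 4, 4, 3, 5, 5, 1, 2, 1, 4, 2, 5] true) (.nil))))) (.node (.node (.node (.node (.leaf [0, 0, 3, 1, 4, 3, 3, 5, 3, 3] true) (.leaf [0, 2, 2, 1, 3, 4, 2, 5, 1, 4, 3, 5, 3]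 true)) (.node (.leaf [0, 0, 0, 2, 2, 2, 1, 5, 3, 5, 5, 5, 5] true) (.leaf [6, 0, 4, 1, 2, 1, 3, 3, 1, 4, 4, 1, 7, 0, 3, 4, 1, 4, 4, 0, 3, 0, 5, 0, 5] true))) (.node (.node (.leaf [0, 0, 2, 0, 0, 2, 2, 1, 2, 4, 3, 5] true) (.leaf [6, 0, 2, 2, 4, 4, 1, 3, 4, 0, 7, 2, 0, 3, 5, 1, 1, 4, 2, 1, 3, 3] true)) (.node (.leaf [0, 0, 3, 3, 1, 5, 3, 4, 4, 2, 5, 0, 2] true) (.nil)))) (.node (.node (.node (.leaf [0, 0, 3, 1, 4, 3, 5, 2, 4, 2, 5] true) (.leaf [0, 3, 3, 0, 5, 3, 4, 3, 0, 4, 3, 5, 3] true)) (.node (.leaf [0, 0, 2, 2, 1, 2, 2, 1, 3, 3, 1, 3, 3] true) (.nil))) (.node (.node (.leaf [0, 2, 2, 1, 2, 2, 2, 1, 5, 2, 2, 4] true) (.leaf [6, 3, 6, 1, 5, 3, 1, 5, 0, 4, 1, 5, 3, 7, 2, 7, 5, 5, 3, 1, 1, 4, 3, 0, 4, 2, 0] true))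 (.node (.leaf [0, 2, 0, 2, 2, 2, 1, 4, 3, 4, 4, 4, 4] true) (.nil))))))) (.node (.node (.node (.node (.node (.node (.leaf [0, 0, 0, 0, 3, 1, 1, 2] true) (.leaf [0, 2, 0, 3, 5, 2, 4, 2, 1, 3, 5, 3, 4] true)) (.node (.leaf [0, 3, 3, 0, 4, 3, 5, 0, 5, 2, 2, 4] true) (.leaf [6, 6, 0, 6, 0, 0, 5, 1, 2, 4, 2, 0, 3, 5, 7, 1, 7, 7, 2, 2, 4, 0, 4, 4, 0, 3, 0, 5, 1, 1] true))) (.node (.node (.leaf [0, 2, 0, 5, 2, 4, 1, 3, 5, 3, 4] true) (.leaf [6, 3, 5, 5, 0, 4, 3, 0, 7, 0, 4, 4, 1, 3, 4, 4, 0, 5, 2, 1] true)) (.node (.leaf [0, 0, 2, 5, 0, 2, 1, 1, 2, 2, 4, 1, 2] true) (.nil)))) (.node (.node (.node (.leaf [0, 3, 0, 4, 2, 5, 1, 5, 3, 4] true) (.leaf [0, 2, 5, 2, 2, 4, 1, 2, 1, 4, 3, 3, 5] true)) (.node (.leaf [0, 0, 0, 5, 2,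 4, 1, 5, 0, 0, 3, 1, 4] true) (.leaf [6, 0, 2, 4, 2, 1, 4, 3, 1, 4, 3, 3, 7, 3, 0, 0, 0, 4, 4, 1, 3, 5, 0, 5, 5] true))) (.node (.node (.leaf [0, 0, 3, 3, 0, 5, 2, 4, 2, 1, 3, 3] true) (.leaf [6, 3, 6, 2, 1, 2, 4, 1, 5, 3, 5, 2, 0, 7, 2, 7, 5, 1, 4, 0, 4, 0, 5, 0, 5, 5, 1, 5] true)) (.node (.leaf [0, 0, 4, 3, 5, 0, 3, 3, 1, 4, 3, 5, 3] true) (.nil))))) (.node (.node (.node (.node (.leaf [0, 0, 2, 5, 2, 2, 2, 4, 1, 2] true) (.leaf [0, 2, 2, 0, 5, 2, 4, 1, 4, 3, 5, 1, 3] true)) (.node (.leaf [0, 0, 0, 2, 0, 4, 3, 5, 0, 4, 3, 3, 5] true) (.leaf [6, 2, 0, 2, 4, 0, 2, 5, 7, 0, 2, 4, 1, 5, 3, 1, 5, 5, 3, 0] true))) (.node (.node (.leaf [0, 0, 0, 3, 3, 0, 3, 3, 0, 4, 2, 5] true) (.leaf [6, 3, 1, 4, 0, 5, 5, 1, 5, 7, 0, 0,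 0, 5, 5, 3, 1, 5, 3, 1, 4, 3] true)) (.node (.leaf [0, 0, 3, 1, 5, 5, 1, 2, 0, 0, 4, 2, 4] true) (.nil)))) (.node (.node (.node (.leaf [0, 0, 3, 0, 0, 5, 2, 4, 1, 3, 3] true) (.leaf [0, 3, 3, 0, 3, 5, 3, 4, 0, 3, 4, 3, 5] true)) (.node (.leaf [0, 0, 2, 1, 4, 2, 5, 1, 1, 4, 3, 5, 3] true) (.nil))) (.node (.node (.leaf [0, 2, 2, 0, 2, 2, 0, 3, 0, 5, 3, 4] true) (.leaf [6, 3, 6, 0, 5, 1, 3, 4, 0, 5, 5, 0, 4, 7, 2, 7, 2, 5, 1, 5, 2, 0, 2] true)) (.node (.leaf [0, 2, 0, 2, 0, 2, 5, 2, 2, 4, 0, 2, 2] true) (.nil)))))) (.node (.node (.node (.node (.node (.leaf [0, 0, 3, 1, 5, 2, 4, 3, 3] true) (.leaf [0, 2, 1, 4, 2, 5, 1, 5, 3, 4, 0, 3, 3] true)) (.node (.leaf [0, 0, 0, 0, 3, 1, 1, 4, 4, 3, 3, 5, 5] true) (.leaf [6, 3, 4,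 1, 5, 5, 7, 4, 4, 1, 4, 4, 0, 4, 3, 0, 3, 5] true))) (.node (.node (.leaf [0, 0, 0, 0, 3, 3, 1, 4, 2, 5, 3, 3] true) (.leaf [6, 5, 1, 1, 1, 1, 2, 4, 1, 7, 3, 1, 5, 5, 2, 1, 5, 3, 0] true)) (.node (.leaf [0, 0, 3, 1, 3, 4, 3, 0, 0, 3, 1, 5, 3] true) (.nil)))) (.node (.node (.node (.leaf [0, 0, 0, 4, 3, 3, 5, 1, 3, 3, 3] true) (.leaf [0, 3, 0, 4, 2, 5, 1, 5, 2, 2, 4, 2, 2] true)) (.node (.leaf [0, 0, 2, 0, 3, 0, 5, 3, 4, 0, 2, 2, 2] true) (.leaf [2, 2, 2, 5, 3, 4] true))) (.node (.node (.leaf [0, 0, 5, 3, 5, 5, 3, 5, 3, 5, 1, 2] true) (.leaf [6, 3, 6, 5, 1, 5, 1, 4, 0, 3, 4, 1, 5, 7, 2, 7, 0, 4, 0, 5, 0, 0, 5, 0, 5, 3] true)) (.node (.leaf [0, 0, 5, 2, 2, 4, 1, 2, 1, 2, 5, 2, 4] true) (.nil))))) (.node (.node (.node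 (.node (.leaf [0, 0, 3, 1, 5, 5, 2, 4, 2, 4] true) (.leaf [0, 2, 2, 1, 5, 2, 4, 1, 4, 2, 5, 2, 2] true)) (.node (.leaf [0, 0, 0, 3, 3, 3, 0, 5, 2, 4, 2, 0, 3] true) (.leaf [6, 0, 5, 0, 5, 3, 0, 3, 5, 3, 1, 7, 1, 2, 5, 5, 1, 5, 2, 0, 2, 5, 3, 1] true))) (.node (.node (.leaf [0, 0, 2, 4, 2, 5, 2, 4, 2, 5, 1, 2] true) (.leaf [6, 3, 6, 0, 0, 0, 4, 4, 1, 5, 0, 7, 2, 7, 1, 1, 1, 4, 3, 0, 5, 5, 1, 2, 2] true)) (.node (.leaf [0, 0, 3, 4, 3, 5, 1, 1, 2, 0, 4, 2, 5] true) (.nil)))) (.node (.node (.node (.leaf [0, 0, 4, 2, 5, 1, 3, 3, 3, 1, 3] true) (.leaf [0, 4, 4, 2, 5, 5, 1, 5, 3, 4, 1, 3, 3] true)) (.node (.leaf [0, 0, 2, 2, 2, 0, 2, 2, 0, 5, 2, 2, 4] true) (.nil))) (.node (.node (.leaf [0, 2, 5, 2, 2, 4, 1, 2, 1, 2, 2, 2]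 true) (.leaf [6, 6, 0, 6, 3, 4, 3, 0, 4, 4, 1, 5, 5, 7, 1, 7, 7, 3, 1, 1, 5, 5, 0, 2, 5, 1, 4, 1] true)) (.node (.leaf [0, 2, 0, 2, 5, 5, 2, 4, 4, 1, 2, 1, 3] true) (.nil))))))))) (.node (.node (.node (.node (.node (.node (.node (.node (.leaf [0, 0, 0, 0, 0, 0, 0, 0, 0, 0, 0, 0, 0, 0, 0, 0, 0, 0, 0, 0, 0, 0, 0] true) (.leaf [0, 2, 0, 3, 1, 2, 1, 4, 4, 2, 2, 5, 5] true)) (.node (.leaf [0, 3, 0, 3, 5, 3, 3, 4, 1, 5, 3, 4] true) (.leaf [6, 6, 0, 6, 4, 0, 0, 4, 0, 5, 0, 3, 3, 0, 7, 1, 7, 7, 5, 2, 2, 0, 3, 5, 0, 4, 1, 5, 5] true))) (.node (.node (.leaf [0, 0, 5, 2, 5, 2, 2, 4, 4, 1, 2] true) (.leaf [6, 0, 0, 0, 0, 0, 4, 1, 7, 0, 4, 1, 4, 0, 5, 1, 3, 5, 1, 3] true)) (.node (.leaf [0, 0, 2, 4, 0, 2, 1, 1, 2, 5, 2, 1, 2] true)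 (.nil)))) (.node (.node (.node (.leaf [0, 0, 4, 4, 3, 5, 2, 5, 1, 2] true) (.leaf [0, 2, 2, 2, 4, 2, 5, 1, 2, 1, 5, 2, 4] true)) (.node (.leaf [0, 0, 0, 4, 3, 5, 0, 5, 2, 4, 0, 0, 2] true) (.leaf [6, 4, 4, 2, 0, 5, 0, 5, 7, 2, 1, 4, 1, 1, 5, 1, 3, 4, 1, 4] true))) (.node (.node (.leaf [0, 0, 3, 0, 4, 3, 3, 3, 5, 1, 2, 2] true) (.leaf [6, 3, 6, 1, 5, 5, 0, 5, 3, 5, 0, 2, 7, 2, 7, 5, 5, 3, 1, 1, 5, 0, 2, 0, 4] true)) (.node (.leaf [0, 0, 4, 2, 5, 0, 4, 2, 5, 0, 2, 2, 2] true) (.nil))))) (.node (.node (.node (.node (.leaf [2, 4, 3, 4, 3, 4, 4, 3, 4] true) (.leaf [0, 2, 2, 0, 2, 5, 2, 4, 2, 0, 4, 2, 5] true)) (.node (.leaf [0, 0, 0, 0, 4, 4, 2, 2, 5, 5, 1, 1, 2] true) (.leaf [6, 3, 4, 4, 0, 4, 7, 4, 4, 1, 4, 0, 5, 3, 5,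 0, 0, 4, 1] true))) (.node (.node (.leaf [0, 0, 0, 0, 4, 3, 5, 2, 2, 1, 2, 2] true) (.leaf [6, 0, 2, 2, 5, 0, 2, 2, 4, 7, 1, 2, 4, 0, 4, 2, 4, 0, 0] true)) (.node (.leaf [0, 0, 3, 1, 4, 3, 0, 0, 3, 1, 5, 3, 3] true) (.nil)))) (.node (.node (.node (.leaf [0, 0, 2, 0, 2, 0, 2, 0, 5, 3, 4] true) (.leaf [0, 3, 0, 4, 3, 5, 1, 4, 3, 5, 0, 3, 3] true)) (.node (.leaf [0, 0, 2, 0, 4, 3, 5, 3, 0, 0, 4, 2, 5] true) (.nil))) (.node (.node (.leaf [0, 2, 0, 3, 3, 0, 3, 3, 0, 2, 2, 2] true) (.leaf [6, 3, 6, 0, 0, 5, 1, 4, 0, 4, 0, 2, 4, 7, 2, 7, 2, 4, 1, 5, 1, 5, 2, 1, 4] true)) (.node (.leaf [0, 0, 5, 3, 3, 4, 1, 2, 2, 0, 4, 2, 5] true) (.nil)))))) (.node (.node (.node (.node (.node (.leaf [2, 2, 4, 4, 4, 2, 4, 4] true) (.leaf [0,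 2, 0, 5, 2, 2, 2, 4, 1, 2, 2, 0, 3] true)) (.node (.leaf [0, 0, 0, 0, 0, 2, 0, 2, 0, 2, 5, 3, 4] true) (.leaf [6, 6, 0, 6, 0, 5, 5, 0, 4, 4, 1, 4, 2, 4, 7, 1, 7, 7, 4, 0, 5, 5, 1, 3, 1, 4, 0, 5, 1] true))) (.node (.node (.leaf [0, 3, 0, 5, 2, 4, 2, 1, 3, 3, 3] true) (.leaf [6, 1, 5, 1, 1, 1, 4, 4, 1, 7, 1, 1, 1, 5, 3, 1, 1, 4, 1, 5] true)) (.node (.leaf [0, 0, 3, 0, 4, 2, 4, 3, 5, 5, 1, 2, 2] true) (.nil)))) (.node (.node (.node (.leaf [0, 0, 0, 0, 3, 3, 1, 5, 2, 4, 3] true) (.leaf [0, 3, 0, 3, 3, 5, 2, 2, 4, 1, 5, 3, 4] true)) (.node (.leaf [0, 0, 0, 5, 3, 3, 4, 3, 3, 1, 3, 3, 3] true) (.leaf [6, 1, 2, 4, 0, 3, 0, 2, 4, 2, 7, 4, 0, 3, 4, 0, 4, 1, 3, 4, 4] true))) (.node (.node (.leaf [0, 0, 4, 2, 5, 3, 0, 3, 0, 3,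 0, 3] true) (.leaf [6, 3, 6, 3, 4, 0, 4, 4, 3, 4, 0, 4, 1, 7, 2, 7, 4, 0, 5, 0, 0, 0, 4, 1, 4, 1, 3, 3] true)) (.node (.leaf [0, 0, 4, 3, 5, 3, 0, 5, 2, 2, 4, 0, 3] true) (.nil))))) (.node (.node (.node (.node (.leaf [0, 0, 3, 1, 3, 5, 3, 3, 3, 4] true) (.leaf [0, 2, 2, 1, 2, 2, 2, 1, 4, 4, 3, 5, 5] true)) (.node (.leaf [0, 0, 0, 2, 2, 2, 1, 5, 0, 0, 3, 1, 4] true) (.leaf [6, 4, 2, 1, 5, 2, 0, 0, 5, 2, 1, 7, 3, 0, 5, 3, 3, 1, 5, 5, 1, 2, 5, 5] true))) (.node (.node (.leaf [0, 0, 0, 4, 3, 5, 0, 2, 2, 0, 2, 2] true) (.leaf [6, 0, 0, 4, 1, 5, 3, 5, 1, 2, 7, 3, 5, 1, 5, 0, 2, 4, 4, 1, 4, 3] true)) (.node (.leaf [0, 0, 3, 3, 1, 4, 4, 2, 5, 3, 5, 0, 2] true) (.nil)))) (.node (.node (.node (.leaf [0, 0, 3, 1, 4, 2, 5, 2,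 4, 3, 5] true) (.leaf [0, 3, 3, 0, 4, 3, 5, 0, 5, 3, 4, 3, 3] true)) (.node (.leaf [0, 0, 2, 2, 0, 5, 2, 2, 4, 1, 5, 2, 4] true) (.nil))) (.node (.node (.leaf [0, 2, 2, 1, 2, 2, 2, 1, 3, 4, 3, 5] true) (.leaf [6, 3, 6, 1, 3, 4, 2, 1, 5, 5, 1, 4, 0, 7, 2, 7, 0, 0, 5, 3, 3, 0, 3, 4, 1, 1, 1] true)) (.node (.leaf [0, 2, 0, 2, 2, 2, 1, 2, 2, 2, 4, 2, 5] true) (.nil))))))) (.node (.node (.node (.node (.node (.node (.leaf [2, 4, 2, 4, 3, 5, 5] true) (.leaf [0, 2, 0, 3, 4, 2, 5, 1, 2, 5, 2, 2, 4] true)) (.node (.leaf [0, 3, 3, 0, 4, 3, 5, 0, 3, 4, 3, 5] true) (.leaf [6, 6, 0, 6, 5, 1, 5, 3, 5, 1, 5, 1, 3, 5, 7, 1, 7, 7, 3, 1, 5, 2, 1, 4, 0, 2, 4, 1, 2] true))) (.node (.node (.leaf [0, 2, 0, 4, 2, 5, 3, 1, 4, 3, 5] true) (.leaf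 [6, 3, 3, 1, 1, 5, 0, 5, 7, 4, 0, 3, 3, 4, 1, 3, 4, 1, 3, 4, 0] true)) (.node (.leaf [0, 0, 2, 4, 2, 5, 1, 2, 2, 0, 4, 2, 5] true) (.nil)))) (.node (.node (.node (.leaf [0, 2, 0, 5, 2, 4, 1, 4, 3, 5] true) (.leaf [0, 2, 4, 4, 3, 5, 5, 1, 2, 1, 5, 2, 4] true)) (.node (.leaf [0, 0, 0, 5, 2, 4, 1, 3, 5, 2, 2, 2, 4] true) (.leaf [6, 3, 0, 4, 2, 0, 5, 3, 0, 4, 3, 7, 0, 0, 2, 4, 1, 4, 0, 5, 2, 1, 5] true))) (.node (.node (.leaf [0, 0, 3, 1, 5, 3, 5, 2, 2, 4, 3, 4] true) (.leaf [6, 3, 6, 1, 5, 1, 4, 3, 5, 1, 5, 1, 1, 7, 2, 7, 5, 1, 1, 5, 0, 4, 0, 3, 5, 0, 0, 2] true)) (.node (.leaf [0, 0, 4, 3, 5, 0, 0, 5, 3, 3, 4, 0, 3] true) (.nil))))) (.node (.node (.node (.node (.leaf [0, 0, 2, 4, 2, 2, 5, 2, 1, 2] true) (.leaf [0, 2,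 2, 0, 4, 4, 2, 5, 5, 0, 4, 2, 5] true)) (.node (.leaf [0, 0, 0, 2, 0, 3, 5, 3, 4, 0, 2, 2, 2] true) (.leaf [6, 5, 5, 0, 3, 4, 1, 5, 7, 1, 5, 0, 5, 2, 1, 5, 5, 2, 0] true))) (.node (.node (.leaf [0, 0, 0, 2, 5, 2, 4, 3, 1, 5, 3, 4] true) (.leaf [6, 2, 2, 0, 5, 1, 4, 0, 2, 7, 2, 1, 3, 5, 5, 1, 3, 4, 0, 3, 5] true)) (.node (.leaf [0, 0, 3, 1, 5, 1, 2, 1, 5, 2, 4, 0, 4] true) (.nil)))) (.node (.node (.node (.leaf [0, 0, 2, 2, 2, 0, 3, 0, 3, 0, 3] true) (.leaf [0, 3, 3, 0, 3, 3, 3, 3, 0, 4, 3, 5, 3] true)) (.node (.leaf [0, 0, 2, 1, 3, 3, 1, 3, 5, 2, 4, 0, 3] true) (.nil))) (.node (.node (.leaf [0, 2, 0, 5, 2, 4, 1, 3, 4, 2, 2, 5] true) (.leaf [6, 3, 6, 1, 1, 1, 4, 4, 1, 4, 0, 4, 4, 7, 2, 7, 5, 0, 4, 0, 3, 4, 0, 4, 2, 1,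 5, 0] true)) (.node (.leaf [0, 0, 5, 3, 4, 2, 2, 1, 3, 5, 2, 4, 3] true) (.nil)))))) (.node (.node (.node (.node (.node (.leaf [0, 0, 3, 1, 3, 5, 2, 4, 3] true) (.leaf [0, 2, 0, 5, 5, 3, 4, 4, 2, 1, 4, 3, 5] true)) (.node (.leaf [0, 0, 0, 0, 3, 1, 1, 4, 3, 4, 2, 5, 5] true) (.leaf [6, 7] true))) (.node (.node (.leaf [0, 0, 0, 0, 3, 3, 1, 3, 4, 2, 5, 3] true) (.leaf [6, 4, 3, 5, 0, 4, 0, 3, 0, 7, 2, 5, 0, 0, 4, 1, 3, 5, 0, 2, 2] true)) (.node (.leaf [0, 0, 3, 1, 3, 4, 1, 1, 3, 0, 3, 5, 3] true) (.nil)))) (.node (.node (.node (.leaf [0, 0, 0, 4, 2, 5, 3, 1, 3, 3, 3] true) (.leaf [0, 3, 0, 4, 2, 5, 1, 4, 4, 4, 4, 3, 4] true)) (.node (.leaf [0, 0, 2, 0, 2, 5, 3, 4, 1, 2, 2, 1, 3] true) (.leaf [6, 2, 0, 2, 2, 1, 5, 0, 7,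 3, 0, 5, 5, 0, 2, 5, 2, 0, 4] true))) (.node (.node (.leaf [0, 0, 5, 2, 2, 4, 1, 2, 1, 4, 2, 5] true) (.leaf [6, 3, 6, 5, 1, 4, 4, 1, 5, 2, 0, 4, 1, 7, 2, 7, 3, 1, 3, 4, 0, 4, 3] true)) (.node (.leaf [0, 0, 5, 2, 2, 4, 0, 4, 3, 5, 3, 0, 3] true) (.nil))))) (.node (.node (.node (.node (.leaf [0, 0, 3, 1, 5, 3, 3, 3, 4, 3] true) (.leaf [0, 2, 2, 1, 5, 2, 4, 1, 2, 2, 4, 2, 5] true)) (.node (.leaf [0, 0, 0, 3, 3, 0, 0, 4, 2, 5, 3, 0, 3] true) (.leaf [6, 0, 5, 0, 3, 5, 0, 3, 0, 5, 1, 7, 1, 2, 5, 5, 1, 5, 2, 0, 2, 5, 3, 1] true))) (.node (.node (.leaf [0, 0, 2, 2, 1, 1, 2, 2, 1, 4, 3, 5] true) (.leaf [6, 3, 6, 1, 4, 0, 5, 5, 1, 1, 1, 7, 2, 7, 3, 3, 0, 4, 4, 1, 2, 5, 0, 0, 0] true)) (.node (.leaf [0, 0, 3, 4, 3, 5, 0, 4,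 3, 5, 3, 0, 3] true) (.nil)))) (.node (.node (.node (.leaf [0, 0, 3, 3, 0, 4, 2, 5, 1, 3, 3] true) (.leaf [0, 4, 2, 5, 3, 0, 5, 2, 2, 4, 1, 2, 2] true)) (.node (.leaf [0, 0, 2, 2, 2, 0, 2, 2, 0, 3, 4, 3, 5] true) (.nil))) (.node (.node (.leaf [0, 2, 2, 2, 0, 5, 2, 2, 4, 1, 2, 2] true) (.leaf [6, 6, 0, 6, 2, 1, 5, 2, 0, 4, 0, 5, 2, 7, 1, 7, 7, 0, 0, 4, 2, 0, 3, 4, 1, 2, 4, 0, 0, 0] true)) (.node (.leaf [0, 2, 0, 2, 5, 2, 4, 3, 1, 3, 5, 3, 4] true) (.nil)))))))) (.node (.node (.node (.node (.node (.node (.node (.leaf [2, 2, 2, 5, 3, 4] true) (.leaf [0, 2, 0, 3, 3, 1, 4, 3, 3, 5, 3, 0, 3] true)) (.node (.leaf [0, 3, 0, 4, 3, 3, 5, 2, 1, 5, 3, 4] true) (.leaf [6, 6, 0, 6, 4, 3, 4, 0, 0, 2, 4, 1, 5, 3, 7, 1, 7, 7, 5, 0,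 5, 5, 0, 3, 5, 1, 3, 5, 1, 2] true))) (.node (.node (.leaf [0, 2, 0, 2, 0, 4, 3, 5, 0, 2, 2] true) (.leaf [6, 2, 4, 1, 3, 5, 1, 5, 7, 2, 1, 2, 5, 3, 0, 0, 5, 1, 1, 4, 2] true)) (.node (.leaf [0, 0, 2, 4, 2, 5, 0, 3, 0, 0, 4, 3, 5] true) (.nil)))) (.node (.node (.node (.leaf [0, 0, 5, 5, 2, 4, 4, 2, 1, 2] true) (.leaf [0, 2, 4, 2, 5, 1, 4, 3, 5, 2, 1, 3, 3] true)) (.node (.leaf [0, 0, 0, 5, 0, 2, 1, 1, 4, 1, 5, 3, 4] true) (.leaf [6, 6, 0, 5, 1, 1, 1, 4, 0, 5, 3, 1, 7, 7, 0, 2, 5, 2, 1, 3, 5, 1] true))) (.node (.node (.leaf [0, 0, 3, 1, 4, 2, 4, 2, 5, 2, 5, 3] true) (.leaf [6, 3, 6, 0, 5, 3, 0, 4, 4, 1, 5, 1, 1, 7, 2, 7, 0, 4, 3, 4, 3, 0, 0, 4, 4, 0, 5, 2, 0] true)) (.node (.leaf [0, 0, 4, 2, 5, 2, 0, 3, 3, 0, 5, 3,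 4] true) (.nil))))) (.node (.node (.node (.node (.leaf [0, 0, 0, 5, 2, 4, 1, 5, 3, 4] true) (.leaf [0, 2, 2, 0, 4, 2, 5, 2, 0, 2, 2, 2, 2] true)) (.node (.leaf [0, 0, 0, 0, 5, 3, 4, 2, 1, 3, 5, 2, 4] true) (.leaf [6, 2, 1, 2, 5, 0, 2, 2, 7, 0, 2, 0, 4, 3, 0, 4, 0, 2, 0, 4, 0] true))) (.node (.node (.leaf [0, 0, 0, 2, 0, 5, 3, 4, 0, 0, 2, 2] true) (.leaf [6, 0, 5, 5, 0, 0, 0, 4, 0, 7, 4, 0, 5, 0, 0, 2, 4, 0, 0, 0] true)) (.node (.leaf [0, 0, 3, 1, 4, 4, 3, 0, 0, 3, 1, 5, 5] true) (.nil)))) (.node (.node (.node (.leaf [0, 0, 2, 1, 2, 2, 2, 1, 4, 3, 5] true) (.leaf [0, 3, 0, 5, 5, 3, 3, 4, 4, 1, 5, 3, 4] true)) (.node (.leaf [0, 0, 2, 0, 5, 3, 3, 4, 0, 4, 2, 5, 2] true) (.nil))) (.node (.node (.leaf [0, 2, 0, 3, 5, 2,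 4, 2, 1, 4, 3, 5] true) (.leaf [6, 3, 6, 0, 3, 0, 4, 0, 4, 2, 4, 0, 5, 7, 2, 7, 2, 1, 2, 5, 0, 4, 0, 2, 5, 0, 3] true)) (.node (.leaf [0, 0, 5, 3, 4, 1, 2, 4, 2, 5, 0, 3, 3] true) (.nil)))))) (.node (.node (.node (.node (.node (.leaf [2, 4, 4, 4, 3, 4, 3, 4] true) (.leaf [0, 2, 0, 5, 2, 4, 1, 5, 5, 2, 2, 4, 4] true)) (.node (.leaf [0, 0, 0, 0, 2, 1, 4, 3, 5, 0, 5, 2, 4] true) (.leaf [2, 3] true))) (.node (.node (.leaf [0, 0, 0, 0, 2, 4, 2, 2, 5, 1, 2, 2] true) (.leaf [6, 3, 1, 5, 0, 4, 1, 3, 3, 7, 4, 2, 1, 5, 2, 0, 4, 4, 2, 0, 3] true)) (.node (.leaf [0, 0, 3, 1, 3, 3, 4, 0, 0, 3, 1, 3, 5] true) (.nil)))) (.node (.node (.node (.leaf [0, 0, 0, 2, 2, 2, 0, 3, 1, 3, 3] true) (.leaf [0, 3, 0, 4, 2, 5, 1, 2, 4, 2, 2, 5,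 3] true)) (.node (.leaf [0, 0, 2, 0, 2, 2, 1, 5, 3, 4, 2, 0, 3] true) (.leaf [6, 3, 4, 0, 5, 2, 1, 5, 2, 7, 2, 0, 4, 4, 1, 2, 1, 4, 2, 4] true))) (.node (.node (.leaf [0, 0, 4, 3, 5, 1, 3, 1, 4, 2, 5, 2] true) (.leaf [6, 3, 6, 4, 1, 5, 3, 5, 1, 5, 1, 2, 1, 7, 2, 7, 2, 1, 4, 3, 1, 5, 1, 4, 3, 0, 3] true)) (.node (.leaf [0, 0, 5, 0, 5, 3, 4, 1, 3, 1, 4, 1, 2] true) (.nil))))) (.node (.node (.node (.node (.leaf [0, 0, 3, 1, 4, 4, 2, 5, 3, 5] true) (.leaf [0, 2, 2, 1, 4, 2, 5, 3, 1, 4, 3, 5, 3] true)) (.node (.leaf [0, 0, 0, 2, 4, 2, 5, 3, 3, 1, 3, 3, 3] true) (.leaf [6, 3, 0, 0, 5, 1, 1, 4, 3, 5, 1, 7, 5, 1, 1, 4, 0, 2, 4, 0, 5, 3, 5, 1] true))) (.node (.node (.leaf [0, 0, 2, 0, 2, 0, 2, 0, 2, 4, 3, 5] true) (.leaf [6,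 0, 2, 5, 2, 5, 1, 5, 2, 1, 7, 4, 1, 4, 1, 2, 1, 5, 5, 0, 5, 2, 1] true)) (.node (.leaf [0, 0, 3, 3, 3, 0, 4, 3, 5, 0, 4, 3, 5] true) (.nil)))) (.node (.node (.node (.leaf [0, 0, 3, 1, 5, 3, 5, 3, 3, 4, 4] true) (.leaf [0, 3, 3, 4, 3, 5, 1, 5, 3, 4, 1, 3, 3] true)) (.node (.leaf [0, 0, 2, 2, 1, 3, 4, 2, 2, 5, 0, 2, 2] true) (.nil))) (.node (.node (.leaf [0, 2, 2, 1, 5, 2, 4, 1, 4, 3, 5, 3] true) (.leaf [6, 6, 0, 6, 2, 1, 4, 0, 2, 2, 4, 1, 7, 1, 7, 7, 0, 3, 3, 3, 1, 5, 1, 4, 0, 5, 3, 1] true)) (.node (.leaf [0, 2, 0, 2, 4, 2, 2, 5, 1, 2, 2, 0, 3] true) (.nil))))))) (.node (.node (.node (.node (.node (.node (.leaf [0, 0, 3, 3, 1, 2, 0, 2] true) (.leaf [0, 2, 0, 4, 2, 5, 3, 1, 3, 4, 2, 2, 5] true)) (.node (.leaf [0, 4,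 0, 4, 0, 4, 0, 4, 0, 4, 0, 4] true) (.leaf [6, 6, 0, 6, 0, 2, 0, 4, 4, 2, 4, 0, 4, 1, 7, 1, 7, 7, 5, 5, 2, 2, 1, 5, 3, 1, 1, 5, 1, 1] true))) (.node (.node (.leaf [0, 3, 0, 3, 0, 3, 3, 0, 4, 2, 5] true) (.leaf [6, 4, 1, 4, 0, 0, 2, 2, 7, 5, 5, 0, 4, 2, 1, 3, 4, 1, 1, 4, 1] true)) (.node (.leaf [0, 0, 2, 5, 3, 4, 2, 1, 3, 3, 5, 2, 4] true) (.nil)))) (.node (.node (.node (.leaf [0, 0, 0, 0, 0, 2, 0, 2, 0, 3, 3] true) (.leaf [0, 3, 0, 3, 0, 3, 3, 0, 3, 5, 3, 3, 4] true)) (.node (.leaf [0, 0, 0, 5, 2, 4, 1, 5, 3, 5, 5, 5, 5] true) (.leaf [6, 6, 0, 2, 0, 7, 4, 4, 1, 4, 2, 4, 6, 1, 3, 1, 7, 7, 1, 3, 5, 3, 1, 5, 1, 4, 4, 1] true))) (.node (.node (.leaf [0, 0, 3, 3, 1, 4, 2, 2, 2, 5, 0, 2] true) (.leaf [6, 3, 6, 2, 5, 5, 1,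 3, 5, 3, 1, 5, 1, 7, 2, 7, 5, 1, 5, 5, 1, 5, 2, 0, 5, 5, 3, 1] true)) (.node (.leaf [0, 0, 4, 3, 5, 1, 3, 1, 4, 3, 5, 3, 3] true) (.nil))))) (.node (.node (.node (.node (.leaf [0, 0, 3, 1, 3, 3, 3, 4, 2, 5] true) (.leaf [0, 2, 2, 0, 5, 3, 3, 4, 0, 2, 5, 2, 4] true)) (.node (.leaf [0, 0, 0, 2, 2, 2, 1, 2, 2, 5, 2, 2, 4] true) (.leaf [6, 0, 4, 0, 0, 4, 4, 0, 7, 1, 4, 2, 4, 0, 5, 0, 0, 4, 3, 1, 1] true))) (.node (.node (.leaf [0, 0, 0, 4, 2, 5, 1, 1, 5, 3, 4, 3] true) (.leaf [6, 4, 1, 1, 4, 0, 2, 4, 4, 7, 5, 3, 5, 1, 3, 5, 5, 0, 4, 4, 2] true)) (.node (.leaf [0, 0, 3, 3, 0, 3, 5, 3, 3, 4, 1, 3, 3] true) (.nil)))) (.node (.node (.node (.leaf [0, 0, 3, 0, 3, 3, 1, 2, 0, 2, 2] true) (.leaf [0, 3, 3, 0, 4, 3, 5, 0, 3, 5,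 3, 4, 3] true)) (.node (.leaf [0, 0, 2, 2, 0, 3, 4, 3, 5, 1, 5, 2, 4] true) (.nil))) (.node (.node (.leaf [0, 2, 2, 0, 2, 4, 2, 5, 0, 4, 2, 5] true) (.leaf [6, 3, 6, 1, 1, 1, 1, 1, 4, 1, 3, 5, 5, 7, 2, 7, 4, 1, 1, 2, 4, 1, 2, 5, 1, 3, 4, 3] true)) (.node (.leaf [0, 2, 0, 2, 0, 5, 2, 2, 4, 2, 0, 2, 2] true) (.nil)))))) (.node (.node (.node (.node (.node (.leaf [0, 0, 5, 3, 4, 2, 2, 1, 2] true) (.leaf [0, 2, 2, 0, 2, 2, 0, 3, 0, 4, 3, 5, 2] true)) (.node (.leaf [0, 0, 0, 0, 3, 3, 1, 4, 3, 4, 3, 5, 5] true) (.leaf [6, 0, 6, 4, 0, 4, 0, 5, 2, 2, 0, 7, 1, 7, 4, 0, 5, 3, 0, 4, 1, 1, 2, 4, 4] true))) (.node (.node (.leaf [0, 0, 0, 0, 3, 3, 1, 5, 3, 3, 3, 4] true) (.leaf [6, 5, 3, 3, 0, 3, 4, 1, 2, 7, 4, 4, 1, 5, 1, 5, 5,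 1, 1, 5, 5, 1] true)) (.node (.leaf [0, 0, 3, 1, 3, 5, 5, 0, 0, 3, 1, 4, 4] true) (.nil)))) (.node (.node (.node (.leaf [0, 0, 0, 5, 2, 4, 1, 2, 4, 3, 5] true) (.leaf [0, 3, 0, 4, 2, 5, 1, 5, 5, 2, 4, 4, 3] true)) (.node (.leaf [0, 0, 2, 0, 3, 4, 3, 5, 0, 0, 4, 2, 5] true) (.leaf [2, 2, 5, 5, 2, 4, 4] true))) (.node (.node (.leaf [0, 2, 0, 2, 2, 2, 1, 2, 5, 2, 2, 4] true) (.leaf [6, 3, 6, 5, 3, 1, 5, 1, 5, 0, 4, 1, 1, 7, 2, 7, 5, 0, 3, 4, 0, 4, 0, 5, 3] true)) (.node (.leaf [0, 0, 5, 2, 4, 0, 2, 2, 0, 4, 3, 5, 3] true) (.nil))))) (.node (.node (.node (.node (.leaf [0, 0, 4, 2, 4, 3, 5, 5, 1, 2] true) (.leaf [0, 2, 2, 1, 5, 2, 4, 1, 5, 3, 3, 4, 2] true)) (.node (.leaf [0, 0, 0, 4, 2, 5, 0, 0, 3, 3, 1, 3, 3] true) (.leaf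 [6, 5, 2, 5, 0, 3, 5, 1, 7, 2, 0, 5, 2, 1, 2, 5, 0, 2, 4, 0, 0] true))) (.node (.node (.leaf [0, 0, 2, 5, 0, 0, 3, 1, 4, 2, 1, 2] true) (.leaf [6, 3, 6, 0, 0, 0, 2, 5, 0, 4, 0, 0, 7, 2, 7, 0, 5, 1, 4, 4, 0, 5, 5, 0, 4] true)) (.node (.leaf [0, 0, 4, 1, 4, 3, 5, 0, 2, 0, 5, 1, 2] true) (.nil)))) (.node (.node (.node (.leaf [0, 0, 4, 3, 4, 4, 4, 2, 4, 1, 2] true) (.leaf [6, 1, 1, 1, 1, 5, 7, 5, 0, 0, 0, 0, 4, 4, 0, 5, 5] true)) (.node (.leaf [0, 0, 2, 2, 4, 0, 2, 1, 1, 2, 5, 1, 2] true) (.nil))) (.node (.node (.leaf [0, 3, 0, 3, 0, 3, 3, 0, 5, 2, 4, 2] true) (.leaf [6, 6, 0, 6, 4, 4, 0, 5, 5, 1, 2, 5, 2, 7, 1, 7, 7, 0, 5, 0, 4, 3, 1, 4, 4, 0, 0, 2] true)) (.node (.leaf [0, 2, 0, 3, 0, 5, 2, 4, 0, 3, 0, 3, 3] true) (.nil))))))))))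

/-- the twists of the words -/
def evL : List (List ℤ) := [[(.ofNat 0), (.ofNat 0), (.ofNat 0), (.ofNat 0), (.ofNat 0), (.ofNat 0)], [(.ofNat 0), (.ofNat 0), (.ofNat 0), (.ofNat 0), (.ofNat 0), (.ofNat 0)], [(.ofNat 0), (.ofNat 0), (.ofNat 0), (.ofNat 0), (.ofNat 0), (.ofNat 0)], [(.ofNat 0), (.ofNat 0), (.ofNat 0), (.ofNat 0), (.ofNat 0), (.ofNat 0)], [(.ofNat 0), (.ofNat 0), (.ofNat 0), (.ofNat 0), (.ofNat 0), (.ofNat 0)], [(.ofNat 0), (.ofNat 0), (.ofNat 0), (.ofNat 0), (.ofNat 0), (.ofNat 0)], [(.ofNat 0), (.ofNat 0), (.ofNat 0), (.ofNat 0), (.ofNat 0), (.ofNat 0)], [(.ofNat 0), (.ofNat 0), (.ofNat 0), (.ofNat 0), (.ofNat 0), (.ofNat 0)], [(.ofNat 0), (.ofNat 0), (.ofNat 0), (.ofNat 0), (.ofNat 0), (.ofNat 0)],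 [(.ofNat 0), (.ofNat 0), (.ofNat 0), (.ofNat 0), (.ofNat 0), (.ofNat 0)], [(.ofNat 0), (.ofNat 0), (.ofNat 0), (.ofNat 0), (.ofNat 0), (.ofNat 0)], [(.ofNat 0), (.ofNat 0), (.ofNat 0), (.ofNat 0), (.ofNat 0), (.ofNat 0)], [(.ofNat 0), (.ofNat 0), (.ofNat 0), (.ofNat 0), (.ofNat 0), (.ofNat 0)], [(.ofNat 0), (.ofNat 0), (.ofNat 0), (.ofNat 0), (.ofNat 0), (.ofNat 0)], [(.ofNat 0), (.ofNat 0), (.ofNat 0), (.ofNat 0), (.ofNat 0), (.ofNat 0)], [(.ofNat 0), (.ofNat 0), (.ofNat 0), (.ofNat 0), (.ofNat 0), (.ofNat 0)], [(.ofNat 0), (.ofNat 0), (.ofNat 0), (.ofNat 0), (.ofNat 0), (.ofNat 0)], [(.ofNat 0), (.ofNat 0), (.ofNat 0), (.ofNat 0), (.ofNat 0), (.ofNat 0)], [(.ofNat 0), (.ofNat 0), (.ofNat 0), (.ofNat 0), (.ofNat 0),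 (.ofNat 0)], [(.ofNat 0), (.ofNat 0), (.ofNat 0), (.ofNat 0), (.ofNat 0), (.ofNat 0)], [(.ofNat 0), (.ofNat 0), (.ofNat 0), (.ofNat 0), (.ofNat 0), (.ofNat 0)], [(.ofNat 0), (.ofNat 0), (.ofNat 0), (.ofNat 0), (.ofNat 0), (.ofNat 0)], [(.ofNat 0), (.ofNat 0), (.ofNat 0), (.ofNat 0), (.ofNat 0), (.ofNat 0)], [(.ofNat 0), (.ofNat 0), (.ofNat 0), (.ofNat 0), (.ofNat 0), (.ofNat 0)], [(.ofNat 0), (.ofNat 0), (.ofNat 0), (.ofNat 0), (.ofNat 0), (.ofNat 0)], [(.ofNat 0), (.ofNat 0), (.ofNat 0), (.ofNat 0), (.ofNat 0), (.ofNat 0)], [(.ofNat 0), (.ofNat 0), (.ofNat 0), (.ofNat 0), (.ofNat 0), (.ofNat 0)], [(.ofNat 0), (.ofNat 0), (.ofNat 0), (.ofNat 0), (.ofNat 0), (.ofNat 0)], [(.ofNat 0), (.ofNat 0), (.ofNat 0), (.ofNat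 0), (.ofNat 0), (.ofNat 0)], [(.ofNat 0), (.ofNat 0), (.ofNat 0), (.ofNat 0), (.ofNat 0), (.ofNat 0)], [(.ofNat 0), (.ofNat 0), (.ofNat 0), (.ofNat 0), (.ofNat 0), (.ofNat 0)], [(.ofNat 0), (.ofNat 0), (.ofNat 0), (.ofNat 0), (.ofNat 0), (.ofNat 0)], [(.ofNat 0), (.ofNat 0), (.ofNat 0), (.ofNat 0), (.ofNat 0), (.ofNat 0)], [(.ofNat 0), (.ofNat 0), (.ofNat 0), (.ofNat 0), (.ofNat 0), (.ofNat 0)], [(.ofNat 0), (.ofNat 0), (.ofNat 0), (.ofNat 0), (.ofNat 0), (.ofNat 0)], [(.ofNat 0), (.ofNat 0), (.ofNat 0), (.ofNat 0), (.ofNat 0), (.ofNat 0)], [(.ofNat 0), (.ofNat 0), (.ofNat 0), (.ofNat 0), (.ofNat 0), (.ofNat 0)], [(.ofNat 0), (.ofNat 0), (.ofNat 0), (.ofNat 0), (.ofNat 0), (.ofNat 0)], [(.ofNat 0), (.ofNat 0), (.ofNat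 0), (.ofNat 0), (.ofNat 0), (.ofNat 0)], [(.ofNat 0), (.ofNat 0), (.ofNat 0), (.ofNat 0), (.ofNat 0), (.ofNat 0)], [(.ofNat 0), (.ofNat 0), (.ofNat 0), (.ofNat 0), (.ofNat 0), (.ofNat 0)], [(.ofNat 0), (.ofNat 0), (.ofNat 0), (.ofNat 0), (.ofNat 0), (.ofNat 0)], [(.ofNat 0), (.ofNat 0), (.ofNat 0), (.ofNat 0), (.ofNat 0), (.ofNat 0)], [(.ofNat 0), (.ofNat 0), (.ofNat 0), (.ofNat 0), (.ofNat 0), (.ofNat 0)], [(.ofNat 0), (.ofNat 0), (.ofNat 0), (.ofNat 0), (.ofNat 0), (.ofNat 0)], [(.ofNat 0), (.ofNat 0), (.ofNat 0), (.ofNat 0), (.ofNat 0), (.ofNat 0)], [(.ofNat 0), (.ofNat 0), (.ofNat 0), (.ofNat 0), (.ofNat 0), (.ofNat 0)], [(.ofNat 0), (.ofNat 0), (.ofNat 0), (.ofNat 0), (.ofNat 0), (.ofNat 0)], [(.ofNat 0), (.ofNat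 0), (.ofNat 0), (.ofNat 0), (.ofNat 0), (.ofNat 0)], [(.ofNat 0), (.ofNat 0), (.ofNat 0), (.ofNat 0), (.ofNat 0), (.ofNat 0)], [(.ofNat 0), (.ofNat 0), (.ofNat 0), (.ofNat 0), (.ofNat 0), (.ofNat 0)], [(.ofNat 0), (.ofNat 0), (.ofNat 0), (.ofNat 0), (.ofNat 0), (.ofNat 0)], [(.ofNat 0), (.ofNat 0), (.ofNat 0), (.ofNat 0), (.ofNat 0), (.ofNat 0)], [(.ofNat 0), (.ofNat 0), (.ofNat 0), (.ofNat 0), (.ofNat 0), (.ofNat 0)], [(.ofNat 0), (.ofNat 0), (.ofNat 0), (.ofNat 0), (.ofNat 0), (.ofNat 0)], [(.ofNat 0), (.ofNat 0), (.ofNat 0), (.ofNat 0), (.ofNat 0), (.ofNat 0)], [(.ofNat 0), (.ofNat 0), (.ofNat 0), (.ofNat 0), (.ofNat 0), (.ofNat 0)], [(.ofNat 0), (.ofNat 0), (.ofNat 0), (.ofNat 0), (.ofNat 0), (.ofNat 0)], [(.ofNat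 0), (.ofNat 0), (.ofNat 0), (.ofNat 0), (.ofNat 0), (.ofNat 0)], [(.ofNat 0), (.ofNat 0), (.ofNat 0), (.ofNat 0), (.ofNat 0), (.ofNat 0)], [(.ofNat 0), (.ofNat 0), (.ofNat 0), (.ofNat 0), (.ofNat 0), (.ofNat 0)], [(.ofNat 0), (.ofNat 0), (.ofNat 0), (.ofNat 0), (.ofNat 0), (.ofNat 0)], [(.ofNat 0), (.ofNat 0), (.ofNat 0), (.ofNat 0), (.ofNat 0), (.ofNat 0)], [(.ofNat 0), (.ofNat 0), (.ofNat 0), (.ofNat 0), (.ofNat 0), (.ofNat 0)], [(.ofNat 0), (.ofNat 0), (.ofNat 0), (.ofNat 0), (.ofNat 0), (.ofNat 0)], [(.ofNat 0), (.ofNat 0), (.ofNat 0), (.ofNat 0), (.ofNat 0), (.ofNat 0)], [(.ofNat 0), (.ofNat 0), (.ofNat 0), (.ofNat 0), (.ofNat 0), (.ofNat 0)], [(.ofNat 0), (.ofNat 0), (.ofNat 0), (.ofNat 0), (.ofNat 0), (.ofNat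 0)], [(.ofNat 0), (.ofNat 0), (.ofNat 0), (.ofNat 0), (.ofNat 0), (.ofNat 0)], [(.ofNat 0), (.ofNat 0), (.ofNat 0), (.ofNat 0), (.ofNat 0), (.ofNat 0)], [(.ofNat 0), (.ofNat 0), (.ofNat 0), (.ofNat 0), (.ofNat 0), (.ofNat 0)], [(.ofNat 0), (.ofNat 0), (.ofNat 0), (.ofNat 0), (.ofNat 0), (.ofNat 0)], [(.ofNat 0), (.ofNat 0), (.ofNat 0), (.ofNat 0), (.ofNat 0), (.ofNat 0)], [(.ofNat 0), (.ofNat 0), (.ofNat 0), (.ofNat 0), (.ofNat 0), (.ofNat 0)], [(.ofNat 0), (.ofNat 0), (.ofNat 0), (.ofNat 0), (.ofNat 0), (.ofNat 0)], [(.ofNat 0), (.ofNat 0), (.ofNat 0), (.ofNat 0), (.ofNat 0), (.ofNat 0)], [(.ofNat 0), (.ofNat 0), (.ofNat 0), (.ofNat 0), (.ofNat 0), (.ofNat 0)], [(.ofNat 0), (.ofNat 0), (.ofNat 0), (.ofNat 0), (.ofNat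 0), (.ofNat 0)], [(.ofNat 0), (.ofNat 0), (.ofNat 0), (.ofNat 0), (.ofNat 0), (.ofNat 0)], [(.ofNat 0), (.ofNat 0), (.ofNat 0), (.ofNat 0), (.ofNat 0), (.ofNat 0)], [(.ofNat 0), (.ofNat 0), (.ofNat 0), (.ofNat 0), (.ofNat 0), (.ofNat 0)], [(.ofNat 0), (.ofNat 0), (.ofNat 0), (.ofNat 0), (.ofNat 0), (.ofNat 0)], [(.ofNat 0), (.ofNat 0), (.ofNat 0), (.ofNat 0), (.ofNat 0), (.ofNat 0)], [(.ofNat 0), (.ofNat 0), (.ofNat 0), (.ofNat 0), (.ofNat 0), (.ofNat 0)], [(.ofNat 0), (.ofNat 0), (.ofNat 0), (.ofNat 0), (.ofNat 0), (.ofNat 0)], [(.ofNat 0), (.ofNat 0), (.ofNat 0), (.ofNat 0), (.ofNat 0), (.ofNat 0)], [(.ofNat 0), (.ofNat 0), (.ofNat 0), (.ofNat 0), (.ofNat 0), (.ofNat 0)], [(.ofNat 0), (.ofNat 0), (.ofNat 0), (.ofNat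 0), (.ofNat 0), (.ofNat 0)], [(.ofNat 0), (.ofNat 0), (.ofNat 0), (.ofNat 0), (.ofNat 0), (.ofNat 0)], [(.ofNat 0), (.ofNat 0), (.ofNat 0), (.ofNat 0), (.ofNat 0), (.ofNat 0)], [(.ofNat 0), (.ofNat 0), (.ofNat 0), (.ofNat 0), (.ofNat 0), (.ofNat 0)], [(.ofNat 0), (.ofNat 0), (.ofNat 0), (.ofNat 0), (.ofNat 0), (.ofNat 0)], [(.ofNat 0), (.ofNat 0), (.ofNat 0), (.ofNat 0), (.ofNat 0), (.ofNat 0)], [(.ofNat 0), (.ofNat 0), (.ofNat 0), (.ofNat 0), (.ofNat 0), (.ofNat 0)], [(.ofNat 0), (.ofNat 0), (.ofNat 0), (.ofNat 0), (.ofNat 0), (.ofNat 0)], [(.ofNat 0), (.ofNat 0), (.ofNat 0), (.ofNat 0), (.ofNat 0), (.ofNat 0)], [(.ofNat 0), (.ofNat 0), (.ofNat 0), (.ofNat 0), (.ofNat 0), (.ofNat 0)], [(.ofNat 0), (.ofNat 0), (.ofNat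 0), (.ofNat 0), (.ofNat 0), (.ofNat 0)], [(.ofNat 0), (.ofNat 0), (.ofNat 0), (.ofNat 0), (.ofNat 0), (.ofNat 0)], [(.ofNat 0), (.ofNat 0), (.ofNat 0), (.ofNat 0), (.ofNat 0), (.ofNat 0)], [(.ofNat 0), (.ofNat 0), (.ofNat 0), (.ofNat 0), (.ofNat 0), (.ofNat 0)], [(.ofNat 0), (.ofNat 0), (.ofNat 0), (.ofNat 0), (.ofNat 0), (.ofNat 0)], [(.ofNat 0), (.ofNat 0), (.ofNat 0), (.ofNat 0), (.ofNat 0), (.ofNat 0)], [(.ofNat 0), (.ofNat 0), (.ofNat 0), (.ofNat 0), (.ofNat 0), (.ofNat 0)], [(.ofNat 0), (.ofNat 0), (.ofNat 0), (.ofNat 0), (.ofNat 0), (.ofNat 0)], [(.ofNat 0), (.ofNat 0), (.ofNat 0), (.ofNat 0), (.ofNat 0), (.ofNat 0)], [(.ofNat 0), (.ofNat 0), (.ofNat 0), (.ofNat 0), (.ofNat 0), (.ofNat 0)], [(.ofNat 0), (.ofNat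 0), (.ofNat 0), (.ofNat 0), (.ofNat 0), (.ofNat 0)], [(.ofNat 0), (.ofNat 0), (.ofNat 0), (.ofNat 0), (.ofNat 0), (.ofNat 0)], [(.ofNat 0), (.ofNat 0), (.ofNat 0), (.ofNat 0), (.ofNat 0), (.ofNat 0)], [(.ofNat 0), (.ofNat 0), (.ofNat 0), (.ofNat 0), (.ofNat 0), (.ofNat 0)], [(.ofNat 0), (.ofNat 0), (.ofNat 0), (.ofNat 0), (.ofNat 0), (.ofNat 0)], [(.ofNat 0), (.ofNat 0), (.ofNat 0), (.ofNat 0), (.ofNat 0), (.ofNat 0)], [(.ofNat 0), (.ofNat 0), (.ofNat 0), (.ofNat 0), (.ofNat 0), (.ofNat 0)], [(.ofNat 0), (.ofNat 0), (.ofNat 0), (.ofNat 0), (.ofNat 0), (.ofNat 0)], [(.ofNat 0), (.ofNat 0), (.ofNat 0), (.ofNat 0), (.ofNat 0), (.ofNat 0)], [(.ofNat 0), (.ofNat 0), (.ofNat 0), (.ofNat 0), (.ofNat 0), (.ofNat 0)], [(.ofNat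 0), (.ofNat 0), (.ofNat 0), (.ofNat 0), (.ofNat 0), (.ofNat 0)], [(.ofNat 0), (.ofNat 0), (.ofNat 0), (.ofNat 0), (.ofNat 0), (.ofNat 0)], [(.ofNat 0), (.ofNat 0), (.ofNat 0), (.ofNat 0), (.ofNat 0), (.ofNat 0)], [(.ofNat 0), (.ofNat 0), (.ofNat 0), (.ofNat 0), (.ofNat 0), (.ofNat 0)], [(.ofNat 0), (.ofNat 0), (.ofNat 0), (.ofNat 0), (.ofNat 0), (.ofNat 0)], [(.ofNat 0), (.ofNat 0), (.ofNat 0), (.ofNat 0), (.ofNat 0), (.ofNat 0)], [(.ofNat 0), (.ofNat 0), (.ofNat 0), (.ofNat 0), (.ofNat 0), (.ofNat 0)], [(.ofNat 0), (.ofNat 0), (.ofNat 0), (.ofNat 0), (.ofNat 0), (.ofNat 0)], [(.ofNat 0), (.ofNat 0), (.ofNat 0), (.ofNat 0), (.ofNat 0), (.ofNat 0)], [(.ofNat 0), (.ofNat 0), (.ofNat 0), (.ofNat 0), (.ofNat 0), (.ofNat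 0)], [(.ofNat 0), (.ofNat 0), (.ofNat 0), (.ofNat 0), (.ofNat 0), (.ofNat 0)], [(.ofNat 0), (.ofNat 0), (.ofNat 0), (.ofNat 0), (.ofNat 0), (.ofNat 0)], [(.ofNat 0), (.ofNat 0), (.ofNat 0), (.ofNat 0), (.ofNat 0), (.ofNat 0)], [(.ofNat 0), (.ofNat 0), (.ofNat 0), (.ofNat 0), (.ofNat 0), (.ofNat 0)], [(.ofNat 0), (.ofNat 0), (.ofNat 0), (.ofNat 0), (.ofNat 0), (.ofNat 0)], [(.ofNat 0), (.ofNat 0), (.ofNat 0), (.ofNat 0), (.ofNat 0), (.ofNat 0)], [(.ofNat 0), (.ofNat 0), (.ofNat 0), (.ofNat 0), (.ofNat 0), (.ofNat 0)], [(.ofNat 0), (.ofNat 0), (.ofNat 0), (.ofNat 0), (.ofNat 0), (.ofNat 0)], [(.ofNat 0), (.ofNat 0), (.ofNat 0), (.ofNat 0), (.ofNat 0), (.ofNat 0)], [(.ofNat 0), (.ofNat 0), (.ofNat 0), (.ofNat 0), (.ofNat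 0), (.ofNat 0)], [(.ofNat 0), (.ofNat 0), (.ofNat 0), (.ofNat 0), (.ofNat 0), (.ofNat 0)], [(.ofNat 0), (.ofNat 0), (.ofNat 0), (.ofNat 0), (.ofNat 0), (.ofNat 0)], [(.ofNat 0), (.ofNat 0), (.ofNat 0), (.ofNat 0), (.ofNat 0), (.ofNat 0)], [(.ofNat 0), (.ofNat 0), (.ofNat 0), (.ofNat 0), (.ofNat 0), (.ofNat 0)], [(.ofNat 0), (.ofNat 0), (.ofNat 0), (.ofNat 0), (.ofNat 0), (.ofNat 0)], [(.ofNat 0), (.ofNat 0), (.ofNat 0), (.ofNat 0), (.ofNat 0), (.ofNat 0)], [(.ofNat 0), (.ofNat 0), (.ofNat 0), (.ofNat 0), (.ofNat 0), (.ofNat 0)], [(.ofNat 0), (.ofNat 0), (.ofNat 0), (.ofNat 0), (.ofNat 0), (.ofNat 0)], [(.ofNat 0), (.ofNat 0), (.ofNat 0), (.ofNat 0), (.ofNat 0), (.ofNat 0)], [(.ofNat 0), (.ofNat 0), (.ofNat 0), (.ofNat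 0), (.ofNat 0), (.ofNat 0)], [(.ofNat 0), (.ofNat 0), (.ofNat 0), (.ofNat 0), (.ofNat 0), (.ofNat 0)], [(.ofNat 0), (.ofNat 0), (.ofNat 0), (.ofNat 0), (.ofNat 0), (.ofNat 0)], [(.ofNat 0), (.ofNat 0), (.ofNat 0), (.ofNat 0), (.ofNat 0), (.ofNat 0)], [(.ofNat 0), (.ofNat 0), (.ofNat 0), (.ofNat 0), (.ofNat 0), (.ofNat 0)], [(.ofNat 0), (.ofNat 0), (.ofNat 0), (.ofNat 0), (.ofNat 0), (.ofNat 0)], [(.ofNat 0), (.ofNat 0), (.ofNat 0), (.ofNat 0), (.ofNat 0), (.ofNat 0)], [(.ofNat 0), (.ofNat 0), (.ofNat 0), (.ofNat 0), (.ofNat 0), (.ofNat 0)], [(.ofNat 0), (.ofNat 0), (.ofNat 0), (.ofNat 0), (.ofNat 0), (.ofNat 0)], [(.ofNat 0), (.ofNat 0), (.ofNat 0), (.ofNat 0), (.ofNat 0), (.ofNat 0)], [(.ofNat 0), (.ofNat 0), (.ofNat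 0), (.ofNat 0), (.ofNat 0), (.ofNat 0)], [(.ofNat 0), (.ofNat 0), (.ofNat 0), (.ofNat 0), (.ofNat 0), (.ofNat 0)], [(.ofNat 0), (.ofNat 0), (.ofNat 0), (.ofNat 0), (.ofNat 0), (.ofNat 0)], [(.ofNat 0), (.ofNat 0), (.ofNat 0), (.ofNat 0), (.ofNat 0), (.ofNat 0)], [(.ofNat 0), (.ofNat 0), (.ofNat 0), (.ofNat 0), (.ofNat 0), (.ofNat 0)], [(.ofNat 0), (.ofNat 0), (.ofNat 0), (.ofNat 0), (.ofNat 0), (.ofNat 0)], [(.ofNat 0), (.ofNat 0), (.ofNat 0), (.ofNat 0), (.ofNat 0), (.ofNat 0)], [(.ofNat 0), (.ofNat 0), (.ofNat 0), (.ofNat 0), (.ofNat 0), (.ofNat 0)], [(.ofNat 0), (.ofNat 0), (.ofNat 0), (.ofNat 0), (.ofNat 0), (.ofNat 0)], [(.ofNat 0), (.ofNat 0), (.ofNat 0), (.ofNat 0), (.ofNat 0), (.ofNat 0)], [(.ofNat 0), (.ofNat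 0), (.ofNat 0), (.ofNat 0), (.ofNat 0), (.ofNat 0)], [(.ofNat 0), (.ofNat 0), (.ofNat 0), (.ofNat 0), (.ofNat 0), (.ofNat 0)], [(.ofNat 0), (.ofNat 0), (.ofNat 0), (.ofNat 0), (.ofNat 0), (.ofNat 0)], [(.ofNat 0), (.ofNat 0), (.ofNat 0), (.ofNat 0), (.ofNat 0), (.ofNat 0)], [(.ofNat 0), (.ofNat 0), (.ofNat 0), (.ofNat 0), (.ofNat 0), (.ofNat 0)], [(.ofNat 0), (.ofNat 0), (.ofNat 0), (.ofNat 0), (.ofNat 0), (.ofNat 0)], [(.ofNat 0), (.ofNat 0), (.ofNat 0), (.ofNat 0), (.ofNat 0), (.ofNat 0)], [(.ofNat 0), (.ofNat 0), (.ofNat 0), (.ofNat 0), (.ofNat 0), (.ofNat 0)], [(.ofNat 0), (.ofNat 0), (.ofNat 0), (.ofNat 0), (.ofNat 0), (.ofNat 0)], [(.ofNat 0), (.ofNat 0), (.ofNat 0), (.ofNat 0), (.ofNat 0), (.ofNat 0)], [(.ofNat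 0), (.ofNat 0), (.ofNat 0), (.ofNat 0), (.ofNat 0), (.ofNat 0)], [(.ofNat 0), (.ofNat 0), (.ofNat 0), (.ofNat 0), (.ofNat 0), (.ofNat 0)], [(.ofNat 0), (.ofNat 0), (.ofNat 0), (.ofNat 0), (.ofNat 0), (.ofNat 0)], [(.ofNat 0), (.ofNat 0), (.ofNat 0), (.ofNat 0), (.ofNat 0), (.ofNat 0)], [(.ofNat 0), (.ofNat 0), (.ofNat 0), (.ofNat 0), (.ofNat 0), (.ofNat 0)], [(.ofNat 0), (.ofNat 0), (.ofNat 0), (.ofNat 0), (.ofNat 0), (.ofNat 0)], [(.ofNat 0), (.ofNat 0), (.ofNat 0), (.ofNat 0), (.ofNat 0), (.ofNat 0)], [(.ofNat 0), (.ofNat 0), (.ofNat 0), (.ofNat 0), (.ofNat 0), (.ofNat 0)], [(.ofNat 0), (.ofNat 0), (.ofNat 0), (.ofNat 0), (.ofNat 0), (.ofNat 0)], [(.ofNat 0), (.ofNat 0), (.ofNat 0), (.ofNat 0), (.ofNat 0), (.ofNat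 0)], [(.ofNat 0), (.ofNat 0), (.ofNat 0), (.ofNat 0), (.ofNat 0), (.ofNat 0)], [(.ofNat 0), (.ofNat 0), (.ofNat 0), (.ofNat 0), (.ofNat 0), (.ofNat 0)], [(.ofNat 0), (.ofNat 0), (.ofNat 0), (.ofNat 0), (.ofNat 0), (.ofNat 0)], [(.ofNat 0), (.ofNat 0), (.ofNat 0), (.ofNat 0), (.ofNat 0), (.ofNat 0)], [(.ofNat 0), (.ofNat 0), (.ofNat 0), (.ofNat 0), (.ofNat 0), (.ofNat 0)], [(.ofNat 0), (.ofNat 0), (.ofNat 0), (.ofNat 0), (.ofNat 0), (.ofNat 0)], [(.ofNat 0), (.ofNat 0), (.ofNat 0), (.ofNat 0), (.ofNat 0), (.ofNat 0)], [(.ofNat 0), (.ofNat 0), (.ofNat 0), (.ofNat 0), (.ofNat 0), (.ofNat 0)], [(.ofNat 0), (.ofNat 0), (.ofNat 0), (.ofNat 0), (.ofNat 0), (.ofNat 0)], [(.ofNat 0), (.ofNat 0), (.ofNat 0), (.ofNat 0), (.ofNat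 0), (.ofNat 0)], [(.ofNat 0), (.ofNat 0), (.ofNat 0), (.ofNat 0), (.ofNat 0), (.ofNat 0)], [(.ofNat 0), (.ofNat 0), (.ofNat 0), (.ofNat 0), (.ofNat 0), (.ofNat 0)], [(.ofNat 0), (.ofNat 0), (.ofNat 0), (.ofNat 0), (.ofNat 0), (.ofNat 0)], [(.ofNat 0), (.ofNat 0), (.ofNat 0), (.ofNat 0), (.ofNat 0), (.ofNat 0)], [(.ofNat 0), (.ofNat 0), (.ofNat 0), (.ofNat 0), (.ofNat 0), (.ofNat 0)], [(.ofNat 0), (.ofNat 0), (.ofNat 0), (.ofNat 0), (.ofNat 0), (.ofNat 0)], [(.ofNat 0), (.ofNat 0), (.ofNat 0), (.ofNat 0), (.ofNat 0), (.ofNat 0)], [(.ofNat 0), (.ofNat 0), (.ofNat 0), (.ofNat 0), (.ofNat 0), (.ofNat 0)], [(.ofNat 0), (.ofNat 0), (.ofNat 0), (.ofNat 0), (.ofNat 0), (.ofNat 0)], [(.ofNat 0), (.ofNat 0), (.ofNat 0), (.ofNat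 0), (.ofNat 0), (.ofNat 0)], [(.ofNat 0), (.ofNat 0), (.ofNat 0), (.ofNat 0), (.ofNat 0), (.ofNat 0)], [(.ofNat 0), (.ofNat 0), (.ofNat 0), (.ofNat 0), (.ofNat 0), (.ofNat 0)], [(.ofNat 0), (.ofNat 0), (.ofNat 0), (.ofNat 0), (.ofNat 0), (.ofNat 0)], [(.ofNat 0), (.ofNat 0), (.ofNat 0), (.ofNat 0), (.ofNat 0), (.ofNat 0)], [(.ofNat 0), (.ofNat 0), (.ofNat 0), (.ofNat 0), (.ofNat 0), (.ofNat 0)], [(.ofNat 0), (.ofNat 0), (.ofNat 0), (.ofNat 0), (.ofNat 0), (.ofNat 0)], [(.ofNat 0), (.ofNat 0), (.ofNat 0), (.ofNat 0), (.ofNat 0), (.ofNat 0)], [(.ofNat 0), (.ofNat 0), (.ofNat 0), (.ofNat 0), (.ofNat 0), (.ofNat 0)], [(.ofNat 0), (.ofNat 0), (.ofNat 0), (.ofNat 0), (.ofNat 0), (.ofNat 0)], [(.ofNat 0), (.ofNat 0), (.ofNat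 0), (.ofNat 0), (.ofNat 0), (.ofNat 0)], [(.ofNat 0), (.ofNat 0), (.ofNat 0), (.ofNat 0), (.ofNat 0), (.ofNat 0)], [(.ofNat 0), (.ofNat 0), (.ofNat 0), (.ofNat 0), (.ofNat 0), (.ofNat 0)], [(.ofNat 0), (.ofNat 0), (.ofNat 0), (.ofNat 0), (.ofNat 0), (.ofNat 0)], [(.ofNat 0), (.ofNat 0), (.ofNat 0), (.ofNat 0), (.ofNat 0), (.ofNat 0)], [(.ofNat 0), (.ofNat 0), (.ofNat 0), (.ofNat 0), (.ofNat 0), (.ofNat 0)], [(.ofNat 0), (.ofNat 0), (.ofNat 0), (.ofNat 0), (.ofNat 0), (.ofNat 0)], [(.ofNat 0), (.ofNat 0), (.ofNat 0), (.ofNat 0), (.ofNat 0), (.ofNat 0)], [(.ofNat 0), (.ofNat 0), (.ofNat 0), (.ofNat 0), (.ofNat 0), (.ofNat 0)], [(.ofNat 0), (.ofNat 0), (.ofNat 0), (.ofNat 0), (.ofNat 0), (.ofNat 0)], [(.ofNat 0), (.ofNat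 0), (.ofNat 0), (.ofNat 0), (.ofNat 0), (.ofNat 0)], [(.ofNat 0), (.ofNat 0), (.ofNat 0), (.ofNat 0), (.ofNat 0), (.ofNat 0)], [(.ofNat 0), (.ofNat 0), (.ofNat 0), (.ofNat 0), (.ofNat 0), (.ofNat 0)], [(.ofNat 0), (.ofNat 0), (.ofNat 0), (.ofNat 0), (.ofNat 0), (.ofNat 0)], [(.ofNat 0), (.ofNat 0), (.ofNat 0), (.ofNat 0), (.ofNat 0), (.ofNat 0)], [(.ofNat 0), (.ofNat 0), (.ofNat 0), (.ofNat 0), (.ofNat 0), (.ofNat 0)], [(.ofNat 0), (.ofNat 0), (.ofNat 0), (.ofNat 0), (.ofNat 0), (.ofNat 0)], [(.ofNat 0), (.ofNat 0), (.ofNat 0), (.ofNat 0), (.ofNat 0), (.ofNat 0)], [(.ofNat 0), (.ofNat 0), (.ofNat 0), (.ofNat 0), (.ofNat 0), (.ofNat 0)], [(.ofNat 0), (.ofNat 0), (.ofNat 0), (.ofNat 0), (.ofNat 0), (.ofNat 0)], [(.ofNat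 0), (.ofNat 0), (.ofNat 0), (.ofNat 0), (.ofNat 0), (.ofNat 0)], [(.ofNat 0), (.ofNat 0), (.ofNat 0), (.ofNat 0), (.ofNat 0), (.ofNat 0)], [(.ofNat 0), (.ofNat 0), (.ofNat 0), (.ofNat 0), (.ofNat 0), (.ofNat 0)], [(.ofNat 0), (.ofNat 0), (.ofNat 0), (.ofNat 0), (.ofNat 0), (.ofNat 0)], [(.ofNat 0), (.ofNat 0), (.ofNat 0), (.ofNat 0), (.ofNat 0), (.ofNat 0)], [(.ofNat 0), (.ofNat 0), (.ofNat 0), (.ofNat 0), (.ofNat 0), (.ofNat 0)], [(.ofNat 0), (.ofNat 0), (.ofNat 0), (.ofNat 0), (.ofNat 0), (.ofNat 0)], [(.ofNat 0), (.ofNat 0), (.ofNat 0), (.ofNat 0), (.ofNat 0), (.ofNat 0)], [(.ofNat 0), (.ofNat 0), (.ofNat 0), (.ofNat 0), (.ofNat 0), (.ofNat 0)], [(.ofNat 0), (.ofNat 0), (.ofNat 0), (.ofNat 0), (.ofNat 0), (.ofNat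 0)], [(.ofNat 0), (.ofNat 0), (.ofNat 0), (.ofNat 0), (.ofNat 0), (.ofNat 0)], [(.ofNat 0), (.ofNat 0), (.ofNat 0), (.ofNat 0), (.ofNat 0), (.ofNat 0)], [(.ofNat 0), (.ofNat 0), (.ofNat 0), (.ofNat 0), (.ofNat 0), (.ofNat 0)], [(.ofNat 0), (.ofNat 0), (.ofNat 0), (.ofNat 0), (.ofNat 0), (.ofNat 0)], [(.ofNat 0), (.ofNat 0), (.ofNat 0), (.ofNat 0), (.ofNat 0), (.ofNat 0)], [(.ofNat 0), (.ofNat 0), (.ofNat 0), (.ofNat 0), (.ofNat 0), (.ofNat 0)], [(.ofNat 0), (.ofNat 0), (.ofNat 0), (.ofNat 0), (.ofNat 0), (.ofNat 0)], [(.ofNat 0), (.ofNat 0), (.ofNat 0), (.ofNat 0), (.ofNat 0), (.ofNat 0)], [(.ofNat 0), (.ofNat 0), (.ofNat 0), (.ofNat 0), (.ofNat 0), (.ofNat 0)], [(.ofNat 0), (.ofNat 0), (.ofNat 0), (.ofNat 0), (.ofNat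 0), (.ofNat 0)], [(.ofNat 0), (.ofNat 0), (.ofNat 0), (.ofNat 0), (.ofNat 0), (.ofNat 0)], [(.ofNat 0), (.ofNat 0), (.ofNat 0), (.ofNat 0), (.ofNat 0), (.ofNat 0)], [(.ofNat 0), (.ofNat 0), (.ofNat 0), (.ofNat 0), (.ofNat 0), (.ofNat 0)], [(.ofNat 0), (.ofNat 0), (.ofNat 0), (.ofNat 0), (.ofNat 0), (.ofNat 0)], [(.ofNat 0), (.ofNat 0), (.ofNat 0), (.ofNat 0), (.ofNat 0), (.ofNat 0)], [(.ofNat 0), (.ofNat 0), (.ofNat 0), (.ofNat 0), (.ofNat 0), (.ofNat 0)], [(.ofNat 0), (.ofNat 0), (.ofNat 0), (.ofNat 0), (.ofNat 0), (.ofNat 0)], [(.ofNat 0), (.ofNat 0), (.ofNat 0), (.ofNat 0), (.ofNat 0), (.ofNat 0)], [(.ofNat 0), (.ofNat 0), (.ofNat 0), (.ofNat 0), (.ofNat 0), (.ofNat 0)], [(.ofNat 0), (.ofNat 0), (.ofNat 0), (.ofNat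 0), (.ofNat 0), (.ofNat 0)], [(.ofNat 0), (.ofNat 0), (.ofNat 0), (.ofNat 0), (.ofNat 0), (.ofNat 0)], [(.ofNat 0), (.ofNat 0), (.ofNat 0), (.ofNat 0), (.ofNat 0), (.ofNat 0)], [(.ofNat 0), (.ofNat 0), (.ofNat 0), (.ofNat 0), (.ofNat 0), (.ofNat 0)], [(.ofNat 0), (.ofNat 0), (.ofNat 0), (.ofNat 0), (.ofNat 0), (.ofNat 0)], [(.ofNat 0), (.ofNat 0), (.ofNat 0), (.ofNat 0), (.ofNat 0), (.ofNat 0)], [(.ofNat 0), (.ofNat 0), (.ofNat 0), (.ofNat 0), (.ofNat 0), (.ofNat 0)], [(.ofNat 0), (.ofNat 0), (.ofNat 0), (.ofNat 0), (.ofNat 0), (.ofNat 0)], [(.ofNat 0), (.ofNat 0), (.ofNat 0), (.ofNat 0), (.ofNat 0), (.ofNat 0)], [(.ofNat 0), (.ofNat 0), (.ofNat 0), (.ofNat 0), (.ofNat 0), (.ofNat 0)], [(.ofNat 0), (.ofNat 0), (.ofNat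 0), (.ofNat 0), (.ofNat 0), (.ofNat 0)], [(.ofNat 0), (.ofNat 0), (.ofNat 0), (.ofNat 0), (.ofNat 0), (.ofNat 0)], [(.ofNat 0), (.ofNat 0), (.ofNat 0), (.ofNat 0), (.ofNat 0), (.ofNat 0)], [(.ofNat 0), (.ofNat 0), (.ofNat 0), (.ofNat 0), (.ofNat 0), (.ofNat 0)], [(.ofNat 0), (.ofNat 0), (.ofNat 0), (.ofNat 0), (.ofNat 0), (.ofNat 0)], [(.ofNat 0), (.ofNat 0), (.ofNat 0), (.ofNat 0), (.ofNat 0), (.ofNat 0)], [(.ofNat 0), (.ofNat 0), (.ofNat 0), (.ofNat 0), (.ofNat 0), (.ofNat 0)], [(.ofNat 0), (.ofNat 0), (.ofNat 0), (.ofNat 0), (.ofNat 0), (.ofNat 0)], [(.ofNat 0), (.ofNat 0), (.ofNat 0), (.ofNat 0), (.ofNat 0), (.ofNat 0)], [(.ofNat 0), (.ofNat 0), (.ofNat 0), (.ofNat 0), (.ofNat 0), (.ofNat 0)], [(.ofNat 0), (.ofNat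 0), (.ofNat 0), (.ofNat 0), (.ofNat 0), (.ofNat 0)], [(.ofNat 0), (.ofNat 0), (.ofNat 0), (.ofNat 0), (.ofNat 0), (.ofNat 0)], [(.ofNat 0), (.ofNat 0), (.ofNat 0), (.ofNat 0), (.ofNat 0), (.ofNat 0)], [(.ofNat 0), (.ofNat 0), (.ofNat 0), (.ofNat 0), (.ofNat 0), (.ofNat 0)], [(.ofNat 0), (.ofNat 0), (.ofNat 0), (.ofNat 0), (.ofNat 0), (.ofNat 0)], [(.ofNat 0), (.ofNat 0), (.ofNat 0), (.ofNat 0), (.ofNat 0), (.ofNat 0)], [(.ofNat 0), (.ofNat 0), (.ofNat 0), (.ofNat 0), (.ofNat 0), (.ofNat 0)], [(.ofNat 0), (.ofNat 0), (.ofNat 0), (.ofNat 0), (.ofNat 0), (.ofNat 0)], [(.ofNat 0), (.ofNat 0), (.ofNat 0), (.ofNat 0), (.ofNat 0), (.ofNat 0)], [(.ofNat 0), (.ofNat 0), (.ofNat 0), (.ofNat 0), (.ofNat 0), (.ofNat 0)], [(.ofNat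 0), (.ofNat 0), (.ofNat 0), (.ofNat 0), (.ofNat 0), (.ofNat 0)], [(.ofNat 0), (.ofNat 0), (.ofNat 0), (.ofNat 0), (.ofNat 0), (.ofNat 0)], [(.ofNat 0), (.ofNat 0), (.ofNat 0), (.ofNat 0), (.ofNat 0), (.ofNat 0)], [(.ofNat 0), (.ofNat 0), (.ofNat 0), (.ofNat 0), (.ofNat 0), (.ofNat 0)], [(.ofNat 0), (.ofNat 0), (.ofNat 0), (.ofNat 0), (.ofNat 0), (.ofNat 0)], [(.ofNat 0), (.ofNat 0), (.ofNat 0), (.ofNat 0), (.ofNat 0), (.ofNat 0)], [(.ofNat 0), (.ofNat 0), (.ofNat 0), (.ofNat 0), (.ofNat 0), (.ofNat 0)], [(.ofNat 0), (.ofNat 0), (.ofNat 0), (.ofNat 0), (.ofNat 0), (.ofNat 0)], [(.ofNat 0), (.ofNat 0), (.ofNat 0), (.ofNat 0), (.ofNat 0), (.ofNat 0)], [(.ofNat 0), (.ofNat 0), (.ofNat 0), (.ofNat 0), (.ofNat 0), (.ofNat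 0)], [(.ofNat 0), (.ofNat 0), (.ofNat 0), (.ofNat 0), (.ofNat 0), (.ofNat 0)], [(.ofNat 0), (.ofNat 0), (.ofNat 0), (.ofNat 0), (.ofNat 0), (.ofNat 0)], [(.ofNat 0), (.ofNat 0), (.ofNat 0), (.ofNat 0), (.ofNat 0), (.ofNat 0)], [(.ofNat 0), (.ofNat 0), (.ofNat 0), (.ofNat 0), (.ofNat 0), (.ofNat 0)], [(.ofNat 0), (.ofNat 0), (.ofNat 0), (.ofNat 0), (.ofNat 0), (.ofNat 0)], [(.ofNat 0), (.ofNat 0), (.ofNat 0), (.ofNat 0), (.ofNat 0), (.ofNat 0)], [(.ofNat 0), (.ofNat 0), (.ofNat 0), (.ofNat 0), (.ofNat 0), (.ofNat 0)], [(.ofNat 0), (.ofNat 0), (.ofNat 0), (.ofNat 0), (.ofNat 0), (.ofNat 0)], [(.ofNat 0), (.ofNat 0), (.ofNat 0), (.ofNat 0), (.ofNat 0), (.ofNat 0)], [(.ofNat 0), (.ofNat 0), (.ofNat 0), (.ofNat 0), (.ofNat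 0), (.ofNat 0)], [(.ofNat 0), (.ofNat 0), (.ofNat 0), (.ofNat 0), (.ofNat 0), (.ofNat 0)], [(.ofNat 0), (.ofNat 0), (.ofNat 0), (.ofNat 0), (.ofNat 0), (.ofNat 0)], [(.ofNat 0), (.ofNat 0), (.ofNat 0), (.ofNat 0), (.ofNat 0), (.ofNat 0)], [(.ofNat 0), (.ofNat 0), (.ofNat 0), (.ofNat 0), (.ofNat 0), (.ofNat 0)], [(.ofNat 0), (.ofNat 0), (.ofNat 0), (.ofNat 0), (.ofNat 0), (.ofNat 0)], [(.ofNat 0), (.ofNat 0), (.ofNat 0), (.ofNat 0), (.ofNat 0), (.ofNat 0)], [(.ofNat 0), (.ofNat 0), (.ofNat 0), (.ofNat 0), (.ofNat 0), (.ofNat 0)], [(.ofNat 0), (.ofNat 0), (.ofNat 0), (.ofNat 0), (.ofNat 0), (.ofNat 0)], [(.ofNat 0), (.ofNat 0), (.ofNat 0), (.ofNat 0), (.ofNat 0), (.ofNat 0)], [(.ofNat 0), (.ofNat 0), (.ofNat 0), (.ofNat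 0), (.ofNat 0), (.ofNat 0)], [(.ofNat 0), (.ofNat 0), (.ofNat 0), (.ofNat 0), (.ofNat 0), (.ofNat 0)], [(.ofNat 0), (.ofNat 0), (.ofNat 0), (.ofNat 0), (.ofNat 0), (.ofNat 0)], [(.ofNat 0), (.ofNat 0), (.ofNat 0), (.ofNat 0), (.ofNat 0), (.ofNat 0)], [(.ofNat 0), (.ofNat 0), (.ofNat 0), (.ofNat 0), (.ofNat 0), (.ofNat 0)], [(.ofNat 0), (.ofNat 0), (.ofNat 0), (.ofNat 0), (.ofNat 0), (.ofNat 0)], [(.ofNat 0), (.ofNat 0), (.ofNat 0), (.ofNat 0), (.ofNat 0), (.ofNat 0)], [(.ofNat 0), (.ofNat 0), (.ofNat 0), (.ofNat 0), (.ofNat 0), (.ofNat 0)], [(.ofNat 0), (.ofNat 0), (.ofNat 0), (.ofNat 0), (.ofNat 0), (.ofNat 0)], [(.ofNat 0), (.ofNat 0), (.ofNat 0), (.ofNat 0), (.ofNat 0), (.ofNat 0)], [(.ofNat 0), (.ofNat 0), (.ofNat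 0), (.ofNat 0), (.ofNat 0), (.ofNat 0)], [(.ofNat 0), (.ofNat 0), (.ofNat 0), (.ofNat 0), (.ofNat 0), (.ofNat 0)], [(.ofNat 0), (.ofNat 0), (.ofNat 0), (.ofNat 0), (.ofNat 0), (.ofNat 0)], [(.ofNat 0), (.ofNat 0), (.ofNat 0), (.ofNat 0), (.ofNat 0), (.ofNat 0)], [(.ofNat 0), (.ofNat 0), (.ofNat 0), (.ofNat 0), (.ofNat 0), (.ofNat 0)], [(.ofNat 0), (.ofNat 0), (.ofNat 0), (.ofNat 0), (.ofNat 0), (.ofNat 0)], [(.ofNat 0), (.ofNat 0), (.ofNat 0), (.ofNat 0), (.ofNat 0), (.ofNat 0)], [(.ofNat 0), (.ofNat 0), (.ofNat 0), (.ofNat 0), (.ofNat 0), (.ofNat 0)], [(.ofNat 0), (.ofNat 0), (.ofNat 0), (.ofNat 0), (.ofNat 0), (.ofNat 0)], [(.ofNat 0), (.ofNat 0), (.ofNat 0), (.ofNat 0), (.ofNat 0), (.ofNat 0)], [(.ofNat 0), (.ofNat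 0), (.ofNat 0), (.ofNat 0), (.ofNat 0), (.ofNat 0)], [(.ofNat 0), (.ofNat 0), (.ofNat 0), (.ofNat 0), (.ofNat 0), (.ofNat 0)], [(.ofNat 0), (.ofNat 0), (.ofNat 0), (.ofNat 0), (.ofNat 0), (.ofNat 0)], [(.ofNat 0), (.ofNat 0), (.ofNat 0), (.ofNat 0), (.ofNat 0), (.ofNat 0)], [(.ofNat 0), (.ofNat 0), (.ofNat 0), (.ofNat 0), (.ofNat 0), (.ofNat 0)], [(.ofNat 0), (.ofNat 0), (.ofNat 0), (.ofNat 0), (.ofNat 0), (.ofNat 0)], [(.ofNat 0), (.ofNat 0), (.ofNat 0), (.ofNat 0), (.ofNat 0), (.ofNat 0)], [(.ofNat 0), (.ofNat 0), (.ofNat 0), (.ofNat 0), (.ofNat 0), (.ofNat 0)], [(.ofNat 0), (.ofNat 0), (.ofNat 0), (.ofNat 0), (.ofNat 0), (.ofNat 0)], [(.ofNat 0), (.ofNat 0), (.ofNat 0), (.ofNat 0), (.ofNat 0), (.ofNat 0)], [(.ofNat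 0), (.ofNat 0), (.ofNat 0), (.ofNat 0), (.ofNat 0), (.ofNat 0)], [(.ofNat 0), (.ofNat 0), (.ofNat 0), (.ofNat 0), (.ofNat 0), (.ofNat 0)], [(.ofNat 0), (.ofNat 0), (.ofNat 0), (.ofNat 0), (.ofNat 0), (.ofNat 0)], [(.ofNat 0), (.ofNat 0), (.ofNat 0), (.ofNat 0), (.ofNat 0), (.ofNat 0)], [(.ofNat 0), (.ofNat 0), (.ofNat 0), (.ofNat 0), (.ofNat 0), (.ofNat 0)], [(.ofNat 0), (.ofNat 0), (.ofNat 0), (.ofNat 0), (.ofNat 0), (.ofNat 0)], [(.ofNat 0), (.ofNat 0), (.ofNat 0), (.ofNat 0), (.ofNat 0), (.ofNat 0)], [(.ofNat 0), (.ofNat 0), (.ofNat 0), (.ofNat 0), (.ofNat 0), (.ofNat 0)], [(.ofNat 0), (.ofNat 0), (.ofNat 0), (.ofNat 0), (.ofNat 0), (.ofNat 0)], [(.ofNat 0), (.ofNat 0), (.ofNat 0), (.ofNat 0), (.ofNat 0), (.ofNat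 0)], [(.ofNat 0), (.ofNat 0), (.ofNat 0), (.ofNat 0), (.ofNat 0), (.ofNat 0)], [(.ofNat 0), (.ofNat 0), (.ofNat 0), (.ofNat 0), (.ofNat 0), (.ofNat 0)], [(.ofNat 0), (.ofNat 0), (.ofNat 0), (.ofNat 0), (.ofNat 0), (.ofNat 0)], [(.ofNat 0), (.ofNat 0), (.ofNat 0), (.ofNat 0), (.ofNat 0), (.ofNat 0)], [(.ofNat 0), (.ofNat 0), (.ofNat 0), (.ofNat 0), (.ofNat 0), (.ofNat 0)], [(.ofNat 0), (.ofNat 0), (.ofNat 0), (.ofNat 0), (.ofNat 0), (.ofNat 0)], [(.ofNat 0), (.ofNat 0), (.ofNat 0), (.ofNat 0), (.ofNat 0), (.ofNat 0)], [(.ofNat 0), (.ofNat 0), (.ofNat 0), (.ofNat 0), (.ofNat 0), (.ofNat 0)], [(.ofNat 0), (.ofNat 0), (.ofNat 0), (.ofNat 0), (.ofNat 0), (.ofNat 0)], [(.ofNat 0), (.ofNat 0), (.ofNat 0), (.ofNat 0), (.ofNat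 0), (.ofNat 0)], [(.ofNat 0), (.ofNat 0), (.ofNat 0), (.ofNat 0), (.ofNat 0), (.ofNat 0)], [(.ofNat 0), (.ofNat 0), (.ofNat 0), (.ofNat 0), (.ofNat 0), (.ofNat 0)], [(.ofNat 0), (.ofNat 0), (.ofNat 0), (.ofNat 0), (.ofNat 0), (.ofNat 0)], [(.ofNat 0), (.ofNat 0), (.ofNat 0), (.ofNat 0), (.ofNat 0), (.ofNat 0)], [(.ofNat 0), (.ofNat 0), (.ofNat 0), (.ofNat 0), (.ofNat 0), (.ofNat 0)], [(.ofNat 0), (.ofNat 0), (.ofNat 0), (.ofNat 0), (.ofNat 0), (.ofNat 0)], [(.ofNat 0), (.ofNat 0), (.ofNat 0), (.ofNat 0), (.ofNat 0), (.ofNat 0)], [(.ofNat 0), (.ofNat 0), (.ofNat 0), (.ofNat 0), (.ofNat 0), (.ofNat 0)], [(.ofNat 0), (.ofNat 0), (.ofNat 0), (.ofNat 0), (.ofNat 0), (.ofNat 0)], [(.ofNat 0), (.ofNat 0), (.ofNat 0), (.ofNat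 0), (.ofNat 0), (.ofNat 0)], [(.ofNat 0), (.ofNat 0), (.ofNat 0), (.ofNat 0), (.ofNat 0), (.ofNat 0)], [(.ofNat 0), (.ofNat 0), (.ofNat 0), (.ofNat 0), (.ofNat 0), (.ofNat 0)], [(.ofNat 0), (.ofNat 0), (.ofNat 0), (.ofNat 0), (.ofNat 0), (.ofNat 0)], [(.ofNat 0), (.ofNat 0), (.ofNat 0), (.ofNat 0), (.ofNat 0), (.ofNat 0)], [(.ofNat 0), (.ofNat 0), (.ofNat 0), (.ofNat 0), (.ofNat 0), (.ofNat 0)], [(.ofNat 0), (.ofNat 0), (.ofNat 0), (.ofNat 0), (.ofNat 0), (.ofNat 0)], [(.ofNat 0), (.ofNat 0), (.ofNat 0), (.ofNat 0), (.ofNat 0), (.ofNat 0)], [(.ofNat 0), (.ofNat 0), (.ofNat 0), (.ofNat 0), (.ofNat 0), (.ofNat 0)], [(.ofNat 0), (.ofNat 0), (.ofNat 0), (.ofNat 0), (.ofNat 0), (.ofNat 0)], [(.ofNat 0), (.ofNat 0), (.ofNat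 0), (.ofNat 0), (.ofNat 0), (.ofNat 0)], [(.ofNat 0), (.ofNat 0), (.ofNat 0), (.ofNat 0), (.ofNat 0), (.ofNat 0)], [(.ofNat 0), (.ofNat 0), (.ofNat 0), (.ofNat 0), (.ofNat 0), (.ofNat 0)], [(.ofNat 0), (.ofNat 0), (.ofNat 0), (.ofNat 0), (.ofNat 0), (.ofNat 0)], [(.ofNat 0), (.ofNat 0), (.ofNat 0), (.ofNat 0), (.ofNat 0), (.ofNat 0)], [(.ofNat 0), (.ofNat 0), (.ofNat 0), (.ofNat 0), (.ofNat 0), (.ofNat 0)], [(.ofNat 0), (.ofNat 0), (.ofNat 0), (.ofNat 0), (.ofNat 0), (.ofNat 0)], [(.ofNat 0), (.ofNat 0), (.ofNat 0), (.ofNat 0), (.ofNat 0), (.ofNat 0)], [(.ofNat 0), (.ofNat 0), (.ofNat 0), (.ofNat 0), (.ofNat 0), (.ofNat 0)], [(.ofNat 0), (.ofNat 0), (.ofNat 0), (.ofNat 0), (.ofNat 0), (.ofNat 0)], [(.ofNat 0), (.ofNat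 0), (.ofNat 0), (.ofNat 0), (.ofNat 0), (.ofNat 0)], [(.ofNat 0), (.ofNat 0), (.ofNat 0), (.ofNat 0), (.ofNat 0), (.ofNat 0)], [(.ofNat 0), (.ofNat 0), (.ofNat 0), (.ofNat 0), (.ofNat 0), (.ofNat 0)], [(.ofNat 0), (.ofNat 0), (.ofNat 0), (.ofNat 0), (.ofNat 0), (.ofNat 0)], [(.ofNat 0), (.ofNat 0), (.ofNat 0), (.ofNat 0), (.ofNat 0), (.ofNat 0)], [(.ofNat 0), (.ofNat 0), (.ofNat 0), (.ofNat 0), (.ofNat 0), (.ofNat 0)], [(.ofNat 0), (.ofNat 0), (.ofNat 0), (.ofNat 0), (.ofNat 0), (.ofNat 0)], [(.ofNat 0), (.ofNat 0), (.ofNat 0), (.ofNat 0), (.ofNat 0), (.ofNat 0)], [(.ofNat 0), (.ofNat 0), (.ofNat 0), (.ofNat 0), (.ofNat 0), (.ofNat 0)], [(.ofNat 0), (.ofNat 0), (.ofNat 0), (.ofNat 0), (.ofNat 0), (.ofNat 0)], [(.ofNat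 0), (.ofNat 0), (.ofNat 0), (.ofNat 0), (.ofNat 0), (.ofNat 0)], [(.ofNat 0), (.ofNat 0), (.ofNat 0), (.ofNat 0), (.ofNat 0), (.ofNat 0)], [(.ofNat 0), (.ofNat 0), (.ofNat 0), (.ofNat 0), (.ofNat 0), (.ofNat 0)], [(.ofNat 0), (.ofNat 0), (.ofNat 0), (.ofNat 0), (.ofNat 0), (.ofNat 0)], [(.ofNat 0), (.ofNat 0), (.ofNat 0), (.ofNat 0), (.ofNat 0), (.ofNat 0)], [(.ofNat 0), (.ofNat 0), (.ofNat 0), (.ofNat 0), (.ofNat 0), (.ofNat 0)], [(.ofNat 0), (.ofNat 0), (.ofNat 0), (.ofNat 0), (.ofNat 0), (.ofNat 0)], [(.ofNat 0), (.ofNat 0), (.ofNat 0), (.ofNat 0), (.ofNat 0), (.ofNat 0)], [(.ofNat 0), (.ofNat 0), (.ofNat 0), (.ofNat 0), (.ofNat 0), (.ofNat 0)], [(.ofNat 0), (.ofNat 0), (.ofNat 0), (.ofNat 0), (.ofNat 0), (.ofNat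 0)], [(.ofNat 0), (.ofNat 0), (.ofNat 0), (.ofNat 0), (.ofNat 0), (.ofNat 0)], [(.ofNat 0), (.ofNat 0), (.ofNat 0), (.ofNat 0), (.ofNat 0), (.ofNat 0)], [(.ofNat 0), (.ofNat 0), (.ofNat 0), (.ofNat 0), (.ofNat 0), (.ofNat 0)], [(.ofNat 0), (.ofNat 0), (.ofNat 0), (.ofNat 0), (.ofNat 0), (.ofNat 0)], [(.ofNat 0), (.ofNat 0), (.ofNat 0), (.ofNat 0), (.ofNat 0), (.ofNat 0)], [(.ofNat 0), (.ofNat 0), (.ofNat 0), (.ofNat 0), (.ofNat 0), (.ofNat 0)], [(.ofNat 0), (.ofNat 0), (.ofNat 0), (.ofNat 0), (.ofNat 0), (.ofNat 0)], [(.ofNat 0), (.ofNat 0), (.ofNat 0), (.ofNat 0), (.ofNat 0), (.ofNat 0)], [(.ofNat 0), (.ofNat 0), (.ofNat 0), (.ofNat 0), (.ofNat 0), (.ofNat 0)], [(.ofNat 0), (.ofNat 0), (.ofNat 0), (.ofNat 0), (.ofNat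 0), (.ofNat 0)], [(.ofNat 0), (.ofNat 0), (.ofNat 0), (.ofNat 0), (.ofNat 0), (.ofNat 0)], [(.ofNat 0), (.ofNat 0), (.ofNat 0), (.ofNat 0), (.ofNat 0), (.ofNat 0)], [(.ofNat 0), (.ofNat 0), (.ofNat 0), (.ofNat 0), (.ofNat 0), (.ofNat 0)], [(.ofNat 0), (.ofNat 0), (.ofNat 0), (.ofNat 0), (.ofNat 0), (.ofNat 0)], [(.ofNat 0), (.ofNat 0), (.ofNat 0), (.ofNat 0), (.ofNat 0), (.ofNat 0)], [(.ofNat 0), (.ofNat 0), (.ofNat 0), (.ofNat 0), (.ofNat 0), (.ofNat 0)], [(.ofNat 0), (.ofNat 0), (.ofNat 0), (.ofNat 0), (.ofNat 0), (.ofNat 0)], [(.ofNat 0), (.ofNat 0), (.ofNat 0), (.ofNat 0), (.ofNat 0), (.ofNat 0)], [(.ofNat 0), (.ofNat 0), (.ofNat 0), (.ofNat 0), (.ofNat 0), (.ofNat 0)], [(.ofNat 0), (.ofNat 0), (.ofNat 0), (.ofNat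 0), (.ofNat 0), (.ofNat 0)], [(.ofNat 0), (.ofNat 0), (.ofNat 0), (.ofNat 0), (.ofNat 0), (.ofNat 0)], [(.ofNat 0), (.ofNat 0), (.ofNat 0), (.ofNat 0), (.ofNat 0), (.ofNat 0)], [(.ofNat 0), (.ofNat 0), (.ofNat 0), (.ofNat 0), (.ofNat 0), (.ofNat 0)], [(.ofNat 0), (.ofNat 0), (.ofNat 0), (.ofNat 0), (.ofNat 0), (.ofNat 0)], [(.ofNat 0), (.ofNat 0), (.ofNat 0), (.ofNat 0), (.ofNat 0), (.ofNat 0)], [(.ofNat 0), (.ofNat 0), (.ofNat 0), (.ofNat 0), (.ofNat 0), (.ofNat 0)], [(.ofNat 0), (.ofNat 0), (.ofNat 0), (.ofNat 0), (.ofNat 0), (.ofNat 0)], [(.ofNat 0), (.ofNat 0), (.ofNat 0), (.ofNat 0), (.ofNat 0), (.ofNat 0)], [(.ofNat 0), (.ofNat 0), (.ofNat 0), (.ofNat 0), (.ofNat 0), (.ofNat 0)], [(.ofNat 0), (.ofNat 0), (.ofNat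 0), (.ofNat 0), (.ofNat 0), (.ofNat 0)], [(.ofNat 0), (.ofNat 0), (.ofNat 0), (.ofNat 0), (.ofNat 0), (.ofNat 0)], [(.ofNat 0), (.ofNat 0), (.ofNat 0), (.ofNat 0), (.ofNat 0), (.ofNat 0)], [(.ofNat 0), (.ofNat 0), (.ofNat 0), (.ofNat 0), (.ofNat 0), (.ofNat 0)], [(.ofNat 0), (.ofNat 0), (.ofNat 0), (.ofNat 0), (.ofNat 0), (.ofNat 0)], [(.ofNat 0), (.ofNat 0), (.ofNat 0), (.ofNat 0), (.ofNat 0), (.ofNat 0)], [(.ofNat 0), (.ofNat 0), (.ofNat 0), (.ofNat 0), (.ofNat 0), (.ofNat 0)], [(.ofNat 0), (.ofNat 0), (.ofNat 0), (.ofNat 0), (.ofNat 0), (.ofNat 0)], [(.ofNat 0), (.ofNat 0), (.ofNat 0), (.ofNat 0), (.ofNat 0), (.ofNat 0)], [(.ofNat 0), (.ofNat 0), (.ofNat 0), (.ofNat 0), (.ofNat 0), (.ofNat 0)], [(.ofNat 0), (.ofNat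 0), (.ofNat 0), (.ofNat 0), (.ofNat 0), (.ofNat 0)], [(.ofNat 0), (.ofNat 0), (.ofNat 0), (.ofNat 0), (.ofNat 0), (.ofNat 0)], [(.ofNat 0), (.ofNat 0), (.ofNat 0), (.ofNat 0), (.ofNat 0), (.ofNat 0)], [(.ofNat 0), (.ofNat 0), (.ofNat 0), (.ofNat 0), (.ofNat 0), (.ofNat 0)], [(.ofNat 0), (.ofNat 0), (.ofNat 0), (.ofNat 0), (.ofNat 0), (.ofNat 0)], [(.ofNat 0), (.ofNat 0), (.ofNat 0), (.ofNat 0), (.ofNat 0), (.ofNat 0)], [(.ofNat 0), (.ofNat 0), (.ofNat 0), (.ofNat 0), (.ofNat 0), (.ofNat 0)], [(.ofNat 0), (.ofNat 0), (.ofNat 0), (.ofNat 0), (.ofNat 0), (.ofNat 0)], [(.ofNat 0), (.ofNat 0), (.ofNat 0), (.ofNat 0), (.ofNat 0), (.ofNat 0)], [(.ofNat 0), (.ofNat 0), (.ofNat 0), (.ofNat 0), (.ofNat 0), (.ofNat 0)], [(.ofNat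 0), (.ofNat 0), (.ofNat 0), (.ofNat 0), (.ofNat 0), (.ofNat 0)], [(.ofNat 0), (.ofNat 0), (.ofNat 0), (.ofNat 0), (.ofNat 0), (.ofNat 0)], [(.ofNat 0), (.ofNat 0), (.ofNat 0), (.ofNat 0), (.ofNat 0), (.ofNat 0)], [(.ofNat 0), (.ofNat 0), (.ofNat 0), (.ofNat 0), (.ofNat 0), (.ofNat 0)], [(.ofNat 0), (.ofNat 0), (.ofNat 0), (.ofNat 0), (.ofNat 0), (.ofNat 0)], [(.ofNat 0), (.ofNat 0), (.ofNat 0), (.ofNat 0), (.ofNat 0), (.ofNat 0)], [(.ofNat 0), (.ofNat 0), (.ofNat 0), (.ofNat 0), (.ofNat 0), (.ofNat 0)], [(.ofNat 0), (.ofNat 0), (.ofNat 0), (.ofNat 0), (.ofNat 0), (.ofNat 0)], [(.ofNat 0), (.ofNat 0), (.ofNat 0), (.ofNat 0), (.ofNat 0), (.ofNat 0)], [(.ofNat 0), (.ofNat 0), (.ofNat 0), (.ofNat 0), (.ofNat 0), (.ofNat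 0)], [(.ofNat 0), (.ofNat 0), (.ofNat 0), (.ofNat 0), (.ofNat 0), (.ofNat 0)], [(.ofNat 0), (.ofNat 0), (.ofNat 0), (.ofNat 0), (.ofNat 0), (.ofNat 0)], [(.ofNat 0), (.ofNat 0), (.ofNat 0), (.ofNat 0), (.ofNat 0), (.ofNat 0)], [(.ofNat 0), (.ofNat 0), (.ofNat 0), (.ofNat 0), (.ofNat 0), (.ofNat 0)], [(.ofNat 0), (.ofNat 0), (.ofNat 0), (.ofNat 0), (.ofNat 0), (.ofNat 0)], [(.ofNat 0), (.ofNat 0), (.ofNat 0), (.ofNat 0), (.ofNat 0), (.ofNat 0)], [(.ofNat 0), (.ofNat 0), (.ofNat 0), (.ofNat 0), (.ofNat 0), (.ofNat 0)], [(.ofNat 0), (.ofNat 0), (.ofNat 0), (.ofNat 0), (.ofNat 0), (.ofNat 0)], [(.ofNat 0), (.ofNat 0), (.ofNat 0), (.ofNat 0), (.ofNat 0), (.ofNat 0)], [(.ofNat 0), (.ofNat 0), (.ofNat 0), (.ofNat 0), (.ofNat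 0), (.ofNat 0)], [(.ofNat 0), (.ofNat 0), (.ofNat 0), (.ofNat 0), (.ofNat 0), (.ofNat 0)], [(.ofNat 0), (.ofNat 0), (.ofNat 0), (.ofNat 0), (.ofNat 0), (.ofNat 0)], [(.ofNat 0), (.ofNat 0), (.ofNat 0), (.ofNat 0), (.ofNat 0), (.ofNat 0)], [(.ofNat 0), (.ofNat 0), (.ofNat 0), (.ofNat 0), (.ofNat 0), (.ofNat 0)], [(.ofNat 0), (.ofNat 0), (.ofNat 0), (.ofNat 0), (.ofNat 0), (.ofNat 0)], [(.ofNat 0), (.ofNat 0), (.ofNat 0), (.ofNat 0), (.ofNat 0), (.ofNat 0)], [(.ofNat 0), (.ofNat 0), (.ofNat 0), (.ofNat 0), (.ofNat 0), (.ofNat 0)], [(.ofNat 0), (.ofNat 0), (.ofNat 0), (.ofNat 0), (.ofNat 0), (.ofNat 0)], [(.ofNat 0), (.ofNat 0), (.ofNat 0), (.ofNat 0), (.ofNat 0), (.ofNat 0)], [(.ofNat 0), (.ofNat 0), (.ofNat 0), (.ofNat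 0), (.ofNat 0), (.ofNat 0)], [(.ofNat 0), (.ofNat 0), (.ofNat 0), (.ofNat 0), (.ofNat 0), (.ofNat 0)], [(.ofNat 0), (.ofNat 0), (.ofNat 0), (.ofNat 0), (.ofNat 0), (.ofNat 0)], [(.ofNat 0), (.ofNat 0), (.ofNat 0), (.ofNat 0), (.ofNat 0), (.ofNat 0)], [(.ofNat 0), (.ofNat 0), (.ofNat 0), (.ofNat 0), (.ofNat 0), (.ofNat 0)], [(.ofNat 0), (.ofNat 0), (.ofNat 0), (.ofNat 0), (.ofNat 0), (.ofNat 0)], [(.ofNat 0), (.ofNat 0), (.ofNat 0), (.ofNat 0), (.ofNat 0), (.ofNat 0)], [(.ofNat 0), (.ofNat 0), (.ofNat 0), (.ofNat 0), (.ofNat 0), (.ofNat 0)], [(.ofNat 0), (.ofNat 0), (.ofNat 0), (.ofNat 0), (.ofNat 0), (.ofNat 0)], [(.ofNat 0), (.ofNat 0), (.ofNat 0), (.ofNat 0), (.ofNat 0), (.ofNat 0)], [(.ofNat 0), (.ofNat 0), (.ofNat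 0), (.ofNat 0), (.ofNat 0), (.ofNat 0)], [(.ofNat 0), (.ofNat 0), (.ofNat 0), (.ofNat 0), (.ofNat 0), (.ofNat 0)], [(.ofNat 0), (.ofNat 0), (.ofNat 0), (.ofNat 0), (.ofNat 0), (.ofNat 0)], [(.ofNat 0), (.ofNat 0), (.ofNat 0), (.ofNat 0), (.ofNat 0), (.ofNat 0)], [(.ofNat 0), (.ofNat 0), (.ofNat 0), (.ofNat 0), (.ofNat 0), (.ofNat 0)], [(.ofNat 0), (.ofNat 0), (.ofNat 0), (.ofNat 0), (.ofNat 0), (.ofNat 0)], [(.ofNat 0), (.ofNat 0), (.ofNat 0), (.ofNat 0), (.ofNat 0), (.ofNat 0)], [(.ofNat 0), (.ofNat 0), (.ofNat 0), (.ofNat 0), (.ofNat 0), (.ofNat 0)], [(.ofNat 0), (.ofNat 0), (.ofNat 0), (.ofNat 0), (.ofNat 0), (.ofNat 0)], [(.ofNat 0), (.ofNat 0), (.ofNat 0), (.ofNat 0), (.ofNat 0), (.ofNat 0)], [(.ofNat 0), (.ofNat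 0), (.ofNat 0), (.ofNat 0), (.ofNat 0), (.ofNat 0)], [(.ofNat 0), (.ofNat 0), (.ofNat 0), (.ofNat 0), (.ofNat 0), (.ofNat 0)], [(.ofNat 0), (.ofNat 0), (.ofNat 0), (.ofNat 0), (.ofNat 0), (.ofNat 0)], [(.ofNat 0), (.ofNat 0), (.ofNat 0), (.ofNat 0), (.ofNat 0), (.ofNat 0)], [(.ofNat 0), (.ofNat 0), (.ofNat 0), (.ofNat 0), (.ofNat 0), (.ofNat 0)], [(.ofNat 0), (.ofNat 0), (.ofNat 0), (.ofNat 0), (.ofNat 0), (.ofNat 0)], [(.ofNat 0), (.ofNat 0), (.ofNat 0), (.ofNat 0), (.ofNat 0), (.ofNat 0)], [(.ofNat 0), (.ofNat 0), (.ofNat 0), (.ofNat 0), (.ofNat 0), (.ofNat 0)], [(.ofNat 0), (.ofNat 0), (.ofNat 0), (.ofNat 0), (.ofNat 0), (.ofNat 0)], [(.ofNat 0), (.ofNat 0), (.ofNat 0), (.ofNat 0), (.ofNat 0), (.ofNat 0)], [(.ofNat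 0), (.ofNat 0), (.ofNat 0), (.ofNat 0), (.ofNat 0), (.ofNat 0)], [(.ofNat 0), (.ofNat 0), (.ofNat 0), (.ofNat 0), (.ofNat 0), (.ofNat 0)], [(.ofNat 0), (.ofNat 0), (.ofNat 0), (.ofNat 0), (.ofNat 0), (.ofNat 0)], [(.ofNat 0), (.ofNat 0), (.ofNat 0), (.ofNat 0), (.ofNat 0), (.ofNat 0)], [(.ofNat 0), (.ofNat 0), (.ofNat 0), (.ofNat 0), (.ofNat 0), (.ofNat 0)], [(.ofNat 0), (.ofNat 0), (.ofNat 0), (.ofNat 0), (.ofNat 0), (.ofNat 0)], [(.ofNat 0), (.ofNat 0), (.ofNat 0), (.ofNat 0), (.ofNat 0), (.ofNat 0)], [(.ofNat 0), (.ofNat 0), (.ofNat 0), (.ofNat 0), (.ofNat 0), (.ofNat 0)], [(.ofNat 0), (.ofNat 0), (.ofNat 0), (.ofNat 0), (.ofNat 0), (.ofNat 0)], [(.ofNat 0), (.ofNat 0), (.ofNat 0), (.ofNat 0), (.ofNat 0), (.ofNat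 0)], [(.ofNat 0), (.ofNat 0), (.ofNat 0), (.ofNat 0), (.ofNat 0), (.ofNat 0)], [(.ofNat 0), (.ofNat 0), (.ofNat 0), (.ofNat 0), (.ofNat 0), (.ofNat 0)], [(.ofNat 0), (.ofNat 0), (.ofNat 0), (.ofNat 0), (.ofNat 0), (.ofNat 0)], [(.ofNat 0), (.ofNat 0), (.ofNat 0), (.ofNat 0), (.ofNat 0), (.ofNat 0)], [(.ofNat 0), (.ofNat 0), (.ofNat 0), (.ofNat 0), (.ofNat 0), (.ofNat 0)], [(.ofNat 0), (.ofNat 0), (.ofNat 0), (.ofNat 0), (.ofNat 0), (.ofNat 0)], [(.ofNat 0), (.ofNat 0), (.ofNat 0), (.ofNat 0), (.ofNat 0), (.ofNat 0)], [(.ofNat 0), (.ofNat 0), (.ofNat 0), (.ofNat 0), (.ofNat 0), (.ofNat 0)], [(.ofNat 0), (.ofNat 0), (.ofNat 0), (.ofNat 0), (.ofNat 0), (.ofNat 0)], [(.ofNat 0), (.ofNat 0), (.ofNat 0), (.ofNat 0), (.ofNat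 0), (.ofNat 0)], [(.ofNat 0), (.ofNat 0), (.ofNat 0), (.ofNat 0), (.ofNat 0), (.ofNat 0)], [(.ofNat 0), (.ofNat 0), (.ofNat 0), (.ofNat 0), (.ofNat 0), (.ofNat 0)], [(.ofNat 0), (.ofNat 0), (.ofNat 0), (.ofNat 0), (.ofNat 0), (.ofNat 0)], [(.ofNat 0), (.ofNat 0), (.ofNat 0), (.ofNat 0), (.ofNat 0), (.ofNat 0)], [(.ofNat 0), (.ofNat 0), (.ofNat 0), (.ofNat 0), (.ofNat 0), (.ofNat 0)], [(.ofNat 0), (.ofNat 0), (.ofNat 0), (.ofNat 0), (.ofNat 0), (.ofNat 0)], [(.ofNat 0), (.ofNat 0), (.ofNat 0), (.ofNat 0), (.ofNat 0), (.ofNat 0)], [(.ofNat 0), (.ofNat 0), (.ofNat 0), (.ofNat 0), (.ofNat 0), (.ofNat 0)], [(.ofNat 0), (.ofNat 0), (.ofNat 0), (.ofNat 0), (.ofNat 0), (.ofNat 0)], [(.ofNat 0), (.ofNat 0), (.ofNat 0), (.ofNat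 0), (.ofNat 0), (.ofNat 0)], [(.ofNat 0), (.ofNat 0), (.ofNat 0), (.ofNat 0), (.ofNat 0), (.ofNat 0)], [(.ofNat 0), (.ofNat 0), (.ofNat 0), (.ofNat 0), (.ofNat 0), (.ofNat 0)], [(.ofNat 0), (.ofNat 0), (.ofNat 0), (.ofNat 0), (.ofNat 0), (.ofNat 0)], [(.ofNat 0), (.ofNat 0), (.ofNat 0), (.ofNat 0), (.ofNat 0), (.ofNat 0)], [(.ofNat 0), (.ofNat 0), (.ofNat 0), (.ofNat 0), (.ofNat 0), (.ofNat 0)], [(.ofNat 0), (.ofNat 0), (.ofNat 0), (.ofNat 0), (.ofNat 0), (.ofNat 0)], [(.ofNat 0), (.ofNat 0), (.ofNat 0), (.ofNat 0), (.ofNat 0), (.ofNat 0)], [(.ofNat 0), (.ofNat 0), (.ofNat 0), (.ofNat 0), (.ofNat 0), (.ofNat 0)], [(.ofNat 0), (.ofNat 0), (.ofNat 0), (.ofNat 0), (.ofNat 0), (.ofNat 0)], [(.ofNat 0), (.ofNat 0), (.ofNat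 0), (.ofNat 0), (.ofNat 0), (.ofNat 0)], [(.ofNat 0), (.ofNat 0), (.ofNat 0), (.ofNat 0), (.ofNat 0), (.ofNat 0)], [(.ofNat 0), (.ofNat 0), (.ofNat 0), (.ofNat 0), (.ofNat 0), (.ofNat 0)], [(.ofNat 0), (.ofNat 0), (.ofNat 0), (.ofNat 0), (.ofNat 0), (.ofNat 0)], [(.ofNat 0), (.ofNat 0), (.ofNat 0), (.ofNat 0), (.ofNat 0), (.ofNat 0)], [(.ofNat 0), (.ofNat 0), (.ofNat 0), (.ofNat 0), (.ofNat 0), (.ofNat 0)], [(.ofNat 0), (.ofNat 0), (.ofNat 0), (.ofNat 0), (.ofNat 0), (.ofNat 0)], [(.ofNat 0), (.ofNat 0), (.ofNat 0), (.ofNat 0), (.ofNat 0), (.ofNat 0)], [(.ofNat 0), (.ofNat 0), (.ofNat 0), (.ofNat 0), (.ofNat 0), (.ofNat 0)], [(.ofNat 0), (.ofNat 0), (.ofNat 0), (.ofNat 0), (.ofNat 0), (.ofNat 0)], [(.ofNat 0), (.ofNat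 0), (.ofNat 0), (.ofNat 0), (.ofNat 0), (.ofNat 0)], [(.ofNat 0), (.ofNat 0), (.ofNat 0), (.ofNat 0), (.ofNat 0), (.ofNat 0)], [(.ofNat 0), (.ofNat 0), (.ofNat 0), (.ofNat 0), (.ofNat 0), (.ofNat 0)], [(.ofNat 0), (.ofNat 0), (.ofNat 0), (.ofNat 0), (.ofNat 0), (.ofNat 0)], [(.ofNat 0), (.ofNat 0), (.ofNat 0), (.ofNat 0), (.ofNat 0), (.ofNat 0)], [(.ofNat 0), (.ofNat 0), (.ofNat 0), (.ofNat 0), (.ofNat 0), (.ofNat 0)], [(.ofNat 0), (.ofNat 0), (.ofNat 0), (.ofNat 0), (.ofNat 0), (.ofNat 0)], [(.ofNat 0), (.ofNat 0), (.ofNat 0), (.ofNat 0), (.ofNat 0), (.ofNat 0)], [(.ofNat 0), (.ofNat 0), (.ofNat 0), (.ofNat 0), (.ofNat 0), (.ofNat 0)], [(.ofNat 0), (.ofNat 0), (.ofNat 0), (.ofNat 0), (.ofNat 0), (.ofNat 0)], [(.ofNat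 0), (.ofNat 0), (.ofNat 0), (.ofNat 0), (.ofNat 0), (.ofNat 0)], [(.ofNat 0), (.ofNat 0), (.ofNat 0), (.ofNat 0), (.ofNat 0), (.ofNat 0)], [(.ofNat 0), (.ofNat 0), (.ofNat 0), (.ofNat 0), (.ofNat 0), (.ofNat 0)], [(.ofNat 0), (.ofNat 0), (.ofNat 0), (.ofNat 0), (.ofNat 0), (.ofNat 0)], [(.ofNat 0), (.ofNat 0), (.ofNat 0), (.ofNat 0), (.ofNat 0), (.ofNat 0)], [(.ofNat 0), (.ofNat 0), (.ofNat 0), (.ofNat 0), (.ofNat 0), (.ofNat 0)], [(.ofNat 0), (.ofNat 0), (.ofNat 0), (.ofNat 0), (.ofNat 0), (.ofNat 0)], [(.ofNat 0), (.ofNat 0), (.ofNat 0), (.ofNat 0), (.ofNat 0), (.ofNat 0)], [(.ofNat 0), (.ofNat 0), (.ofNat 0), (.ofNat 0), (.ofNat 0), (.ofNat 0)], [(.ofNat 0), (.ofNat 0), (.ofNat 0), (.ofNat 0), (.ofNat 0), (.ofNat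 0)], [(.ofNat 0), (.ofNat 0), (.ofNat 0), (.ofNat 0), (.ofNat 0), (.ofNat 0)], [(.ofNat 0), (.ofNat 0), (.ofNat 0), (.ofNat 0), (.ofNat 0), (.ofNat 0)], [(.ofNat 0), (.ofNat 0), (.ofNat 0), (.ofNat 0), (.ofNat 0), (.ofNat 0)], [(.ofNat 0), (.ofNat 0), (.ofNat 0), (.ofNat 0), (.ofNat 0), (.ofNat 0)], [(.ofNat 0), (.ofNat 0), (.ofNat 0), (.ofNat 0), (.ofNat 0), (.ofNat 0)], [(.ofNat 0), (.ofNat 0), (.ofNat 0), (.ofNat 0), (.ofNat 0), (.ofNat 0)], [(.ofNat 0), (.ofNat 0), (.ofNat 0), (.ofNat 0), (.ofNat 0), (.ofNat 0)], [(.ofNat 0), (.ofNat 0), (.ofNat 0), (.ofNat 0), (.ofNat 0), (.ofNat 0)], [(.ofNat 0), (.ofNat 0), (.ofNat 0), (.ofNat 0), (.ofNat 0), (.ofNat 0)], [(.ofNat 0), (.ofNat 0), (.ofNat 0), (.ofNat 0), (.ofNat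 0), (.ofNat 0)], [(.ofNat 0), (.ofNat 0), (.ofNat 0), (.ofNat 0), (.ofNat 0), (.ofNat 0)], [(.ofNat 0), (.ofNat 0), (.ofNat 0), (.ofNat 0), (.ofNat 0), (.ofNat 0)], [(.ofNat 0), (.ofNat 0), (.ofNat 0), (.ofNat 0), (.ofNat 0), (.ofNat 0)], [(.ofNat 0), (.ofNat 0), (.ofNat 0), (.ofNat 0), (.ofNat 0), (.ofNat 0)], [(.ofNat 0), (.ofNat 0), (.ofNat 0), (.ofNat 0), (.ofNat 0), (.ofNat 0)], [(.ofNat 0), (.ofNat 0), (.ofNat 0), (.ofNat 0), (.ofNat 0), (.ofNat 0)], [(.ofNat 0), (.ofNat 0), (.ofNat 0), (.ofNat 0), (.ofNat 0), (.ofNat 0)], [(.ofNat 0), (.ofNat 0), (.ofNat 0), (.ofNat 0), (.ofNat 0), (.ofNat 0)], [(.ofNat 0), (.ofNat 0), (.ofNat 0), (.ofNat 0), (.ofNat 0), (.ofNat 0)], [(.ofNat 0), (.ofNat 0), (.ofNat 0), (.ofNat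 0), (.ofNat 0), (.ofNat 0)], [(.ofNat 0), (.ofNat 0), (.ofNat 0), (.ofNat 0), (.ofNat 0), (.ofNat 0)], [(.ofNat 0), (.ofNat 0), (.ofNat 0), (.ofNat 0), (.ofNat 0), (.ofNat 0)], [(.ofNat 0), (.ofNat 0), (.ofNat 0), (.ofNat 0), (.ofNat 0), (.ofNat 0)], [(.ofNat 0), (.ofNat 0), (.ofNat 0), (.ofNat 0), (.ofNat 0), (.ofNat 0)], [(.ofNat 0), (.ofNat 0), (.ofNat 0), (.ofNat 0), (.ofNat 0), (.ofNat 0)], [(.ofNat 0), (.ofNat 0), (.ofNat 0), (.ofNat 0), (.ofNat 0), (.ofNat 0)], [(.ofNat 0), (.ofNat 0), (.ofNat 0), (.ofNat 0), (.ofNat 0), (.ofNat 0)], [(.ofNat 0), (.ofNat 0), (.ofNat 0), (.ofNat 0), (.ofNat 0), (.ofNat 0)], [(.ofNat 0), (.ofNat 0), (.ofNat 0), (.ofNat 0), (.ofNat 0), (.ofNat 0)], [(.ofNat 0), (.ofNat 0), (.ofNat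 0), (.ofNat 0), (.ofNat 0), (.ofNat 0)], [(.ofNat 0), (.ofNat 0), (.ofNat 0), (.ofNat 0), (.ofNat 0), (.ofNat 0)], [(.ofNat 0), (.ofNat 0), (.ofNat 0), (.ofNat 0), (.ofNat 0), (.ofNat 0)], [(.ofNat 0), (.ofNat 0), (.ofNat 0), (.ofNat 0), (.ofNat 0), (.ofNat 0)], [(.ofNat 0), (.ofNat 0), (.ofNat 0), (.ofNat 0), (.ofNat 0), (.ofNat 0)], [(.ofNat 0), (.ofNat 0), (.ofNat 0), (.ofNat 0), (.ofNat 0), (.ofNat 0)], [(.ofNat 0), (.ofNat 0), (.ofNat 0), (.ofNat 0), (.ofNat 0), (.ofNat 0)], [(.ofNat 0), (.ofNat 0), (.ofNat 0), (.ofNat 0), (.ofNat 0), (.ofNat 0)], [(.ofNat 0), (.ofNat 0), (.ofNat 0), (.ofNat 0), (.ofNat 0), (.ofNat 0)], [(.ofNat 0), (.ofNat 0), (.ofNat 0), (.ofNat 0), (.ofNat 0), (.ofNat 0)], [(.ofNat 0), (.ofNat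 0), (.ofNat 0), (.ofNat 0), (.ofNat 0), (.ofNat 0)], [(.ofNat 0), (.ofNat 0), (.ofNat 0), (.ofNat 0), (.ofNat 0), (.ofNat 0)], [(.ofNat 0), (.ofNat 0), (.ofNat 0), (.ofNat 0), (.ofNat 0), (.ofNat 0)], [(.ofNat 0), (.ofNat 0), (.ofNat 0), (.ofNat 0), (.ofNat 0), (.ofNat 0)], [(.ofNat 0), (.ofNat 0), (.ofNat 0), (.ofNat 0), (.ofNat 0), (.ofNat 0)], [(.ofNat 0), (.ofNat 0), (.ofNat 0), (.ofNat 0), (.ofNat 0), (.ofNat 0)], [(.ofNat 0), (.ofNat 0), (.ofNat 0), (.ofNat 0), (.ofNat 0), (.ofNat 0)], [(.ofNat 0), (.ofNat 0), (.ofNat 0), (.ofNat 0), (.ofNat 0), (.ofNat 0)], [(.ofNat 0), (.ofNat 0), (.ofNat 0), (.ofNat 0), (.ofNat 0), (.ofNat 0)], [(.ofNat 0), (.ofNat 0), (.ofNat 0), (.ofNat 0), (.ofNat 0), (.ofNat 0)], [(.ofNat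 0), (.ofNat 0), (.ofNat 0), (.ofNat 0), (.ofNat 0), (.ofNat 0)], [(.ofNat 0), (.ofNat 0), (.ofNat 0), (.ofNat 0), (.ofNat 0), (.ofNat 0)], [(.ofNat 0), (.ofNat 0), (.ofNat 0), (.ofNat 0), (.ofNat 0), (.ofNat 0)], [(.ofNat 0), (.ofNat 0), (.ofNat 0), (.ofNat 0), (.ofNat 0), (.ofNat 0)], [(.ofNat 0), (.ofNat 0), (.ofNat 0), (.ofNat 0), (.ofNat 0), (.ofNat 0)], [(.ofNat 0), (.ofNat 0), (.ofNat 0), (.ofNat 0), (.ofNat 0), (.ofNat 0)], [(.ofNat 0), (.ofNat 0), (.ofNat 0), (.ofNat 0), (.ofNat 0), (.ofNat 0)], [(.ofNat 0), (.ofNat 0), (.ofNat 0), (.ofNat 0), (.ofNat 0), (.ofNat 0)], [(.ofNat 0), (.ofNat 0), (.ofNat 0), (.ofNat 0), (.ofNat 0), (.ofNat 0)], [(.ofNat 0), (.ofNat 0), (.ofNat 0), (.ofNat 0), (.ofNat 0), (.ofNat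 0)], [(.ofNat 0), (.ofNat 0), (.ofNat 0), (.ofNat 0), (.ofNat 0), (.ofNat 0)], [(.ofNat 0), (.ofNat 0), (.ofNat 0), (.ofNat 0), (.ofNat 0), (.ofNat 0)], [(.ofNat 0), (.ofNat 0), (.ofNat 0), (.ofNat 0), (.ofNat 0), (.ofNat 0)], [(.ofNat 0), (.ofNat 0), (.ofNat 0), (.ofNat 0), (.ofNat 0), (.ofNat 0)], [(.ofNat 0), (.ofNat 0), (.ofNat 0), (.ofNat 0), (.ofNat 0), (.ofNat 0)], [(.ofNat 0), (.ofNat 0), (.ofNat 0), (.ofNat 0), (.ofNat 0), (.ofNat 0)], [(.ofNat 0), (.ofNat 0), (.ofNat 0), (.ofNat 0), (.ofNat 0), (.ofNat 0)], [(.ofNat 0), (.ofNat 0), (.ofNat 0), (.ofNat 0), (.ofNat 0), (.ofNat 0)], [(.ofNat 0), (.ofNat 0), (.ofNat 0), (.ofNat 0), (.ofNat 0), (.ofNat 0)], [(.ofNat 0), (.ofNat 0), (.ofNat 0), (.ofNat 0), (.ofNat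 0), (.ofNat 0)], [(.ofNat 0), (.ofNat 0), (.ofNat 0), (.ofNat 0), (.ofNat 0), (.ofNat 0)], [(.ofNat 0), (.ofNat 0), (.ofNat 0), (.ofNat 0), (.ofNat 0), (.ofNat 0)], [(.ofNat 0), (.ofNat 0), (.ofNat 0), (.ofNat 0), (.ofNat 0), (.ofNat 0)], [(.ofNat 0), (.ofNat 0), (.ofNat 0), (.ofNat 0), (.ofNat 0), (.ofNat 0)], [(.ofNat 0), (.ofNat 0), (.ofNat 0), (.ofNat 0), (.ofNat 0), (.ofNat 0)], [(.ofNat 0), (.ofNat 0), (.ofNat 0), (.ofNat 0), (.ofNat 0), (.ofNat 0)], [(.ofNat 0), (.ofNat 0), (.ofNat 0), (.ofNat 0), (.ofNat 0), (.ofNat 0)], [(.ofNat 0), (.ofNat 0), (.ofNat 0), (.ofNat 0), (.ofNat 0), (.ofNat 0)], [(.ofNat 0), (.ofNat 0), (.ofNat 0), (.ofNat 0), (.ofNat 0), (.ofNat 0)], [(.ofNat 0), (.ofNat 0), (.ofNat 0), (.ofNat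 0), (.ofNat 0), (.ofNat 0)], [(.ofNat 0), (.ofNat 0), (.ofNat 0), (.ofNat 0), (.ofNat 0), (.ofNat 0)], [(.ofNat 0), (.ofNat 0), (.ofNat 0), (.ofNat 0), (.ofNat 0), (.ofNat 0)], [(.ofNat 0), (.ofNat 0), (.ofNat 0), (.ofNat 0), (.ofNat 0), (.ofNat 0)], [(.ofNat 0), (.ofNat 0), (.ofNat 0), (.ofNat 0), (.ofNat 0), (.ofNat 0)], [(.ofNat 0), (.ofNat 0), (.ofNat 0), (.ofNat 0), (.ofNat 0), (.ofNat 0)], [(.ofNat 0), (.ofNat 0), (.ofNat 0), (.ofNat 0), (.ofNat 0), (.ofNat 0)], [(.ofNat 0), (.ofNat 0), (.ofNat 0), (.ofNat 0), (.ofNat 0), (.ofNat 0)], [(.ofNat 0), (.ofNat 0), (.ofNat 0), (.ofNat 0), (.ofNat 0), (.ofNat 0)], [(.ofNat 0), (.ofNat 0), (.ofNat 0), (.ofNat 0), (.ofNat 0), (.ofNat 0)], [(.ofNat 0), (.ofNat 0), (.ofNat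 0), (.ofNat 0), (.ofNat 0), (.ofNat 0)], [(.ofNat 0), (.ofNat 0), (.ofNat 0), (.ofNat 0), (.ofNat 0), (.ofNat 0)], [(.ofNat 0), (.ofNat 0), (.ofNat 0), (.ofNat 0), (.ofNat 0), (.ofNat 0)], [(.ofNat 0), (.ofNat 0), (.ofNat 0), (.ofNat 0), (.ofNat 0), (.ofNat 0)], [(.ofNat 0), (.ofNat 0), (.ofNat 0), (.ofNat 0), (.ofNat 0), (.ofNat 0)], [(.ofNat 0), (.ofNat 0), (.ofNat 0), (.ofNat 0), (.ofNat 0), (.ofNat 0)], [(.ofNat 0), (.ofNat 0), (.ofNat 0), (.ofNat 0), (.ofNat 0), (.ofNat 0)], [(.ofNat 0), (.ofNat 0), (.ofNat 0), (.ofNat 0), (.ofNat 0), (.ofNat 0)], [(.ofNat 0), (.ofNat 0), (.ofNat 0), (.ofNat 0), (.ofNat 0), (.ofNat 0)], [(.ofNat 0), (.ofNat 0), (.ofNat 0), (.ofNat 0), (.ofNat 0), (.ofNat 0)], [(.ofNat 0), (.ofNat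 0), (.ofNat 0), (.ofNat 0), (.ofNat 0), (.ofNat 0)], [(.ofNat 0), (.ofNat 0), (.ofNat 0), (.ofNat 0), (.ofNat 0), (.ofNat 0)], [(.ofNat 0), (.ofNat 0), (.ofNat 0), (.ofNat 0), (.ofNat 0), (.ofNat 0)], [(.ofNat 0), (.ofNat 0), (.ofNat 0), (.ofNat 0), (.ofNat 0), (.ofNat 0)], [(.ofNat 0), (.ofNat 0), (.ofNat 0), (.ofNat 0), (.ofNat 0), (.ofNat 0)], [(.ofNat 0), (.ofNat 0), (.ofNat 0), (.ofNat 0), (.ofNat 0), (.ofNat 0)], [(.ofNat 0), (.ofNat 0), (.ofNat 0), (.ofNat 0), (.ofNat 0), (.ofNat 0)], [(.ofNat 0), (.ofNat 0), (.ofNat 0), (.ofNat 0), (.ofNat 0), (.ofNat 0)], [(.ofNat 0), (.ofNat 0), (.ofNat 0), (.ofNat 0), (.ofNat 0), (.ofNat 0)], [(.ofNat 0), (.ofNat 0), (.ofNat 0), (.ofNat 0), (.ofNat 0), (.ofNat 0)], [(.ofNat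 0), (.ofNat 0), (.ofNat 0), (.ofNat 0), (.ofNat 0), (.ofNat 0)], [(.ofNat 0), (.ofNat 0), (.ofNat 0), (.ofNat 0), (.ofNat 0), (.ofNat 0)], [(.ofNat 0), (.ofNat 0), (.ofNat 0), (.ofNat 0), (.ofNat 0), (.ofNat 0)], [(.ofNat 0), (.ofNat 0), (.ofNat 0), (.ofNat 0), (.ofNat 0), (.ofNat 0)], [(.ofNat 0), (.ofNat 0), (.ofNat 0), (.ofNat 0), (.ofNat 0), (.ofNat 0)], [(.ofNat 0), (.ofNat 0), (.ofNat 0), (.ofNat 0), (.ofNat 0), (.ofNat 0)], [(.ofNat 0), (.ofNat 0), (.ofNat 0), (.ofNat 0), (.ofNat 0), (.ofNat 0)], [(.ofNat 0), (.ofNat 0), (.ofNat 0), (.ofNat 0), (.ofNat 0), (.ofNat 0)], [(.ofNat 0), (.ofNat 0), (.ofNat 0), (.ofNat 0), (.ofNat 0), (.ofNat 0)], [(.ofNat 0), (.ofNat 0), (.ofNat 0), (.ofNat 0), (.ofNat 0), (.ofNat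 0)], [(.ofNat 0), (.ofNat 0), (.ofNat 0), (.ofNat 0), (.ofNat 0), (.ofNat 0)], [(.ofNat 0), (.ofNat 0), (.ofNat 0), (.ofNat 0), (.ofNat 0), (.ofNat 0)], [(.ofNat 0), (.ofNat 0), (.ofNat 0), (.ofNat 0), (.ofNat 0), (.ofNat 0)], [(.ofNat 0), (.ofNat 0), (.ofNat 0), (.ofNat 0), (.ofNat 0), (.ofNat 0)], [(.ofNat 0), (.ofNat 0), (.ofNat 0), (.ofNat 0), (.ofNat 0), (.ofNat 0)], [(.ofNat 0), (.ofNat 0), (.ofNat 0), (.ofNat 0), (.ofNat 0), (.ofNat 0)], [(.ofNat 0), (.ofNat 0), (.ofNat 0), (.ofNat 0), (.ofNat 0), (.ofNat 0)], [(.ofNat 0), (.ofNat 0), (.ofNat 0), (.ofNat 0), (.ofNat 0), (.ofNat 0)], [(.ofNat 0), (.ofNat 0), (.ofNat 0), (.ofNat 0), (.ofNat 0), (.ofNat 0)], [(.ofNat 0), (.ofNat 0), (.ofNat 0), (.ofNat 0), (.ofNat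 0), (.ofNat 0)], [(.ofNat 0), (.ofNat 0), (.ofNat 0), (.ofNat 0), (.ofNat 0), (.ofNat 0)], [(.ofNat 0), (.ofNat 0), (.ofNat 0), (.ofNat 0), (.ofNat 0), (.ofNat 0)], [(.ofNat 0), (.ofNat 0), (.ofNat 0), (.ofNat 0), (.ofNat 0), (.ofNat 0)], [(.ofNat 0), (.ofNat 0), (.ofNat 0), (.ofNat 0), (.ofNat 0), (.ofNat 0)], [(.ofNat 0), (.ofNat 0), (.ofNat 0), (.ofNat 0), (.ofNat 0), (.ofNat 0)], [(.ofNat 0), (.ofNat 0), (.ofNat 0), (.ofNat 0), (.ofNat 0), (.ofNat 0)], [(.ofNat 0), (.ofNat 0), (.ofNat 0), (.ofNat 0), (.ofNat 0), (.ofNat 0)], [(.ofNat 0), (.ofNat 0), (.ofNat 0), (.ofNat 0), (.ofNat 0), (.ofNat 0)], [(.ofNat 0), (.ofNat 0), (.ofNat 0), (.ofNat 0), (.ofNat 0), (.ofNat 0)], [(.ofNat 0), (.ofNat 0), (.ofNat 0), (.ofNat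 0), (.ofNat 0), (.ofNat 0)], [(.ofNat 0), (.ofNat 0), (.ofNat 0), (.ofNat 0), (.ofNat 0), (.ofNat 0)], [(.ofNat 0), (.ofNat 0), (.ofNat 0), (.ofNat 0), (.ofNat 0), (.ofNat 0)], [(.ofNat 0), (.ofNat 0), (.ofNat 0), (.ofNat 0), (.ofNat 0), (.ofNat 0)], [(.ofNat 0), (.ofNat 0), (.ofNat 0), (.ofNat 0), (.ofNat 0), (.ofNat 0)], [(.ofNat 0), (.ofNat 0), (.ofNat 0), (.ofNat 0), (.ofNat 0), (.ofNat 0)], [(.ofNat 0), (.ofNat 0), (.ofNat 0), (.ofNat 0), (.ofNat 0), (.ofNat 0)], [(.ofNat 0), (.ofNat 0), (.ofNat 0), (.ofNat 0), (.ofNat 0), (.ofNat 0)], [(.ofNat 0), (.ofNat 0), (.ofNat 0), (.ofNat 0), (.ofNat 0), (.ofNat 0)], [(.ofNat 0), (.ofNat 0), (.ofNat 0), (.ofNat 0), (.ofNat 0), (.ofNat 0)], [(.ofNat 0), (.ofNat 0), (.ofNat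 0), (.ofNat 0), (.ofNat 0), (.ofNat 0)], [(.ofNat 0), (.ofNat 0), (.ofNat 0), (.ofNat 0), (.ofNat 0), (.ofNat 0)], [(.ofNat 0), (.ofNat 0), (.ofNat 0), (.ofNat 0), (.ofNat 0), (.ofNat 0)], [(.ofNat 0), (.ofNat 0), (.ofNat 0), (.ofNat 0), (.ofNat 0), (.ofNat 0)], [(.ofNat 0), (.ofNat 0), (.ofNat 0), (.ofNat 0), (.ofNat 0), (.ofNat 0)], [(.ofNat 0), (.ofNat 0), (.ofNat 0), (.ofNat 0), (.ofNat 0), (.ofNat 0)], [(.ofNat 0), (.ofNat 0), (.ofNat 0), (.ofNat 0), (.ofNat 0), (.ofNat 0)], [(.ofNat 0), (.ofNat 0), (.ofNat 0), (.ofNat 0), (.ofNat 0), (.ofNat 0)], [(.ofNat 0), (.ofNat 0), (.ofNat 0), (.ofNat 0), (.ofNat 0), (.ofNat 0)], [(.ofNat 0), (.ofNat 0), (.ofNat 0), (.ofNat 0), (.ofNat 0), (.ofNat 0)], [(.ofNat 0), (.ofNat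 0), (.ofNat 0), (.ofNat 0), (.ofNat 0), (.ofNat 0)], [(.ofNat 0), (.ofNat 0), (.ofNat 0), (.ofNat 0), (.ofNat 0), (.ofNat 0)], [(.ofNat 0), (.ofNat 0), (.ofNat 0), (.ofNat 0), (.ofNat 0), (.ofNat 0)], [(.ofNat 0), (.ofNat 0), (.ofNat 0), (.ofNat 0), (.ofNat 0), (.ofNat 0)], [(.ofNat 0), (.ofNat 0), (.ofNat 0), (.ofNat 0), (.ofNat 0), (.ofNat 0)], [(.ofNat 0), (.ofNat 0), (.ofNat 0), (.ofNat 0), (.ofNat 0), (.ofNat 0)], [(.ofNat 0), (.ofNat 0), (.ofNat 0), (.ofNat 0), (.ofNat 0), (.ofNat 0)], [(.ofNat 0), (.ofNat 0), (.ofNat 0), (.ofNat 0), (.ofNat 0), (.ofNat 0)], [(.ofNat 0), (.ofNat 0), (.ofNat 0), (.ofNat 0), (.ofNat 0), (.ofNat 0)], [(.ofNat 0), (.ofNat 0), (.ofNat 0), (.ofNat 0), (.ofNat 0), (.ofNat 0)], [(.ofNat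 0), (.ofNat 0), (.ofNat 0), (.ofNat 0), (.ofNat 0), (.ofNat 0)], [(.ofNat 0), (.ofNat 0), (.ofNat 0), (.ofNat 0), (.ofNat 0), (.ofNat 0)], [(.ofNat 0), (.ofNat 0), (.ofNat 0), (.ofNat 0), (.ofNat 0), (.ofNat 0)], [(.ofNat 0), (.ofNat 0), (.ofNat 0), (.ofNat 0), (.ofNat 0), (.ofNat 0)], [(.ofNat 0), (.ofNat 0), (.ofNat 0), (.ofNat 0), (.ofNat 0), (.ofNat 0)], [(.ofNat 0), (.ofNat 0), (.ofNat 0), (.ofNat 0), (.ofNat 0), (.ofNat 0)], [(.ofNat 0), (.ofNat 0), (.ofNat 0), (.ofNat 0), (.ofNat 0), (.ofNat 0)], [(.ofNat 0), (.ofNat 0), (.ofNat 0), (.ofNat 0), (.ofNat 0), (.ofNat 0)], [(.ofNat 0), (.ofNat 0), (.ofNat 0), (.ofNat 0), (.ofNat 0), (.ofNat 0)], [(.ofNat 0), (.ofNat 0), (.ofNat 0), (.ofNat 0), (.ofNat 0), (.ofNat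 0)], [(.ofNat 0), (.ofNat 0), (.ofNat 0), (.ofNat 0), (.ofNat 0), (.ofNat 0)], [(.ofNat 0), (.ofNat 0), (.ofNat 0), (.ofNat 0), (.ofNat 0), (.ofNat 0)], [(.ofNat 0), (.ofNat 0), (.ofNat 0), (.ofNat 0), (.ofNat 0), (.ofNat 0)], [(.ofNat 0), (.ofNat 0), (.ofNat 0), (.ofNat 0), (.ofNat 0), (.ofNat 0)], [(.ofNat 0), (.ofNat 0), (.ofNat 0), (.ofNat 0), (.ofNat 0), (.ofNat 0)], [(.ofNat 0), (.ofNat 0), (.ofNat 0), (.ofNat 0), (.ofNat 0), (.ofNat 0)], [(.ofNat 0), (.ofNat 0), (.ofNat 0), (.ofNat 0), (.ofNat 0), (.ofNat 0)], [(.ofNat 0), (.ofNat 0), (.ofNat 0), (.ofNat 0), (.ofNat 0), (.ofNat 0)], [(.ofNat 0), (.ofNat 0), (.ofNat 0), (.ofNat 0), (.ofNat 0), (.ofNat 0)], [(.ofNat 0), (.ofNat 0), (.ofNat 0), (.ofNat 0), (.ofNat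 0), (.ofNat 0)], [(.ofNat 0), (.ofNat 0), (.ofNat 0), (.ofNat 0), (.ofNat 0), (.ofNat 0)], [(.ofNat 0), (.ofNat 0), (.ofNat 0), (.ofNat 0), (.ofNat 0), (.ofNat 0)], [(.ofNat 0), (.ofNat 0), (.ofNat 0), (.ofNat 0), (.ofNat 0), (.ofNat 0)], [(.ofNat 0), (.ofNat 0), (.ofNat 0), (.ofNat 0), (.ofNat 0), (.ofNat 0)], [(.ofNat 0), (.ofNat 0), (.ofNat 0), (.ofNat 0), (.ofNat 0), (.ofNat 0)], [(.ofNat 0), (.ofNat 0), (.ofNat 0), (.ofNat 0), (.ofNat 0), (.ofNat 0)], [(.ofNat 0), (.ofNat 0), (.ofNat 0), (.ofNat 0), (.ofNat 0), (.ofNat 0)], [(.ofNat 0), (.ofNat 0), (.ofNat 0), (.ofNat 0), (.ofNat 0), (.ofNat 0)], [(.ofNat 0), (.ofNat 0), (.ofNat 0), (.ofNat 0), (.ofNat 0), (.ofNat 0)], [(.ofNat 0), (.ofNat 0), (.ofNat 0), (.ofNat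 0), (.ofNat 0), (.ofNat 0)], [(.ofNat 0), (.ofNat 0), (.ofNat 0), (.ofNat 0), (.ofNat 0), (.ofNat 0)], [(.ofNat 1), (.ofNat 0), (.ofNat 0), (.ofNat 0), (.ofNat 0), (.ofNat 0)], [(.ofNat 0), (.ofNat 1), (.ofNat 0), (.ofNat 0), (.ofNat 0), (.ofNat 0)], [(.ofNat 0), (.ofNat 0), (.ofNat 1), (.ofNat 0), (.ofNat 0), (.ofNat 0)], [(.ofNat 0), (.ofNat 0), (.ofNat 0), (.ofNat 1), (.ofNat 0), (.ofNat 0)], [(.ofNat 0), (.ofNat 0), (.ofNat 0), (.ofNat 0), (.ofNat 1), (.ofNat 0)], [(.ofNat 0), (.ofNat 0), (.ofNat 0), (.ofNat 0), (.ofNat 0), (.ofNat 1)], [(.ofNat 0), (.ofNat 0), (.ofNat 0), (.ofNat 0), (.ofNat 0), (.ofNat 0)], [(.ofNat 0), (.ofNat 0), (.ofNat 0), (.ofNat 0), (.ofNat 0), (.ofNat 0)], [(.ofNat 0), (.ofNat 0), (.ofNat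 0), (.ofNat 0), (.ofNat 0), (.ofNat 0)], [(.ofNat 0), (.ofNat 0), (.ofNat 0), (.ofNat 0), (.ofNat 0), (.ofNat 0)], [(.ofNat 0), (.ofNat 0), (.ofNat 0), (.ofNat 0), (.ofNat 0), (.ofNat 0)], [(.ofNat 0), (.ofNat 0), (.ofNat 0), (.ofNat 0), (.ofNat 0), (.ofNat 0)], [(.ofNat 0), (.ofNat 0), (.ofNat 0), (.ofNat 0), (.ofNat 0), (.ofNat 0)], [(.ofNat 0), (.ofNat 0), (.ofNat 0), (.ofNat 0), (.ofNat 0), (.ofNat 0)], [(.ofNat 0), (.ofNat 0), (.ofNat 0), (.ofNat 0), (.ofNat 0), (.ofNat 0)], [(.ofNat 0), (.ofNat 0), (.ofNat 0), (.ofNat 0), (.ofNat 0), (.ofNat 0)], [(.ofNat 0), (.ofNat 0), (.ofNat 0), (.ofNat 0), (.ofNat 0), (.ofNat 0)], [(.ofNat 0), (.ofNat 0), (.ofNat 0), (.ofNat 0), (.ofNat 0), (.ofNat 0)], [(.ofNat 0), (.ofNat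 0), (.ofNat 0), (.ofNat 0), (.ofNat 0), (.ofNat 0)], [(.ofNat 0), (.ofNat 0), (.ofNat 0), (.ofNat 0), (.ofNat 0), (.ofNat 0)], [(.ofNat 0), (.ofNat 0), (.ofNat 0), (.ofNat 0), (.ofNat 0), (.ofNat 0)], [(.ofNat 0), (.ofNat 0), (.ofNat 0), (.ofNat 0), (.ofNat 0), (.ofNat 0)], [(.ofNat 0), (.ofNat 0), (.ofNat 0), (.ofNat 0), (.ofNat 0), (.ofNat 0)], [(.ofNat 0), (.ofNat 0), (.ofNat 0), (.ofNat 0), (.ofNat 0), (.ofNat 0)], [(.ofNat 0), (.ofNat 0), (.ofNat 0), (.ofNat 0), (.ofNat 0), (.ofNat 0)], [(.ofNat 0), (.ofNat 0), (.ofNat 0), (.ofNat 0), (.ofNat 0), (.ofNat 0)], [(.ofNat 0), (.ofNat 0), (.ofNat 0), (.ofNat 0), (.ofNat 0), (.ofNat 0)], [(.ofNat 0), (.ofNat 0), (.ofNat 0), (.ofNat 0), (.ofNat 0), (.ofNat 0)], [(.ofNat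 0), (.ofNat 0), (.ofNat 0), (.ofNat 0), (.ofNat 0), (.ofNat 0)], [(.ofNat 0), (.ofNat 0), (.ofNat 0), (.ofNat 0), (.ofNat 0), (.ofNat 0)], [(.ofNat 0), (.ofNat 0), (.ofNat 0), (.ofNat 0), (.ofNat 0), (.ofNat 0)], [(.ofNat 0), (.ofNat 0), (.ofNat 0), (.ofNat 0), (.ofNat 0), (.ofNat 0)], [(.ofNat 0), (.ofNat 0), (.ofNat 0), (.ofNat 0), (.ofNat 0), (.ofNat 0)], [(.ofNat 0), (.ofNat 0), (.ofNat 0), (.ofNat 0), (.ofNat 0), (.ofNat 0)], [(.ofNat 0), (.ofNat 0), (.ofNat 0), (.ofNat 0), (.ofNat 0), (.ofNat 0)], [(.ofNat 0), (.ofNat 0), (.ofNat 0), (.ofNat 0), (.ofNat 0), (.ofNat 0)], [(.ofNat 0), (.ofNat 0), (.ofNat 0), (.ofNat 0), (.ofNat 0), (.ofNat 0)], [(.ofNat 45), (.ofNat 354), (.ofNat 91), (.ofNat 0), (.ofNat 0), (.ofNat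 0)], [(.ofNat 39), (.ofNat 380), (.ofNat 21), (.ofNat 0), (.ofNat 0), (.ofNat 0)], [(.negSucc 33), (.negSucc 0), (.negSucc 3), (.ofNat 0), (.ofNat 0), (.ofNat 0)], [(.negSucc 111), (.negSucc 71), (.ofNat 12), (.ofNat 0), (.ofNat 0), (.ofNat 0)], [(.ofNat 86), (.ofNat 1188), (.ofNat 222), (.ofNat 0), (.ofNat 0), (.ofNat 0)], [(.negSucc 114), (.negSucc 54), (.negSucc 10), (.ofNat 0), (.ofNat 0), (.ofNat 0)], [(.ofNat 125), (.ofNat 828), (.ofNat 83), (.ofNat 0), (.ofNat 0), (.ofNat 0)], [(.negSucc 88), (.negSucc 89), (.ofNat 66), (.ofNat 0), (.ofNat 0), (.ofNat 0)], [(.ofNat 108), (.ofNat 828), (.ofNat 83), (.ofNat 0), (.ofNat 0), (.ofNat 0)], [(.ofNat 51), (.ofNat 828), (.ofNat 83), (.ofNat 0), (.ofNat 0), (.ofNat 0)],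 [(.ofNat 126), (.ofNat 828), (.ofNat 83), (.ofNat 0), (.ofNat 0), (.ofNat 0)], [(.ofNat 45), (.ofNat 828), (.ofNat 83), (.ofNat 0), (.ofNat 0), (.ofNat 0)], [(.ofNat 54), (.ofNat 961), (.ofNat 40), (.ofNat 0), (.ofNat 0), (.ofNat 0)], [(.ofNat 989), (.ofNat 113), (.ofNat 337), (.ofNat 0), (.ofNat 0), (.ofNat 0)], [(.ofNat 117), (.ofNat 692), (.negSucc 9), (.ofNat 0), (.ofNat 0), (.ofNat 0)], [(.ofNat 3040), (.negSucc 108094), (.ofNat 5698), (.ofNat 0), (.ofNat 0), (.ofNat 0)], [(.ofNat 3089), (.negSucc 108094), (.ofNat 5698), (.ofNat 0), (.ofNat 0), (.ofNat 0)], [(.ofNat 3082), (.negSucc 108094), (.ofNat 5698), (.ofNat 0), (.ofNat 0), (.ofNat 0)], [(.ofNat 59), (.ofNat 828), (.ofNat 83), (.ofNat 0), (.ofNat 0), (.ofNat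 0)], [(.ofNat 65), (.ofNat 828), (.ofNat 83), (.ofNat 0), (.ofNat 0), (.ofNat 0)], [(.ofNat 39), (.ofNat 0), (.ofNat 0), (.ofNat 0), (.ofNat 0), (.ofNat 0)], [(.ofNat 202), (.ofNat 0), (.ofNat 0), (.ofNat 0), (.ofNat 0), (.ofNat 0)], [(.negSucc 240), (.negSucc 10128), (.ofNat 119), (.ofNat 0), (.ofNat 0), (.ofNat 0)], [(.negSucc 3288), (.ofNat 71453), (.negSucc 5134), (.ofNat 0), (.ofNat 0), (.ofNat 0)], [(.ofNat 2120), (.negSucc 8527), (.ofNat 2589), (.ofNat 0), (.ofNat 0), (.ofNat 0)], [(.negSucc 3389), (.ofNat 64396), (.negSucc 8731), (.ofNat 0), (.ofNat 0), (.ofNat 0)], [(.ofNat 1), (.ofNat 0), (.negSucc 0), (.ofNat 0), (.ofNat 0), (.ofNat 0)], [(.negSucc 0), (.negSucc 0), (.ofNat 0), (.ofNat 0), (.ofNat 0), (.ofNat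 0)], [(.ofNat 1565995), (.negSucc 2622104), (.ofNat 2437073), (.ofNat 0), (.ofNat 16), (.ofNat 0)], [(.ofNat 3200033), (.ofNat 2529234), (.ofNat 3337486), (.negSucc 0), (.negSucc 2), (.ofNat 0)], [(.ofNat 589489), (.ofNat 3484477), (.negSucc 269700), (.ofNat 0), (.negSucc 1), (.ofNat 0)], [(.ofNat 2830452), (.ofNat 3581095), (.ofNat 3805855), (.ofNat 1), (.negSucc 11), (.ofNat 0)], [(.ofNat 1610649), (.ofNat 66367319), (.negSucc 602144), (.ofNat 0), (.ofNat 0), (.negSucc 22)]]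

/-- the twist of a word -/
noncomputable def Ev (w : ℕ) : List ℤ := lnth evL w

/-- all relator words -/
def relL : List (List ℕ) := [[0, 0, 0, 0, 0, 0, 0, 0, 0, 0, 0, 0, 0, 0, 0, 0, 0, 0, 0, 0, 0, 0, 0], [2, 2, 2, 2, 2, 2, 2, 2, 2, 2, 2], [4, 4, 4, 4, 4], [0, 0, 3, 1, 2], [2, 2, 2, 5, 3, 4], [2, 2, 2, 2, 4, 3, 5], [2, 2, 2, 4, 2, 2, 5], [2, 2, 5, 5, 2, 4, 4], [2, 4, 2, 4, 3, 5, 5], [2, 4, 4, 3, 5, 2, 5], [0, 0, 0, 0, 3, 1, 1, 2], [0, 0, 3, 0, 3, 1, 2, 2], [0, 0, 3, 3, 1, 2, 0, 2], [0, 2, 0, 3, 1, 2, 1, 3], [2, 2, 4, 2, 4, 2, 5, 5], [2, 2, 4, 4, 2, 5, 2, 5], [2, 2, 4, 4, 4, 2, 4, 4], [2, 2, 5, 5, 2, 5, 5, 5], [2, 4, 2, 4, 3, 4, 4, 4], [2, 4, 2, 5, 3, 4, 3, 5], [2, 4, 4, 4, 3, 4, 3, 4], [0, 0, 2, 2, 5, 3, 4, 1, 2],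 [0, 0, 2, 5, 3, 4, 2, 1, 2], [0, 0, 3, 1, 3, 3, 5, 2, 4], [0, 0, 3, 1, 3, 5, 2, 4, 3], [0, 0, 3, 1, 4, 2, 2, 2, 5], [0, 0, 3, 1, 5, 2, 4, 3, 3], [0, 0, 4, 3, 3, 3, 5, 1, 2], [0, 0, 5, 3, 4, 2, 2, 1, 2], [2, 2, 4, 2, 5, 2, 4, 2, 5], [2, 2, 4, 3, 4, 3, 5, 3, 5], [2, 4, 2, 4, 4, 2, 4, 3, 4], [2, 4, 3, 4, 3, 4, 4, 3, 4], [0, 0, 0, 2, 2, 2, 1, 3, 3, 3], [0, 0, 0, 2, 2, 2, 1, 5, 3, 4], [0, 0, 0, 5, 2, 4, 1, 3, 3, 3], [0, 0, 0, 5, 2, 4, 1, 5, 3, 4], [0, 0, 2, 2, 2, 4, 3, 5, 1, 2], [0, 0, 2, 2, 4, 2, 2, 5, 1, 2], [0, 0, 2, 2, 4, 3, 5, 2, 1, 2], [0, 0, 2, 4, 2, 2, 5, 2, 1, 2], [0, 0, 2, 4, 3, 5, 2, 2, 1, 2], [0, 0, 2, 5, 2, 2, 2, 4, 1, 2], [0, 0, 2, 5, 5, 2, 4, 4, 1, 2], [0, 0, 3, 1, 3, 3, 3, 4, 2, 5], [0, 0, 3, 1, 3, 3, 4,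 2, 5, 3], [0, 0, 3, 1, 3, 4, 2, 5, 3, 3], [0, 0, 3, 1, 3, 4, 3, 3, 5, 3], [0, 0, 3, 1, 3, 5, 3, 3, 3, 4], [0, 0, 3, 1, 3, 5, 5, 3, 4, 4], [0, 0, 3, 1, 4, 3, 3, 5, 3, 3], [0, 0, 3, 1, 4, 3, 4, 2, 5, 5], [0, 0, 3, 1, 4, 4, 2, 5, 3, 5], [0, 0, 3, 1, 4, 4, 3, 3, 5, 5], [0, 0, 3, 1, 5, 2, 2, 2, 2, 4], [0, 0, 3, 1, 5, 2, 5, 2, 4, 4], [0, 0, 3, 1, 5, 3, 3, 3, 4, 3], [0, 0, 3, 1, 5, 3, 4, 4, 2, 5], [0, 0, 3, 1, 5, 5, 2, 4, 2, 4], [0, 0, 3, 1, 5, 5, 3, 4, 4, 3], [0, 0, 4, 2, 4, 3, 5, 5, 1, 2], [0, 0, 4, 3, 5, 2, 2, 2, 1, 2], [0, 0, 4, 3, 5, 5, 2, 4, 1, 2], [0, 0, 4, 4, 2, 2, 5, 5, 1, 2], [0, 0, 4, 4, 3, 5, 2, 5, 1, 2], [0, 0, 5, 2, 2, 2, 4, 2, 1, 2], [0, 0, 5, 3, 3, 3, 3, 4, 1, 2], [0, 0, 5, 3, 5, 3, 4, 4, 1, 2], [0, 0, 5,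 5, 2, 4, 4, 2, 1, 2], [0, 0, 5, 5, 3, 4, 3, 4, 1, 2], [0, 2, 0, 2, 2, 2, 1, 4, 3, 5], [0, 2, 0, 3, 3, 1, 2, 2, 0, 3], [0, 2, 0, 5, 2, 4, 1, 4, 3, 5], [0, 3, 0, 4, 2, 5, 1, 3, 3, 3], [0, 3, 0, 4, 2, 5, 1, 5, 3, 4], [0, 0, 0, 0, 0, 0, 2, 2, 1, 3, 3], [0, 0, 0, 0, 0, 2, 0, 2, 0, 3, 3], [0, 0, 0, 0, 0, 2, 2, 0, 3, 0, 3], [0, 0, 0, 0, 2, 5, 3, 4, 1, 2, 2], [0, 0, 0, 0, 3, 3, 1, 3, 5, 2, 4], [0, 0, 0, 0, 3, 3, 1, 5, 2, 4, 3], [0, 0, 0, 0, 5, 3, 4, 2, 1, 2, 2], [0, 0, 0, 2, 0, 0, 3, 3, 1, 1, 2], [0, 0, 0, 2, 2, 1, 2, 0, 3, 3, 3], [0, 0, 0, 2, 2, 2, 0, 3, 1, 3, 3], [0, 0, 0, 2, 2, 2, 1, 2, 4, 3, 5], [0, 0, 0, 2, 2, 2, 1, 4, 2, 2, 5], [0, 0, 0, 4, 2, 5, 1, 1, 4, 3, 5], [0, 0, 0, 4, 2, 5, 3, 1, 3, 3, 3], [0, 0, 0, 4, 2, 5, 3,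 1, 5, 3, 4], [0, 0, 0, 4, 3, 3, 5, 1, 3, 3, 3], [0, 0, 0, 4, 3, 3, 5, 1, 5, 3, 4], [0, 0, 0, 5, 2, 4, 1, 2, 4, 3, 5], [0, 0, 0, 5, 2, 4, 1, 4, 2, 2, 5], [0, 0, 2, 0, 0, 2, 2, 1, 5, 3, 4], [0, 0, 2, 0, 2, 0, 2, 0, 3, 3, 3], [0, 0, 2, 0, 2, 0, 2, 0, 5, 3, 4], [0, 0, 2, 0, 2, 2, 0, 3, 0, 3, 3], [0, 0, 2, 0, 2, 2, 1, 3, 3, 0, 3], [0, 0, 2, 0, 3, 3, 1, 2, 2, 1, 3], [0, 0, 2, 1, 2, 2, 2, 1, 4, 3, 5], [0, 0, 2, 1, 3, 3, 1, 2, 2, 0, 3], [0, 0, 2, 2, 0, 2, 0, 3, 3, 0, 3], [0, 0, 2, 2, 1, 4, 3, 5, 0, 2, 2], [0, 0, 2, 2, 2, 0, 3, 0, 3, 0, 3], [0, 0, 2, 4, 4, 2, 5, 2, 5, 1, 2], [0, 0, 3, 0, 0, 5, 2, 4, 1, 3, 3], [0, 0, 3, 0, 3, 0, 3, 1, 2, 2, 2], [0, 0, 3, 0, 3, 3, 1, 2, 0, 2, 2], [0, 0, 3, 1, 3, 4, 4, 3, 5, 3, 5], [0, 0, 3, 1,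 3, 4, 4, 4, 3, 4, 4], [0, 0, 3, 1, 4, 2, 4, 4, 4, 3, 4], [0, 0, 3, 1, 4, 2, 5, 2, 4, 3, 5], [0, 0, 3, 1, 4, 3, 4, 3, 5, 5, 3], [0, 0, 3, 1, 4, 3, 5, 2, 4, 2, 5], [0, 0, 3, 1, 4, 3, 5, 5, 3, 3, 4], [0, 0, 3, 1, 5, 3, 5, 3, 3, 4, 4], [0, 0, 3, 1, 5, 3, 5, 5, 5, 2, 5], [0, 0, 3, 1, 5, 5, 3, 3, 4, 3, 4], [0, 0, 3, 3, 0, 3, 1, 2, 2, 0, 2], [0, 0, 3, 3, 0, 4, 2, 5, 1, 3, 3], [0, 0, 4, 2, 4, 2, 5, 5, 2, 1, 2], [0, 0, 4, 2, 5, 1, 3, 3, 3, 1, 3], [0, 0, 4, 2, 5, 3, 4, 3, 5, 1, 2], [0, 0, 4, 3, 4, 4, 4, 2, 4, 1, 2], [0, 0, 4, 3, 5, 3, 4, 2, 5, 1, 2], [0, 0, 5, 2, 2, 4, 4, 2, 5, 1, 2], [0, 0, 5, 2, 4, 0, 3, 0, 3, 0, 3], [0, 0, 5, 2, 5, 2, 2, 4, 4, 1, 2], [0, 0, 5, 2, 5, 5, 5, 3, 5, 1, 2], [0, 0, 5, 5, 2, 2, 4, 2, 4, 1, 2], [0,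 0, 5, 5, 2, 5, 5, 5, 2, 1, 2], [0, 2, 0, 2, 0, 4, 3, 5, 0, 2, 2], [0, 2, 0, 2, 2, 1, 2, 0, 4, 3, 5], [0, 2, 0, 2, 2, 2, 1, 3, 5, 3, 4], [0, 2, 0, 3, 4, 2, 5, 1, 4, 3, 5], [0, 2, 0, 4, 2, 5, 3, 1, 4, 3, 5], [0, 2, 0, 4, 3, 3, 5, 1, 4, 3, 5], [0, 2, 0, 5, 2, 4, 1, 3, 5, 3, 4], [0, 2, 1, 4, 3, 5, 1, 2, 1, 2, 2], [0, 3, 0, 3, 0, 3, 3, 0, 4, 2, 5], [0, 3, 0, 4, 2, 5, 1, 2, 4, 3, 5], [0, 3, 0, 4, 2, 5, 1, 4, 2, 2, 5], [0, 3, 0, 4, 2, 5, 1, 4, 3, 5, 2], [0, 3, 0, 5, 2, 4, 2, 1, 3, 3, 3], [0, 3, 0, 5, 2, 4, 2, 1, 5, 3, 4], [0, 0, 0, 0, 2, 0, 0, 0, 2, 0, 3, 3], [0, 0, 0, 0, 2, 2, 0, 3, 0, 0, 0, 3], [0, 0, 0, 0, 2, 4, 2, 2, 5, 1, 2, 2], [0, 0, 0, 0, 2, 4, 3, 5, 2, 1, 2, 2], [0, 0, 0, 0, 3, 1, 1, 4, 2, 2, 2, 5], [0, 0, 0, 0,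 3, 3, 1, 3, 3, 4, 2, 5], [0, 0, 0, 0, 3, 3, 1, 3, 4, 2, 5, 3], [0, 0, 0, 0, 3, 3, 1, 3, 4, 3, 3, 5], [0, 0, 0, 0, 3, 3, 1, 4, 2, 5, 3, 3], [0, 0, 0, 0, 3, 3, 1, 4, 3, 3, 5, 3], [0, 0, 0, 0, 3, 3, 1, 5, 3, 3, 3, 4], [0, 0, 0, 0, 3, 3, 1, 5, 5, 3, 4, 4], [0, 0, 0, 0, 4, 2, 2, 5, 2, 1, 2, 2], [0, 0, 0, 0, 4, 3, 3, 3, 5, 1, 1, 2], [0, 0, 0, 0, 4, 3, 5, 2, 2, 1, 2, 2], [0, 0, 0, 0, 5, 2, 2, 2, 4, 1, 2, 2], [0, 0, 0, 0, 5, 5, 2, 4, 4, 1, 2, 2], [0, 0, 0, 2, 0, 4, 3, 5, 0, 2, 2, 2], [0, 0, 0, 2, 0, 5, 3, 4, 0, 0, 2, 2], [0, 0, 0, 2, 2, 2, 1, 2, 5, 3, 4, 3], [0, 0, 0, 2, 5, 2, 4, 1, 1, 4, 3, 5], [0, 0, 0, 2, 5, 2, 4, 3, 1, 3, 3, 3], [0, 0, 0, 2, 5, 2, 4, 3, 1, 5, 3, 4], [0, 0, 0, 3, 3, 0, 0, 5, 2, 4, 0, 3], [0, 0, 0, 3, 3,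 0, 3, 3, 0, 4, 2, 5], [0, 0, 0, 3, 3, 3, 0, 4, 2, 5, 0, 3], [0, 0, 0, 4, 2, 5, 1, 1, 5, 3, 4, 3], [0, 0, 0, 4, 2, 5, 3, 1, 4, 2, 2, 5], [0, 0, 0, 4, 3, 3, 5, 1, 2, 4, 3, 5], [0, 0, 0, 4, 3, 3, 5, 1, 4, 2, 2, 5], [0, 0, 0, 4, 3, 5, 0, 2, 2, 0, 2, 2], [0, 0, 0, 5, 2, 4, 1, 2, 5, 3, 4, 3], [0, 0, 2, 0, 0, 2, 2, 1, 2, 4, 3, 5], [0, 0, 2, 0, 0, 2, 2, 1, 4, 2, 2, 5], [0, 0, 2, 0, 2, 0, 2, 0, 2, 4, 3, 5], [0, 0, 2, 0, 2, 0, 2, 0, 4, 2, 2, 5], [0, 0, 2, 1, 2, 2, 1, 2, 0, 4, 3, 5], [0, 0, 2, 2, 0, 4, 3, 5, 1, 1, 2, 2], [0, 0, 2, 2, 1, 1, 2, 2, 1, 4, 3, 5], [0, 0, 2, 2, 1, 3, 5, 3, 4, 0, 2, 2], [0, 0, 2, 4, 2, 5, 2, 4, 2, 5, 1, 2], [0, 0, 2, 4, 3, 4, 3, 5, 3, 5, 1, 2], [0, 0, 2, 5, 0, 0, 3, 1, 4, 2, 1, 2], [0, 0, 2, 5, 1, 1,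 3, 0, 4, 2, 1, 2], [0, 0, 3, 0, 0, 4, 2, 5, 3, 1, 3, 3], [0, 0, 3, 0, 0, 4, 3, 3, 5, 1, 3, 3], [0, 0, 3, 0, 4, 3, 3, 3, 5, 1, 2, 2], [0, 0, 3, 1, 3, 5, 0, 2, 1, 1, 4, 3], [0, 0, 3, 1, 3, 5, 1, 2, 0, 0, 4, 3], [0, 0, 3, 1, 4, 2, 4, 2, 4, 4, 2, 4], [0, 0, 3, 1, 4, 2, 4, 2, 5, 2, 5, 3], [0, 0, 3, 1, 4, 3, 5, 3, 3, 4, 3, 5], [0, 0, 3, 1, 4, 3, 5, 3, 4, 3, 5, 3], [0, 0, 3, 1, 5, 2, 5, 5, 2, 5, 2, 5], [0, 0, 3, 1, 5, 3, 5, 2, 2, 4, 3, 4], [0, 0, 3, 1, 5, 3, 5, 2, 5, 3, 5, 5], [0, 0, 3, 3, 0, 5, 2, 4, 2, 1, 3, 3], [0, 0, 3, 3, 1, 3, 3, 5, 2, 4, 0, 2], [0, 0, 3, 3, 1, 4, 2, 2, 2, 5, 0, 2], [0, 0, 3, 4, 3, 5, 1, 2, 1, 4, 2, 5], [0, 0, 4, 2, 5, 0, 3, 1, 3, 3, 1, 3], [0, 0, 4, 2, 5, 2, 2, 4, 2, 5, 1, 2], [0, 0, 4, 2, 5, 3, 0,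 3, 0, 3, 0, 3], [0, 0, 4, 3, 3, 5, 0, 3, 0, 3, 0, 3], [0, 0, 4, 3, 4, 3, 4, 4, 3, 4, 1, 2], [0, 0, 4, 3, 5, 1, 3, 1, 2, 4, 2, 5], [0, 0, 4, 3, 5, 1, 3, 1, 4, 2, 5, 2], [0, 0, 4, 3, 5, 1, 3, 1, 5, 3, 3, 4], [0, 0, 4, 3, 5, 3, 1, 2, 1, 4, 2, 5], [0, 0, 4, 4, 2, 4, 3, 4, 2, 4, 1, 2], [0, 0, 5, 2, 2, 4, 1, 2, 1, 4, 2, 5], [0, 0, 5, 2, 5, 3, 3, 4, 2, 4, 1, 2], [0, 0, 5, 3, 5, 5, 3, 5, 3, 5, 1, 2], [0, 2, 0, 2, 0, 3, 5, 3, 4, 0, 2, 2], [0, 2, 0, 2, 2, 2, 1, 2, 5, 2, 2, 4], [0, 2, 0, 2, 2, 2, 1, 3, 4, 2, 2, 5], [0, 2, 0, 2, 5, 2, 4, 3, 1, 4, 3, 5], [0, 2, 0, 2, 5, 3, 4, 1, 2, 2, 0, 3], [0, 2, 0, 3, 3, 0, 3, 3, 0, 2, 2, 2], [0, 2, 0, 3, 3, 0, 3, 3, 0, 5, 2, 4], [0, 2, 0, 3, 3, 1, 5, 2, 4, 3, 0, 3], [0, 2, 0, 3, 4, 2, 5, 1,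 3, 5, 3, 4], [0, 2, 0, 3, 5, 2, 4, 2, 1, 4, 3, 5], [0, 2, 0, 4, 2, 5, 3, 1, 3, 5, 3, 4], [0, 2, 0, 4, 3, 3, 5, 1, 3, 5, 3, 4], [0, 2, 0, 5, 2, 4, 1, 2, 5, 2, 2, 4], [0, 2, 0, 5, 2, 4, 1, 3, 4, 2, 2, 5], [0, 2, 2, 0, 2, 2, 0, 3, 0, 3, 3, 3], [0, 2, 2, 0, 2, 2, 0, 3, 0, 5, 3, 4], [0, 2, 2, 0, 2, 2, 1, 3, 3, 0, 3, 3], [0, 2, 2, 0, 2, 4, 2, 5, 0, 4, 2, 5], [0, 2, 2, 0, 3, 3, 1, 2, 2, 1, 3, 3], [0, 2, 2, 0, 4, 2, 5, 2, 0, 4, 2, 5], [0, 2, 2, 0, 5, 3, 3, 4, 0, 4, 2, 5], [0, 2, 2, 1, 2, 2, 2, 1, 3, 4, 3, 5], [0, 2, 2, 1, 2, 2, 2, 1, 4, 3, 5, 3], [0, 2, 2, 1, 2, 2, 2, 1, 5, 2, 2, 4], [0, 2, 2, 1, 5, 2, 4, 1, 3, 4, 3, 5], [0, 2, 2, 1, 5, 2, 4, 1, 4, 3, 5, 3], [0, 2, 2, 1, 5, 2, 4, 1, 5, 2, 2, 4], [0, 2, 2, 2, 0, 3, 4, 3, 5,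 1, 2, 2], [0, 2, 2, 2, 0, 4, 3, 5, 3, 1, 2, 2], [0, 2, 2, 2, 0, 5, 2, 2, 4, 1, 2, 2], [0, 2, 4, 2, 5, 1, 5, 3, 4, 1, 3, 3], [0, 2, 5, 2, 2, 4, 1, 2, 1, 2, 2, 2], [0, 2, 5, 2, 2, 4, 1, 2, 1, 5, 2, 4], [0, 3, 0, 3, 0, 3, 3, 0, 5, 2, 4, 2], [0, 3, 0, 3, 4, 2, 5, 2, 1, 3, 3, 3], [0, 3, 0, 3, 4, 2, 5, 2, 1, 5, 3, 4], [0, 3, 0, 3, 5, 3, 3, 4, 1, 3, 3, 3], [0, 3, 0, 3, 5, 3, 3, 4, 1, 5, 3, 4], [0, 3, 0, 4, 2, 5, 1, 2, 5, 3, 4, 3], [0, 3, 0, 4, 2, 5, 1, 3, 5, 3, 4, 2], [0, 3, 0, 4, 3, 3, 5, 2, 1, 3, 3, 3], [0, 3, 0, 4, 3, 3, 5, 2, 1, 5, 3, 4], [0, 3, 0, 5, 2, 4, 2, 1, 2, 4, 3, 5], [0, 3, 0, 5, 2, 4, 2, 1, 4, 2, 2, 5], [0, 3, 0, 5, 2, 4, 2, 1, 4, 3, 5, 2], [0, 3, 3, 0, 4, 3, 5, 0, 3, 4, 3, 5], [0, 3, 3, 0, 4, 3, 5, 0, 4, 3,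 5, 3], [0, 3, 3, 0, 4, 3, 5, 0, 5, 2, 2, 4], [0, 3, 4, 3, 5, 1, 2, 2, 0, 5, 2, 4], [0, 4, 0, 4, 0, 4, 0, 4, 0, 4, 0, 4], [0, 5, 2, 2, 4, 1, 2, 2, 0, 5, 2, 4], [0, 0, 0, 0, 0, 0, 2, 2, 1, 2, 5, 3, 4], [0, 0, 0, 0, 0, 0, 5, 2, 4, 3, 1, 3, 3], [0, 0, 0, 0, 0, 2, 0, 2, 0, 2, 5, 3, 4], [0, 0, 0, 0, 0, 5, 2, 4, 3, 0, 3, 0, 3], [0, 0, 0, 0, 2, 0, 3, 0, 2, 2, 0, 3, 3], [0, 0, 0, 0, 2, 1, 1, 2, 2, 1, 5, 3, 4], [0, 0, 0, 0, 2, 1, 4, 3, 5, 0, 5, 2, 4], [0, 0, 0, 0, 2, 2, 0, 2, 2, 0, 4, 3, 5], [0, 0, 0, 0, 2, 2, 0, 3, 3, 0, 2, 0, 3], [0, 0, 0, 0, 2, 5, 3, 4, 1, 3, 5, 2, 4], [0, 0, 0, 0, 3, 1, 1, 4, 3, 4, 2, 5, 5], [0, 0, 0, 0, 3, 1, 1, 4, 4, 2, 5, 3, 5], [0, 0, 0, 0, 3, 1, 1, 4, 4, 3, 3, 5, 5], [0, 0, 0, 0, 3, 1, 1, 5, 2, 5, 2,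 4, 4], [0, 0, 0, 0, 3, 3, 1, 4, 3, 4, 3, 5, 5], [0, 0, 0, 0, 3, 3, 1, 4, 4, 3, 5, 3, 5], [0, 0, 0, 0, 4, 2, 4, 3, 5, 5, 1, 1, 2], [0, 0, 0, 0, 4, 2, 5, 0, 3, 3, 0, 3, 3], [0, 0, 0, 0, 4, 4, 2, 2, 5, 5, 1, 1, 2], [0, 0, 0, 0, 4, 4, 3, 5, 2, 5, 1, 1, 2], [0, 0, 0, 0, 5, 2, 4, 1, 3, 3, 1, 1, 3], [0, 0, 0, 0, 5, 3, 4, 0, 4, 2, 5, 1, 3], [0, 0, 0, 0, 5, 3, 4, 2, 1, 3, 5, 2, 4], [0, 0, 0, 0, 5, 3, 4, 2, 1, 5, 2, 4, 3], [0, 0, 0, 0, 5, 5, 3, 4, 3, 4, 1, 1, 2], [0, 0, 0, 2, 0, 2, 4, 3, 5, 0, 0, 2, 2], [0, 0, 0, 2, 0, 3, 5, 3, 4, 0, 2, 2, 2], [0, 0, 0, 2, 0, 4, 2, 2, 5, 0, 0, 2, 2], [0, 0, 0, 2, 0, 4, 3, 5, 0, 4, 3, 3, 5], [0, 0, 0, 2, 2, 1, 2, 2, 0, 0, 4, 3, 5], [0, 0, 0, 2, 2, 2, 1, 2, 2, 5, 2, 2, 4], [0, 0, 0, 2, 2, 2, 1,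 2, 4, 2, 2, 5, 3], [0, 0, 0, 2, 2, 2, 1, 3, 5, 2, 2, 2, 4], [0, 0, 0, 2, 2, 2, 1, 3, 5, 5, 2, 4, 4], [0, 0, 0, 2, 2, 2, 1, 5, 0, 0, 3, 1, 4], [0, 0, 0, 2, 2, 2, 1, 5, 1, 1, 3, 0, 4], [0, 0, 0, 2, 2, 2, 1, 5, 3, 5, 5, 5, 5], [0, 0, 0, 2, 4, 2, 5, 3, 1, 1, 4, 3, 5], [0, 0, 0, 2, 4, 2, 5, 3, 3, 1, 3, 3, 3], [0, 0, 0, 2, 4, 3, 3, 5, 1, 1, 4, 3, 5], [0, 0, 0, 2, 4, 3, 3, 5, 3, 1, 3, 3, 3], [0, 0, 0, 2, 4, 3, 3, 5, 3, 1, 5, 3, 4], [0, 0, 0, 3, 3, 0, 0, 4, 2, 5, 3, 0, 3], [0, 0, 0, 3, 3, 0, 0, 4, 3, 3, 5, 0, 3], [0, 0, 0, 3, 3, 3, 0, 5, 2, 4, 2, 0, 3], [0, 0, 0, 4, 2, 2, 5, 0, 4, 2, 5, 0, 3], [0, 0, 0, 4, 2, 5, 0, 0, 3, 3, 1, 3, 3], [0, 0, 0, 4, 2, 5, 1, 1, 2, 4, 3, 5, 3], [0, 0, 0, 4, 2, 5, 1, 1, 2, 5, 2, 2, 4], [0, 0, 0,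 4, 2, 5, 1, 1, 4, 2, 2, 5, 3], [0, 0, 0, 4, 3, 5, 0, 5, 2, 4, 0, 0, 2], [0, 0, 0, 4, 4, 4, 4, 2, 4, 1, 3, 3, 3], [0, 0, 0, 4, 4, 4, 4, 2, 4, 1, 5, 3, 4], [0, 0, 0, 5, 0, 2, 1, 1, 4, 1, 3, 3, 3], [0, 0, 0, 5, 0, 2, 1, 1, 4, 1, 5, 3, 4], [0, 0, 0, 5, 1, 2, 0, 0, 4, 1, 3, 3, 3], [0, 0, 0, 5, 1, 2, 0, 0, 4, 1, 5, 3, 4], [0, 0, 0, 5, 2, 4, 1, 2, 4, 2, 2, 5, 3], [0, 0, 0, 5, 2, 4, 1, 3, 5, 2, 2, 2, 4], [0, 0, 0, 5, 2, 4, 1, 3, 5, 5, 2, 4, 4], [0, 0, 0, 5, 2, 4, 1, 5, 0, 0, 3, 1, 4], [0, 0, 0, 5, 2, 4, 1, 5, 1, 1, 3, 0, 4], [0, 0, 0, 5, 2, 4, 1, 5, 3, 5, 5, 5, 5], [0, 0, 0, 5, 3, 3, 3, 4, 2, 1, 3, 3, 3], [0, 0, 0, 5, 3, 3, 3, 4, 2, 1, 5, 3, 4], [0, 0, 0, 5, 3, 3, 4, 3, 1, 1, 4, 3, 5], [0, 0, 0, 5, 3, 3, 4, 3, 3, 1, 3, 3,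 3], [0, 0, 0, 5, 5, 3, 4, 4, 2, 1, 3, 3, 3], [0, 0, 0, 5, 5, 3, 4, 4, 2, 1, 5, 3, 4], [0, 0, 2, 0, 2, 2, 1, 2, 5, 3, 4, 0, 3], [0, 0, 2, 0, 2, 2, 1, 5, 3, 4, 2, 0, 3], [0, 0, 2, 0, 2, 4, 2, 5, 0, 2, 4, 2, 5], [0, 0, 2, 0, 2, 4, 2, 5, 0, 4, 2, 5, 2], [0, 0, 2, 0, 2, 4, 2, 5, 0, 5, 3, 3, 4], [0, 0, 2, 0, 2, 5, 3, 4, 1, 2, 2, 1, 3], [0, 0, 2, 0, 3, 0, 3, 3, 3, 0, 5, 2, 4], [0, 0, 2, 0, 3, 0, 5, 3, 4, 0, 2, 2, 2], [0, 0, 2, 0, 3, 1, 4, 2, 5, 1, 4, 3, 5], [0, 0, 2, 0, 3, 4, 3, 5, 0, 0, 4, 2, 5], [0, 0, 2, 0, 3, 5, 2, 4, 1, 3, 3, 0, 3], [0, 0, 2, 0, 4, 2, 5, 2, 0, 2, 4, 2, 5], [0, 0, 2, 0, 4, 2, 5, 2, 0, 5, 3, 3, 4], [0, 0, 2, 0, 4, 3, 5, 3, 0, 0, 4, 2, 5], [0, 0, 2, 0, 5, 2, 2, 4, 0, 0, 4, 2, 5], [0, 0, 2, 0, 5, 2, 4, 3,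 0, 3, 0, 3, 3], [0, 0, 2, 0, 5, 3, 3, 4, 0, 2, 4, 2, 5], [0, 0, 2, 0, 5, 3, 3, 4, 0, 4, 2, 5, 2], [0, 0, 2, 0, 5, 3, 3, 4, 0, 5, 3, 3, 4], [0, 0, 2, 0, 5, 3, 4, 2, 1, 2, 2, 1, 3], [0, 0, 2, 1, 2, 2, 2, 1, 2, 5, 2, 2, 4], [0, 0, 2, 1, 3, 3, 1, 3, 5, 2, 4, 0, 3], [0, 0, 2, 1, 3, 3, 1, 5, 2, 4, 3, 0, 3], [0, 0, 2, 1, 4, 2, 5, 1, 1, 4, 3, 5, 3], [0, 0, 2, 2, 0, 3, 4, 3, 5, 1, 2, 2, 2], [0, 0, 2, 2, 0, 3, 4, 3, 5, 1, 5, 2, 4], [0, 0, 2, 2, 0, 3, 5, 3, 4, 1, 1, 2, 2], [0, 0, 2, 2, 0, 4, 3, 5, 3, 1, 5, 2, 4], [0, 0, 2, 2, 0, 5, 2, 2, 4, 1, 2, 2, 2], [0, 0, 2, 2, 0, 5, 2, 2, 4, 1, 5, 2, 4], [0, 0, 2, 2, 1, 1, 2, 2, 1, 3, 5, 3, 4], [0, 0, 2, 2, 1, 2, 2, 1, 3, 3, 1, 3, 3], [0, 0, 2, 2, 1, 2, 5, 2, 2, 4, 0, 2, 2], [0, 0, 2, 2,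 1, 3, 4, 2, 2, 5, 0, 2, 2], [0, 0, 2, 2, 1, 3, 4, 3, 5, 2, 0, 2, 2], [0, 0, 2, 2, 1, 4, 3, 5, 0, 3, 5, 2, 4], [0, 0, 2, 2, 1, 5, 2, 2, 4, 2, 0, 2, 2], [0, 0, 2, 2, 2, 0, 2, 2, 0, 3, 4, 3, 5], [0, 0, 2, 2, 2, 0, 2, 2, 0, 4, 3, 5, 3], [0, 0, 2, 2, 2, 0, 2, 2, 0, 5, 2, 2, 4], [0, 0, 2, 2, 4, 0, 0, 3, 1, 5, 2, 1, 2], [0, 0, 2, 2, 4, 0, 2, 1, 1, 2, 5, 1, 2], [0, 0, 2, 2, 4, 1, 1, 3, 0, 5, 2, 1, 2], [0, 0, 2, 2, 4, 1, 2, 0, 0, 2, 5, 1, 2], [0, 0, 2, 2, 4, 2, 5, 1, 2, 1, 4, 2, 5], [0, 0, 2, 4, 0, 2, 1, 1, 2, 5, 2, 1, 2], [0, 0, 2, 4, 1, 2, 0, 0, 2, 5, 2, 1, 2], [0, 0, 2, 4, 2, 0, 2, 1, 1, 5, 2, 1, 2], [0, 0, 2, 4, 2, 1, 2, 0, 0, 5, 2, 1, 2], [0, 0, 2, 4, 2, 5, 0, 3, 0, 0, 4, 3, 5], [0, 0, 2, 4, 2, 5, 0, 3, 3, 0, 3, 3, 3],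 [0, 0, 2, 4, 2, 5, 0, 3, 3, 0, 5, 3, 4], [0, 0, 2, 4, 2, 5, 1, 1, 4, 3, 5, 1, 3], [0, 0, 2, 4, 2, 5, 1, 2, 2, 0, 4, 2, 5], [0, 0, 2, 4, 2, 5, 2, 1, 2, 1, 4, 2, 5], [0, 0, 2, 5, 0, 2, 1, 1, 2, 2, 4, 1, 2], [0, 0, 2, 5, 2, 0, 2, 1, 1, 2, 4, 1, 2], [0, 0, 2, 5, 3, 4, 2, 1, 3, 3, 5, 2, 4], [0, 0, 2, 5, 3, 4, 2, 1, 4, 2, 2, 2, 5], [0, 0, 2, 5, 5, 0, 2, 1, 1, 4, 4, 1, 2], [0, 0, 2, 5, 5, 1, 2, 0, 0, 4, 4, 1, 2], [0, 0, 3, 0, 4, 2, 4, 3, 5, 5, 1, 2, 2], [0, 0, 3, 0, 4, 3, 5, 2, 2, 2, 1, 2, 2], [0, 0, 3, 0, 4, 4, 2, 2, 5, 5, 1, 2, 2], [0, 0, 3, 0, 5, 3, 5, 3, 4, 4, 1, 2, 2], [0, 0, 3, 1, 3, 3, 4, 0, 0, 3, 1, 3, 5], [0, 0, 3, 1, 3, 3, 4, 1, 1, 3, 0, 3, 5], [0, 0, 3, 1, 3, 4, 0, 0, 3, 1, 3, 5, 3], [0, 0, 3, 1, 3, 4, 0, 2, 1,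 1, 5, 3, 3], [0, 0, 3, 1, 3, 4, 1, 1, 3, 0, 3, 5, 3], [0, 0, 3, 1, 3, 4, 1, 2, 0, 0, 5, 3, 3], [0, 0, 3, 1, 3, 4, 3, 0, 0, 3, 1, 5, 3], [0, 0, 3, 1, 3, 5, 1, 1, 3, 0, 3, 3, 4], [0, 0, 3, 1, 3, 5, 5, 0, 0, 3, 1, 4, 4], [0, 0, 3, 1, 3, 5, 5, 1, 1, 3, 0, 4, 4], [0, 0, 3, 1, 4, 0, 3, 0, 4, 2, 5, 1, 5], [0, 0, 3, 1, 4, 1, 3, 1, 4, 2, 5, 0, 5], [0, 0, 3, 1, 4, 3, 0, 0, 3, 1, 5, 3, 3], [0, 0, 3, 1, 4, 4, 0, 2, 1, 1, 5, 3, 5], [0, 0, 3, 1, 4, 4, 1, 1, 3, 0, 3, 5, 5], [0, 0, 3, 1, 4, 4, 1, 2, 0, 0, 5, 3, 5], [0, 0, 3, 1, 4, 4, 3, 0, 0, 3, 1, 5, 5], [0, 0, 3, 1, 5, 0, 2, 0, 2, 2, 2, 1, 4], [0, 0, 3, 1, 5, 0, 2, 0, 5, 2, 4, 1, 4], [0, 0, 3, 1, 5, 1, 2, 1, 2, 2, 2, 0, 4], [0, 0, 3, 1, 5, 1, 2, 1, 5, 2, 4, 0, 4], [0, 0, 3, 1, 5,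 5, 1, 1, 3, 0, 4, 4, 3], [0, 0, 3, 1, 5, 5, 1, 2, 0, 0, 4, 2, 4], [0, 0, 3, 3, 0, 3, 4, 2, 5, 2, 1, 3, 3], [0, 0, 3, 3, 0, 3, 5, 3, 3, 4, 1, 3, 3], [0, 0, 3, 3, 0, 4, 3, 3, 5, 2, 1, 3, 3], [0, 0, 3, 3, 0, 5, 3, 3, 4, 3, 1, 3, 3], [0, 0, 3, 3, 1, 3, 3, 3, 4, 2, 5, 0, 2], [0, 0, 3, 3, 1, 4, 4, 2, 5, 3, 5, 0, 2], [0, 0, 3, 3, 1, 4, 4, 3, 3, 5, 5, 0, 2], [0, 0, 3, 3, 1, 5, 3, 4, 4, 2, 5, 0, 2], [0, 0, 3, 3, 1, 5, 5, 2, 4, 2, 4, 0, 2], [0, 0, 3, 3, 3, 0, 4, 3, 5, 0, 4, 3, 5], [0, 0, 3, 3, 3, 0, 5, 2, 4, 0, 2, 0, 3], [0, 0, 3, 3, 3, 1, 4, 2, 5, 2, 0, 3, 3], [0, 0, 3, 3, 3, 1, 5, 3, 3, 4, 0, 3, 3], [0, 0, 3, 4, 3, 5, 0, 4, 3, 5, 3, 0, 3], [0, 0, 3, 4, 3, 5, 0, 5, 2, 2, 4, 0, 3], [0, 0, 3, 4, 3, 5, 1, 1, 2, 0, 4, 2, 5], [0,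 0, 4, 0, 4, 3, 5, 1, 2, 1, 5, 1, 2], [0, 0, 4, 1, 4, 3, 5, 0, 2, 0, 5, 1, 2], [0, 0, 4, 2, 1, 2, 0, 0, 5, 2, 2, 1, 2], [0, 0, 4, 2, 4, 1, 1, 3, 0, 5, 5, 1, 2], [0, 0, 4, 2, 5, 0, 2, 0, 3, 0, 4, 3, 5], [0, 0, 4, 2, 5, 0, 4, 2, 5, 0, 2, 2, 2], [0, 0, 4, 2, 5, 1, 4, 3, 5, 1, 2, 0, 3], [0, 0, 4, 2, 5, 2, 0, 3, 0, 0, 4, 3, 5], [0, 0, 4, 2, 5, 2, 0, 3, 3, 0, 3, 3, 3], [0, 0, 4, 2, 5, 2, 0, 3, 3, 0, 5, 3, 4], [0, 0, 4, 2, 5, 2, 1, 2, 2, 0, 4, 2, 5], [0, 0, 4, 2, 5, 2, 2, 1, 2, 1, 4, 2, 5], [0, 0, 4, 3, 3, 3, 5, 1, 3, 5, 2, 4, 3], [0, 0, 4, 3, 5, 0, 0, 5, 3, 3, 4, 0, 3], [0, 0, 4, 3, 5, 0, 3, 3, 1, 3, 4, 3, 5], [0, 0, 4, 3, 5, 0, 3, 3, 1, 4, 3, 5, 3], [0, 0, 4, 3, 5, 0, 3, 3, 1, 5, 2, 2, 4], [0, 0, 4, 3, 5, 1, 3, 1, 4, 3,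 5, 3, 3], [0, 0, 4, 3, 5, 1, 3, 1, 4, 4, 2, 5, 5], [0, 0, 4, 3, 5, 3, 0, 3, 4, 3, 5, 0, 3], [0, 0, 4, 3, 5, 3, 0, 4, 3, 5, 3, 0, 3], [0, 0, 4, 3, 5, 3, 0, 5, 2, 2, 4, 0, 3], [0, 0, 4, 4, 2, 1, 2, 0, 0, 5, 5, 1, 2], [0, 0, 4, 4, 3, 5, 5, 1, 2, 1, 4, 2, 5], [0, 0, 5, 0, 3, 3, 3, 1, 3, 1, 4, 1, 2], [0, 0, 5, 0, 5, 3, 4, 1, 3, 1, 4, 1, 2], [0, 0, 5, 1, 3, 3, 3, 0, 3, 0, 4, 1, 2], [0, 0, 5, 1, 5, 3, 4, 0, 3, 0, 4, 1, 2], [0, 0, 5, 2, 2, 4, 0, 3, 4, 3, 5, 0, 3], [0, 0, 5, 2, 2, 4, 0, 4, 3, 5, 3, 0, 3], [0, 0, 5, 2, 2, 4, 0, 5, 2, 2, 4, 0, 3], [0, 0, 5, 2, 2, 4, 1, 2, 1, 2, 5, 2, 4], [0, 0, 5, 2, 4, 0, 2, 2, 0, 3, 4, 3, 5], [0, 0, 5, 2, 4, 0, 2, 2, 0, 4, 3, 5, 3], [0, 0, 5, 2, 4, 0, 2, 2, 0, 5, 2, 2, 4], [0, 0, 5, 3, 3, 4,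 0, 3, 3, 0, 3, 3, 3], [0, 0, 5, 3, 3, 4, 0, 3, 3, 0, 5, 3, 4], [0, 0, 5, 3, 3, 4, 1, 2, 2, 0, 4, 2, 5], [0, 0, 5, 3, 3, 4, 2, 1, 2, 1, 4, 2, 5], [0, 0, 5, 3, 3, 4, 3, 1, 3, 3, 3, 1, 3], [0, 0, 5, 3, 4, 0, 2, 2, 2, 0, 2, 0, 3], [0, 0, 5, 3, 4, 1, 2, 4, 2, 5, 0, 3, 3], [0, 0, 5, 3, 4, 1, 4, 2, 5, 2, 0, 3, 3], [0, 0, 5, 3, 4, 1, 5, 3, 3, 4, 0, 3, 3], [0, 0, 5, 3, 4, 2, 0, 4, 2, 5, 1, 3, 3], [0, 0, 5, 3, 4, 2, 2, 1, 3, 5, 2, 4, 3], [0, 0, 5, 3, 4, 3, 1, 3, 1, 5, 3, 3, 4], [0, 2, 0, 2, 0, 2, 5, 2, 2, 4, 0, 2, 2], [0, 2, 0, 2, 0, 4, 3, 5, 0, 3, 5, 2, 4], [0, 2, 0, 2, 0, 5, 2, 2, 4, 2, 0, 2, 2], [0, 2, 0, 2, 1, 2, 4, 2, 5, 0, 4, 2, 5], [0, 2, 0, 2, 2, 0, 4, 2, 5, 1, 4, 2, 5], [0, 2, 0, 2, 2, 1, 5, 3, 4, 0, 2, 0, 3], [0, 2,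 0, 2, 2, 2, 1, 2, 2, 2, 4, 2, 5], [0, 2, 0, 2, 2, 2, 1, 2, 4, 4, 3, 5, 5], [0, 2, 0, 2, 2, 2, 1, 4, 3, 4, 4, 4, 4], [0, 2, 0, 2, 2, 2, 1, 5, 5, 2, 2, 4, 4], [0, 2, 0, 2, 4, 2, 2, 5, 1, 2, 2, 0, 3], [0, 2, 0, 2, 4, 2, 5, 3, 3, 1, 4, 3, 5], [0, 2, 0, 2, 4, 3, 3, 5, 3, 1, 4, 3, 5], [0, 2, 0, 2, 5, 2, 2, 2, 4, 1, 2, 1, 3], [0, 2, 0, 2, 5, 2, 4, 3, 1, 3, 5, 3, 4], [0, 2, 0, 2, 5, 3, 3, 3, 4, 1, 4, 3, 5], [0, 2, 0, 2, 5, 5, 2, 4, 4, 1, 2, 1, 3], [0, 2, 0, 2, 5, 5, 3, 4, 4, 1, 4, 3, 5], [0, 2, 0, 3, 0, 5, 2, 4, 0, 3, 0, 3, 3], [0, 2, 0, 3, 1, 2, 1, 2, 5, 2, 2, 2, 4], [0, 2, 0, 3, 1, 2, 1, 2, 5, 5, 2, 4, 4], [0, 2, 0, 3, 1, 2, 1, 4, 2, 4, 3, 5, 5], [0, 2, 0, 3, 1, 2, 1, 4, 4, 2, 2, 5, 5], [0, 2, 0, 3, 1, 2, 1, 5, 3, 5, 3,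 4, 4], [0, 2, 0, 3, 3, 0, 3, 3, 0, 3, 4, 2, 5], [0, 2, 0, 3, 3, 0, 3, 3, 0, 4, 3, 3, 5], [0, 2, 0, 3, 3, 1, 4, 3, 3, 5, 3, 0, 3], [0, 2, 0, 3, 3, 1, 5, 3, 3, 3, 4, 0, 3], [0, 2, 0, 3, 3, 4, 2, 5, 2, 1, 4, 3, 5], [0, 2, 0, 3, 3, 5, 3, 3, 4, 1, 4, 3, 5], [0, 2, 0, 3, 4, 2, 5, 1, 2, 5, 2, 2, 4], [0, 2, 0, 3, 4, 2, 5, 1, 3, 4, 2, 2, 5], [0, 2, 0, 3, 5, 2, 4, 2, 1, 3, 5, 3, 4], [0, 2, 0, 4, 2, 4, 3, 5, 5, 1, 2, 1, 3], [0, 2, 0, 4, 2, 5, 3, 1, 3, 4, 2, 2, 5], [0, 2, 0, 4, 3, 3, 5, 1, 2, 5, 2, 2, 4], [0, 2, 0, 4, 4, 2, 2, 5, 5, 1, 2, 1, 3], [0, 2, 0, 4, 4, 4, 4, 2, 4, 1, 4, 3, 5], [0, 2, 0, 5, 2, 2, 2, 4, 1, 2, 2, 0, 3], [0, 2, 0, 5, 2, 4, 1, 2, 2, 2, 4, 2, 5], [0, 2, 0, 5, 2, 4, 1, 2, 4, 4, 3, 5, 5], [0, 2, 0, 5, 2, 4, 1,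 4, 3, 4, 4, 4, 4], [0, 2, 0, 5, 2, 4, 1, 5, 5, 2, 2, 4, 4], [0, 2, 0, 5, 2, 5, 5, 5, 5, 1, 4, 3, 5], [0, 2, 0, 5, 3, 3, 3, 4, 2, 1, 4, 3, 5], [0, 2, 0, 5, 3, 5, 3, 4, 4, 1, 2, 1, 3], [0, 2, 0, 5, 5, 3, 4, 4, 2, 1, 4, 3, 5], [0, 2, 1, 4, 2, 5, 1, 3, 3, 3, 0, 3, 3], [0, 2, 1, 4, 2, 5, 1, 5, 3, 4, 0, 3, 3], [0, 2, 2, 0, 2, 2, 0, 3, 0, 4, 2, 2, 5], [0, 2, 2, 0, 2, 2, 0, 3, 0, 4, 3, 5, 2], [0, 2, 2, 0, 2, 2, 2, 1, 4, 3, 5, 1, 3], [0, 2, 2, 0, 2, 2, 5, 2, 4, 0, 4, 2, 5], [0, 2, 2, 0, 2, 4, 2, 5, 0, 2, 5, 2, 4], [0, 2, 2, 0, 2, 5, 2, 4, 2, 0, 4, 2, 5], [0, 2, 2, 0, 3, 3, 4, 3, 5, 0, 4, 2, 5], [0, 2, 2, 0, 3, 4, 3, 5, 3, 0, 4, 2, 5], [0, 2, 2, 0, 3, 5, 2, 2, 4, 0, 4, 2, 5], [0, 2, 2, 0, 4, 2, 5, 2, 0, 2, 2, 2, 2], [0, 2, 2,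 0, 4, 2, 5, 2, 0, 2, 5, 2, 4], [0, 2, 2, 0, 4, 2, 5, 2, 0, 5, 2, 4, 2], [0, 2, 2, 0, 4, 3, 5, 3, 3, 0, 4, 2, 5], [0, 2, 2, 0, 4, 4, 2, 5, 5, 0, 4, 2, 5], [0, 2, 2, 0, 5, 2, 2, 4, 3, 0, 4, 2, 5], [0, 2, 2, 0, 5, 2, 4, 1, 4, 3, 5, 1, 3], [0, 2, 2, 0, 5, 3, 3, 4, 0, 2, 2, 2, 2], [0, 2, 2, 0, 5, 3, 3, 4, 0, 2, 5, 2, 4], [0, 2, 2, 0, 5, 3, 3, 4, 0, 5, 2, 4, 2], [0, 2, 2, 1, 2, 2, 1, 2, 0, 3, 4, 3, 5], [0, 2, 2, 1, 2, 2, 2, 1, 2, 2, 4, 2, 5], [0, 2, 2, 1, 2, 2, 2, 1, 4, 4, 3, 5, 5], [0, 2, 2, 1, 3, 4, 2, 5, 1, 3, 4, 3, 5], [0, 2, 2, 1, 3, 4, 2, 5, 1, 4, 3, 5, 3], [0, 2, 2, 1, 4, 2, 5, 3, 1, 3, 4, 3, 5], [0, 2, 2, 1, 4, 2, 5, 3, 1, 4, 3, 5, 3], [0, 2, 2, 1, 4, 2, 5, 3, 1, 5, 2, 2, 4], [0, 2, 2, 1, 4, 3, 3, 5, 1, 3, 4, 3,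 5], [0, 2, 2, 1, 4, 3, 3, 5, 1, 5, 2, 2, 4], [0, 2, 2, 1, 5, 2, 4, 1, 2, 2, 4, 2, 5], [0, 2, 2, 1, 5, 2, 4, 1, 2, 4, 2, 5, 2], [0, 2, 2, 1, 5, 2, 4, 1, 4, 2, 5, 2, 2], [0, 2, 2, 1, 5, 2, 4, 1, 4, 4, 3, 5, 5], [0, 2, 2, 1, 5, 2, 4, 1, 5, 3, 3, 4, 2], [0, 2, 2, 2, 0, 2, 2, 4, 2, 5, 1, 2, 2], [0, 2, 2, 2, 0, 4, 4, 3, 5, 5, 1, 2, 2], [0, 2, 2, 2, 4, 2, 5, 1, 2, 1, 2, 2, 2], [0, 2, 2, 2, 4, 2, 5, 1, 2, 1, 5, 2, 4], [0, 2, 2, 4, 2, 5, 0, 3, 3, 0, 4, 3, 5], [0, 2, 2, 4, 2, 5, 1, 2, 2, 0, 5, 2, 4], [0, 2, 4, 2, 5, 1, 4, 2, 5, 1, 2, 1, 2], [0, 2, 4, 2, 5, 1, 4, 3, 5, 2, 1, 3, 3], [0, 2, 4, 2, 5, 2, 0, 3, 3, 0, 4, 3, 5], [0, 2, 4, 2, 5, 2, 2, 1, 2, 1, 5, 2, 4], [0, 2, 4, 4, 3, 5, 5, 1, 2, 1, 2, 2, 2], [0, 2, 4, 4, 3, 5, 5, 1,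 2, 1, 5, 2, 4], [0, 2, 5, 2, 2, 4, 1, 2, 1, 3, 4, 2, 5], [0, 2, 5, 2, 2, 4, 1, 2, 1, 4, 3, 3, 5], [0, 2, 5, 3, 3, 4, 0, 3, 3, 0, 4, 3, 5], [0, 3, 0, 3, 0, 3, 3, 0, 3, 5, 3, 3, 4], [0, 3, 0, 3, 0, 3, 3, 0, 5, 3, 3, 4, 3], [0, 3, 0, 3, 0, 5, 3, 4, 2, 0, 4, 2, 5], [0, 3, 0, 3, 3, 3, 4, 3, 5, 1, 5, 3, 4], [0, 3, 0, 3, 3, 5, 2, 2, 4, 1, 5, 3, 4], [0, 3, 0, 3, 4, 2, 5, 2, 1, 2, 4, 3, 5], [0, 3, 0, 3, 5, 3, 3, 4, 1, 2, 4, 3, 5], [0, 3, 0, 4, 2, 5, 1, 2, 2, 4, 3, 5, 3], [0, 3, 0, 4, 2, 5, 1, 2, 4, 2, 2, 5, 3], [0, 3, 0, 4, 2, 5, 1, 3, 4, 3, 5, 2, 2], [0, 3, 0, 4, 2, 5, 1, 3, 5, 2, 2, 2, 4], [0, 3, 0, 4, 2, 5, 1, 3, 5, 5, 2, 4, 4], [0, 3, 0, 4, 2, 5, 1, 4, 4, 4, 4, 3, 4], [0, 3, 0, 4, 2, 5, 1, 5, 2, 2, 2, 4, 3], [0, 3, 0, 4,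 2, 5, 1, 5, 2, 2, 4, 2, 2], [0, 3, 0, 4, 2, 5, 1, 5, 3, 5, 5, 5, 5], [0, 3, 0, 4, 2, 5, 1, 5, 5, 2, 4, 4, 3], [0, 3, 0, 4, 3, 3, 5, 2, 1, 2, 4, 3, 5], [0, 3, 0, 4, 3, 3, 5, 2, 1, 4, 3, 5, 2], [0, 3, 0, 4, 3, 5, 0, 3, 4, 3, 5, 1, 3], [0, 3, 0, 4, 3, 5, 1, 4, 3, 5, 0, 3, 3], [0, 3, 0, 5, 2, 4, 2, 1, 2, 5, 3, 4, 3], [0, 3, 0, 5, 2, 4, 2, 1, 3, 5, 3, 4, 2], [0, 3, 0, 5, 5, 3, 3, 4, 4, 1, 3, 3, 3], [0, 3, 0, 5, 5, 3, 3, 4, 4, 1, 5, 3, 4], [0, 3, 0, 5, 5, 5, 5, 2, 5, 1, 3, 3, 3], [0, 3, 0, 5, 5, 5, 5, 2, 5, 1, 5, 3, 4], [0, 3, 3, 0, 3, 3, 3, 3, 0, 3, 4, 3, 5], [0, 3, 3, 0, 3, 3, 3, 3, 0, 4, 3, 5, 3], [0, 3, 3, 0, 3, 3, 3, 3, 0, 5, 2, 2, 4], [0, 3, 3, 0, 3, 5, 3, 4, 0, 3, 4, 3, 5], [0, 3, 3, 0, 3, 5, 3, 4, 0, 5, 2, 2, 4],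 [0, 3, 3, 0, 4, 3, 5, 0, 3, 5, 3, 4, 3], [0, 3, 3, 0, 4, 3, 5, 0, 4, 2, 5, 2, 2], [0, 3, 3, 0, 4, 3, 5, 0, 4, 4, 3, 5, 5], [0, 3, 3, 0, 4, 3, 5, 0, 5, 3, 3, 4, 2], [0, 3, 3, 0, 4, 3, 5, 0, 5, 3, 4, 3, 3], [0, 3, 3, 0, 5, 3, 4, 3, 0, 3, 4, 3, 5], [0, 3, 3, 0, 5, 3, 4, 3, 0, 4, 3, 5, 3], [0, 3, 3, 0, 5, 3, 4, 3, 0, 5, 2, 2, 4], [0, 3, 3, 4, 3, 5, 1, 5, 3, 4, 1, 3, 3], [0, 3, 4, 2, 5, 0, 3, 4, 3, 5, 1, 2, 2], [0, 3, 4, 3, 5, 1, 2, 2, 0, 4, 2, 5, 3], [0, 3, 4, 3, 5, 1, 2, 2, 0, 4, 3, 3, 5], [0, 4, 2, 5, 3, 0, 5, 2, 2, 4, 1, 2, 2], [0, 4, 3, 3, 5, 0, 5, 2, 2, 4, 1, 2, 2], [0, 4, 4, 2, 5, 5, 1, 5, 3, 4, 1, 3, 3], [6, 6, 6, 6, 6, 6, 6, 6, 6, 6, 6, 6, 6, 6, 6, 6, 6, 6, 6, 6, 6, 6, 6], [6, 1, 1, 1, 1, 5, 7, 5, 0, 0, 0, 0, 4,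 4, 0, 5, 5], [6, 4, 0, 0, 0, 0, 7, 4, 4, 1, 5, 5, 1, 1, 1, 1, 4], [6, 2, 5, 0, 0, 5, 3, 7, 4, 1, 2, 4, 4, 0, 5, 2, 5, 5, 0], [6, 2, 4, 1, 1, 4, 3, 7, 5, 0, 5, 3, 1, 4, 1, 5, 3, 1, 1], [6, 0, 0, 0, 0, 0, 4, 1, 7, 0, 4, 1, 4, 0, 5, 1, 3, 5, 1, 3], [6, 0, 3, 5, 0, 4, 1, 2, 7, 2, 0, 4, 0, 5, 2, 2, 0, 3, 5, 5, 1], [6, 0, 5, 1, 1, 1, 1, 1, 7, 2, 0, 4, 2, 0, 4, 1, 5, 0, 5, 1], [6, 1, 2, 5, 1, 4, 4, 2, 7, 0, 3, 4, 1, 5, 5, 2, 0, 5, 5, 1], [6, 2, 4, 1, 3, 5, 1, 5, 7, 2, 1, 2, 5, 3, 0, 0, 5, 1, 1, 4, 2], [6, 3, 0, 0, 4, 0, 4, 2, 7, 2, 0, 4, 0, 5, 5, 3, 0, 4, 1, 3], [6, 3, 0, 5, 1, 4, 2, 1, 7, 3, 3, 1, 4, 4, 3, 0, 5, 0, 3, 4, 1], [6, 3, 1, 4, 4, 0, 4, 4, 7, 3, 4, 3, 1, 5, 3, 1, 5, 3, 1, 1], [6, 3, 3, 1, 1, 5, 0, 5, 7, 4, 0, 3,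 3, 4, 1, 3, 4, 1, 3, 4, 0], [6, 3, 5, 1, 5, 1, 1, 2, 7, 2, 0, 5, 1, 2, 4, 4, 1, 5, 1, 3], [6, 3, 5, 5, 0, 4, 3, 0, 7, 0, 4, 4, 1, 3, 4, 4, 0, 5, 2, 1], [6, 4, 0, 4, 2, 0, 5, 3, 7, 3, 5, 0, 0, 4, 1, 1, 2, 4, 3, 0, 3], [6, 4, 1, 4, 0, 0, 2, 2, 7, 5, 5, 0, 4, 2, 1, 3, 4, 1, 1, 4, 1], [6, 5, 5, 1, 5, 5, 0, 2, 7, 0, 0, 2, 4, 0, 4, 0, 3, 0, 5, 3], [6, 1, 4, 0, 5, 5, 1, 1, 1, 7, 3, 0, 0, 5, 0, 2, 5, 2, 1, 3, 5], [6, 1, 4, 4, 0, 5, 3, 5, 1, 7, 4, 1, 1, 5, 1, 5, 5, 3, 0, 5, 5], [6, 1, 5, 1, 1, 1, 4, 4, 1, 7, 1, 1, 1, 5, 3, 1, 1, 4, 1, 5], [6, 2, 2, 1, 4, 4, 1, 1, 1, 7, 5, 1, 1, 4, 1, 5, 1, 2, 5, 0, 4, 3], [6, 3, 0, 3, 4, 1, 4, 4, 0, 7, 3, 0, 5, 1, 1, 4, 0, 0, 2, 4, 1], [6, 3, 0, 4, 4, 1, 4, 3, 0, 7, 2, 1, 4, 2, 0, 4, 4, 1,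 5, 3], [6, 3, 1, 5, 0, 4, 1, 3, 3, 7, 4, 2, 1, 5, 2, 0, 4, 4, 2, 0, 3], [6, 4, 0, 4, 3, 0, 3, 4, 1, 7, 5, 2, 5, 0, 5, 5, 1, 5, 2, 5, 3], [6, 4, 0, 4, 4, 1, 5, 0, 2, 7, 2, 5, 0, 2, 4, 0, 2, 4, 4, 1, 1, 1], [6, 4, 1, 4, 4, 3, 1, 5, 1, 7, 0, 5, 0, 4, 4, 2, 0, 5, 5], [6, 4, 3, 5, 0, 4, 0, 3, 0, 7, 2, 5, 0, 0, 4, 1, 3, 5, 0, 2, 2], [6, 5, 0, 5, 2, 0, 2, 4, 2, 7, 3, 0, 4, 4, 0, 5, 1, 3, 1, 1, 4], [6, 5, 1, 1, 1, 1, 2, 4, 1, 7, 3, 1, 5, 5, 2, 1, 5, 3, 0], [6, 5, 2, 0, 5, 1, 5, 2, 5, 7, 1, 4, 1, 1, 4, 0, 2, 5, 1, 3, 1], [6, 5, 3, 3, 0, 3, 4, 1, 2, 7, 4, 4, 1, 5, 1, 5, 5, 1, 1, 5, 5, 1], [6, 5, 5, 3, 1, 5, 0, 0, 5, 7, 3, 5, 5, 1, 4, 4, 2, 0, 4, 2, 4], [6, 0, 0, 0, 4, 4, 1, 5, 0, 7, 4, 2, 0, 3, 4, 3, 1, 4, 1, 1, 2], [6, 0, 0,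 0, 5, 5, 0, 3, 3, 7, 5, 5, 3, 0, 5, 1, 5, 5, 0, 3, 5, 1], [6, 0, 2, 2, 5, 0, 2, 2, 4, 7, 1, 2, 4, 0, 4, 2, 4, 0, 0], [6, 0, 4, 0, 2, 5, 5, 0, 5, 7, 4, 4, 1, 3, 5, 5, 1, 4, 1], [6, 0, 4, 2, 4, 1, 5, 5, 0, 7, 4, 4, 1, 2, 4, 4, 0, 4, 0, 0, 5], [6, 0, 5, 2, 1, 2, 5, 1, 5, 7, 5, 3, 5, 5, 0, 4, 4, 1, 4, 3, 4], [6, 0, 5, 5, 0, 0, 0, 4, 0, 7, 4, 0, 5, 0, 0, 2, 4, 0, 0, 0], [6, 1, 2, 1, 5, 1, 4, 2, 5, 7, 3, 3, 1, 4, 2, 0, 5, 1, 1, 4, 3], [6, 1, 2, 5, 0, 5, 5, 1, 2, 7, 2, 4, 0, 5, 5, 1, 3, 5, 0, 3], [6, 1, 5, 5, 0, 5, 2, 1, 2, 7, 0, 5, 3, 1, 1, 5, 0, 0, 4, 1, 2], [6, 2, 2, 0, 5, 1, 4, 0, 2, 7, 2, 1, 3, 5, 5, 1, 3, 4, 0, 3, 5], [6, 3, 0, 5, 2, 1, 2, 2, 4, 7, 1, 4, 3, 3, 1, 4, 4, 0, 5, 2, 5, 1], [6, 3, 1, 4, 0, 5, 5, 1, 5, 7,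 0, 0, 0, 5, 5, 3, 1, 5, 3, 1, 4, 3], [6, 3, 5, 3, 1, 3, 4, 1, 4, 7, 5, 0, 0, 2, 0, 4, 1, 5, 5, 1, 2], [6, 4, 1, 1, 4, 0, 2, 4, 4, 7, 5, 3, 5, 1, 3, 5, 5, 0, 4, 4, 2], [6, 4, 3, 4, 0, 4, 1, 3, 4, 7, 0, 2, 0, 4, 3, 1, 5, 0, 0, 5, 0], [6, 0, 0, 0, 2, 5, 0, 4, 0, 0, 7, 4, 1, 1, 5, 1, 1, 5, 5, 3, 1], [6, 0, 0, 2, 4, 1, 5, 5, 2, 0, 7, 0, 5, 5, 1, 1, 2, 5, 1, 1], [6, 0, 0, 4, 1, 5, 3, 5, 1, 2, 7, 3, 5, 1, 5, 0, 2, 4, 4, 1, 4, 3], [6, 0, 2, 0, 5, 1, 4, 4, 1, 5, 7, 4, 1, 4, 3, 0, 4, 4, 1, 2, 5, 1, 5], [6, 0, 2, 2, 4, 4, 1, 3, 4, 0, 7, 2, 0, 3, 5, 1, 1, 4, 2, 1, 3, 3], [6, 0, 2, 4, 4, 1, 4, 3, 0, 5, 7, 2, 2, 1, 5, 5, 3, 1, 4, 2, 1, 4, 1], [6, 0, 2, 5, 2, 5, 1, 5, 2, 1, 7, 4, 1, 4, 1, 2, 1, 5, 5, 0, 5, 2, 1], [6, 0, 2, 5, 3,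 1, 5, 3, 0, 0, 7, 3, 3, 1, 4, 0, 2, 0, 4, 4], [6, 0, 2, 5, 5, 1, 5, 0, 2, 5, 7, 3, 0, 4, 1, 4, 1, 5, 3, 5, 1, 4, 2], [6, 0, 3, 0, 5, 0, 5, 5, 2, 0, 7, 2, 2, 4, 0, 5, 0, 2, 5, 5, 0], [6, 3, 6, 1, 4, 0, 5, 5, 1, 1, 1, 7, 2, 7, 3, 3, 0, 4, 4, 1, 2, 5, 0, 0, 0], [6, 3, 6, 4, 1, 4, 0, 4, 3, 0, 3, 7, 2, 7, 5, 1, 3, 5, 1, 2, 4, 1, 3, 5, 5], [6, 3, 6, 0, 0, 0, 4, 4, 1, 5, 0, 7, 2, 7, 1, 1, 1, 4, 3, 0, 5, 5, 1, 2, 2], [6, 3, 6, 2, 1, 2, 5, 1, 5, 0, 5, 7, 2, 7, 5, 0, 4, 3, 4, 1, 5, 0, 0, 4, 2], [6, 3, 6, 0, 0, 0, 2, 5, 0, 4, 0, 0, 7, 2, 7, 0, 5, 1, 4, 4, 0, 5, 5, 0, 4], [6, 3, 6, 1, 1, 4, 0, 5, 5, 0, 3, 3, 7, 2, 7, 4, 0, 4, 4, 3, 1, 4, 0, 4, 4, 3, 0, 0], [6, 3, 6, 1, 1, 5, 1, 4, 3, 1, 1, 1, 7, 2, 7, 5, 1, 4, 4, 1, 5, 5, 0, 4,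 1], [6, 3, 6, 1, 5, 0, 0, 5, 3, 0, 0, 5, 7, 2, 7, 4, 1, 2, 4, 1, 1, 1, 4, 0, 4, 2, 1], [6, 3, 6, 1, 5, 5, 0, 5, 3, 5, 0, 2, 7, 2, 7, 5, 5, 3, 1, 1, 5, 0, 2, 0, 4], [6, 3, 6, 2, 2, 1, 4, 4, 1, 5, 0, 0, 7, 2, 7, 2, 0, 4, 0, 3, 3, 0, 5, 0, 0, 5, 2, 1], [6, 3, 6, 3, 1, 4, 2, 4, 1, 4, 4, 0, 7, 2, 7, 5, 1, 3, 1, 4, 0, 0, 2, 4, 4], [6, 3, 6, 4, 1, 1, 2, 4, 1, 1, 4, 0, 7, 2, 7, 0, 3, 5, 1, 5, 0, 0, 0, 5, 3, 0, 5], [6, 3, 6, 0, 5, 3, 0, 4, 4, 1, 5, 1, 1, 7, 2, 7, 0, 4, 3, 4, 3, 0, 0, 4, 4, 0, 5, 2, 0], [6, 3, 6, 1, 2, 2, 0, 5, 1, 5, 3, 5, 1, 7, 2, 7, 0, 0, 5, 1, 1, 4, 0, 5, 0, 2], [6, 3, 6, 1, 2, 4, 1, 4, 0, 0, 4, 2, 1, 7, 2, 7, 3, 4, 3, 1, 4, 1, 5, 1, 5, 2], [6, 3, 6, 1, 5, 0, 4, 4, 0, 3, 5, 2, 0, 7, 2, 7, 0, 0, 0, 5, 2, 1,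 2, 2, 4, 1, 1], [6, 3, 6, 1, 5, 1, 4, 3, 5, 1, 5, 1, 1, 7, 2, 7, 5, 1, 1, 5, 0, 4, 0, 3, 5, 0, 0, 2], [6, 3, 6, 2, 0, 2, 4, 1, 5, 1, 4, 3, 1, 7, 2, 7, 0, 3, 3, 1, 5, 0, 5, 0, 0, 5, 2], [6, 3, 6, 2, 1, 2, 4, 1, 5, 3, 5, 2, 0, 7, 2, 7, 5, 1, 4, 0, 4, 0, 5, 0, 5, 5, 1, 5], [6, 3, 6, 2, 4, 0, 5, 1, 4, 0, 2, 4, 0, 7, 2, 7, 1, 3, 5, 1, 5, 0, 3, 0, 4, 4, 3], [6, 3, 6, 2, 5, 5, 1, 3, 5, 3, 1, 5, 1, 7, 2, 7, 5, 1, 5, 5, 1, 5, 2, 0, 5, 5, 3, 1], [6, 3, 6, 3, 0, 0, 4, 1, 4, 4, 1, 5, 1, 7, 2, 7, 5, 0, 0, 2, 5, 1, 4, 0, 3, 0], [6, 3, 6, 3, 0, 4, 1, 1, 1, 1, 4, 3, 0, 7, 2, 7, 3, 1, 1, 4, 2, 1, 5, 1, 4, 0, 0, 4], [6, 3, 6, 3, 3, 0, 5, 0, 4, 0, 5, 0, 0, 7, 2, 7, 1, 4, 0, 2, 0, 4, 1, 2, 1, 2, 5, 1], [6, 3, 6, 3, 4, 0, 4, 4, 3, 4, 0,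 4, 1, 7, 2, 7, 4, 0, 5, 0, 0, 0, 4, 1, 4, 1, 3, 3], [6, 3, 6, 3, 5, 0, 5, 0, 0, 5, 2, 5, 1, 7, 2, 7, 1, 3, 4, 1, 4, 0, 2, 2, 4, 1, 1, 1], [6, 3, 6, 4, 1, 1, 4, 3, 0, 4, 1, 1, 5, 7, 2, 7, 4, 3, 0, 5, 3, 1, 5, 5, 3, 1, 5, 0], [6, 3, 6, 4, 1, 5, 1, 4, 4, 1, 5, 3, 0, 7, 2, 7, 1, 5, 3, 0, 4, 1, 5, 2, 1, 4, 1], [6, 3, 6, 4, 1, 5, 3, 5, 1, 5, 1, 2, 1, 7, 2, 7, 2, 1, 4, 3, 1, 5, 1, 4, 3, 0, 3], [6, 3, 6, 4, 2, 4, 0, 5, 5, 0, 2, 5, 2, 7, 2, 7, 5, 1, 4, 0, 5, 0, 3, 5, 1, 5, 0, 2], [6, 3, 6, 4, 4, 1, 2, 4, 4, 1, 2, 5, 2, 7, 2, 7, 1, 2, 1, 5, 1, 4, 1, 4, 2, 0, 2, 4], [6, 3, 6, 4, 4, 2, 0, 5, 0, 0, 0, 0, 0, 7, 2, 7, 4, 1, 5, 2, 1, 4, 2, 1, 5, 2, 1, 2], [6, 3, 6, 5, 1, 4, 4, 1, 5, 2, 0, 4, 1, 7, 2, 7, 3, 1, 3, 4, 0, 4, 3], [6, 3,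 6, 5, 1, 5, 0, 2, 0, 5, 0, 3, 5, 7, 2, 7, 0, 5, 1, 5, 1, 4, 4, 3, 0, 5, 0], [6, 3, 6, 5, 1, 5, 1, 4, 0, 3, 4, 1, 5, 7, 2, 7, 0, 4, 0, 5, 0, 0, 5, 0, 5, 3], [6, 3, 6, 5, 2, 1, 5, 5, 1, 1, 5, 1, 3, 7, 2, 7, 5, 1, 3, 1, 5, 0, 2, 5, 0, 4, 0, 3], [6, 3, 6, 5, 3, 1, 5, 1, 5, 0, 4, 1, 1, 7, 2, 7, 5, 0, 3, 4, 0, 4, 0, 5, 3], [6, 3, 6, 5, 5, 0, 2, 4, 2, 0, 4, 3, 3, 7, 2, 7, 0, 4, 1, 4, 4, 0, 4, 2, 0, 4, 0, 3], [6, 3, 6, 5, 5, 1, 5, 0, 5, 5, 0, 0, 0, 7, 2, 7, 2, 4, 4, 0, 4, 4, 2, 0, 4, 4, 3, 0], [6, 3, 6, 0, 0, 4, 0, 5, 5, 1, 2, 4, 1, 7, 2, 7, 4, 0, 0, 5, 2, 1, 2, 5, 3, 1, 4, 1, 1], [6, 3, 6, 0, 0, 5, 1, 4, 0, 4, 0, 2, 4, 7, 2, 7, 2, 4, 1, 5, 1, 5, 2, 1, 4], [6, 3, 6, 0, 4, 2, 4, 0, 4, 1, 3, 3, 0, 7, 2, 7, 3, 1, 4, 1, 5, 0,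 0, 4, 1, 1], [6, 3, 6, 0, 4, 3, 4, 1, 1, 4, 1, 4, 2, 7, 2, 7, 4, 1, 2, 5, 0, 3, 5, 5, 1, 4, 0, 0], [6, 3, 6, 0, 2, 5, 0, 4, 0, 5, 3, 1, 3, 7, 2, 7, 3, 4, 1, 1, 4, 1, 4, 0, 2, 2, 1], [6, 3, 6, 0, 3, 0, 4, 0, 4, 2, 4, 0, 5, 7, 2, 7, 2, 1, 2, 5, 0, 4, 0, 2, 5, 0, 3], [6, 3, 6, 0, 3, 5, 1, 1, 5, 0, 5, 3, 0, 7, 2, 7, 3, 4, 0, 4, 0, 5, 0, 2, 5, 2], [6, 3, 6, 0, 4, 0, 2, 4, 2, 0, 4, 4, 3, 7, 2, 7, 1, 4, 0, 3, 0, 0, 4, 1, 5, 3, 3, 0], [6, 3, 6, 0, 4, 0, 5, 5, 0, 5, 1, 1, 2, 7, 2, 7, 1, 2, 1, 5, 0, 4, 3, 1, 1, 4], [6, 3, 6, 1, 1, 1, 4, 4, 1, 4, 0, 4, 4, 7, 2, 7, 5, 0, 4, 0, 3, 4, 0, 4, 2, 1, 5, 0], [6, 3, 6, 0, 5, 1, 3, 4, 2, 4, 1, 5, 2, 7, 2, 7, 5, 5, 1, 3, 5, 1, 4, 3, 0, 5, 5, 0], [6, 3, 6, 0, 5, 1, 3, 4, 0, 5, 5, 0, 4, 7,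 2, 7, 2, 5, 1, 5, 2, 0, 2], [6, 3, 6, 3, 4, 3, 1, 4, 4, 1, 5, 3, 5, 7, 2, 7, 5, 1, 4, 0, 4, 2, 0, 4, 0, 2, 4, 1], [6, 3, 6, 1, 1, 1, 1, 1, 4, 1, 3, 5, 5, 7, 2, 7, 4, 1, 1, 2, 4, 1, 2, 5, 1, 3, 4, 3], [6, 3, 6, 1, 1, 4, 1, 5, 1, 4, 1, 2, 2, 7, 2, 7, 0, 4, 3, 0, 3, 0, 5, 1, 3, 1, 5, 0], [6, 3, 6, 1, 2, 4, 0, 5, 5, 0, 4, 0, 5, 7, 2, 7, 0, 5, 0, 3, 4, 0, 5, 1, 2, 4, 0], [6, 3, 6, 2, 0, 4, 0, 0, 4, 4, 0, 3, 4, 7, 2, 7, 4, 0, 0, 4, 1, 2, 5, 2, 0, 3, 4, 0], [6, 3, 6, 1, 3, 4, 2, 1, 5, 5, 1, 4, 0, 7, 2, 7, 0, 0, 5, 3, 3, 0, 3, 4, 1, 1, 1], [6, 3, 6, 1, 3, 4, 2, 4, 0, 5, 3, 0, 3, 7, 2, 7, 4, 0, 5, 2, 0, 2, 4, 4, 0, 5, 5, 2], [6, 3, 6, 1, 5, 3, 1, 5, 0, 4, 1, 5, 3, 7, 2, 7, 5, 5, 3, 1, 1, 4, 3, 0, 4, 2, 0], [6, 3, 6, 2, 2, 5,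 1, 3, 5, 3, 1, 4, 4, 7, 2, 7, 2, 1, 5, 1, 3, 5, 1, 5, 5, 0, 5, 1], [6, 6, 0, 6, 2, 1, 4, 0, 2, 2, 4, 1, 7, 1, 7, 7, 0, 3, 3, 3, 1, 5, 1, 4, 0, 5, 3, 1], [6, 6, 0, 6, 0, 5, 3, 3, 1, 5, 0, 3, 7, 1, 7, 7, 0, 2, 4, 1, 5, 0, 4, 0, 2, 2, 2, 1], [6, 6, 0, 6, 0, 0, 2, 5, 2, 0, 4, 1, 3, 7, 1, 7, 7, 0, 2, 0, 2, 5, 1, 2, 5, 2, 1, 4], [6, 6, 0, 6, 2, 0, 5, 1, 2, 2, 4, 1, 2, 7, 1, 7, 7, 5, 0, 3, 4, 3, 0, 4, 3, 1, 3, 1], [6, 6, 0, 6, 2, 1, 5, 2, 0, 4, 0, 5, 2, 7, 1, 7, 7, 0, 0, 4, 2, 0, 3, 4, 1, 2, 4, 0, 0, 0], [6, 6, 0, 6, 3, 4, 1, 5, 1, 3, 4, 0, 3, 7, 1, 7, 7, 1, 1, 1, 5, 3, 0, 5, 2, 1, 3, 5, 1, 1], [6, 6, 0, 6, 3, 4, 3, 0, 4, 4, 1, 5, 5, 7, 1, 7, 7, 3, 1, 1, 5, 5, 0, 2, 5, 1, 4, 1], [6, 6, 0, 6, 4, 2, 0, 4, 4, 0, 0, 4, 4, 7,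 1, 7, 7, 3, 0, 4, 1, 5, 0, 2, 4, 1, 5, 3, 1], [6, 6, 0, 6, 4, 4, 0, 5, 5, 1, 2, 5, 2, 7, 1, 7, 7, 0, 5, 0, 4, 3, 1, 4, 4, 0, 0, 2], [6, 6, 0, 6, 5, 5, 1, 1, 5, 5, 1, 3, 5, 7, 1, 7, 7, 1, 1, 5, 1, 4, 4, 0, 4, 2, 4, 0, 3], [6, 6, 0, 6, 0, 5, 1, 2, 4, 3, 4, 1, 3, 1, 7, 1, 7, 7, 3, 1, 4, 0, 0, 4, 0, 2, 4, 0, 4, 0], [6, 6, 0, 6, 3, 1, 4, 0, 5, 5, 1, 1, 4, 1, 7, 1, 7, 7, 5, 3, 0, 4, 1, 4, 0, 4, 0, 3, 5, 0], [6, 6, 0, 6, 4, 0, 0, 4, 0, 5, 0, 3, 3, 0, 7, 1, 7, 7, 5, 2, 2, 0, 3, 5, 0, 4, 1, 5, 5], [6, 6, 0, 6, 4, 0, 0, 4, 2, 1, 5, 5, 2, 0, 7, 1, 7, 7, 2, 4, 1, 5, 1, 1, 5, 0, 5, 2, 2, 1], [6, 6, 0, 6, 4, 2, 1, 3, 5, 3, 0, 4, 1, 1, 7, 1, 7, 7, 4, 0, 4, 4, 1, 4, 4, 2, 1, 4, 4, 0], [6, 6, 0, 6, 4, 3, 1, 3, 1, 5, 1, 5, 1, 1, 7,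 1, 7, 7, 4, 1, 1, 5, 5, 3, 0, 5, 3, 1, 4, 1], [6, 6, 0, 6, 4, 3, 4, 0, 0, 2, 4, 1, 5, 3, 7, 1, 7, 7, 5, 0, 5, 5, 0, 3, 5, 1, 3, 5, 1, 2], [6, 6, 0, 6, 4, 3, 4, 1, 3, 4, 4, 1, 1, 5, 7, 1, 7, 7, 0, 5, 1, 5, 0, 0, 0, 0, 4, 1, 3, 3], [6, 6, 0, 6, 4, 4, 0, 0, 4, 1, 4, 0, 4, 1, 7, 1, 7, 7, 5, 3, 1, 1, 4, 0, 2, 5, 2, 1, 5, 1], [6, 6, 0, 6, 5, 0, 0, 2, 4, 3, 0, 4, 3, 3, 7, 1, 7, 7, 0, 4, 0, 0, 5, 1, 3, 5, 2, 0, 4], [6, 6, 0, 6, 5, 1, 5, 3, 5, 1, 5, 1, 3, 5, 7, 1, 7, 7, 3, 1, 5, 2, 1, 4, 0, 2, 4, 1, 2], [6, 6, 0, 6, 5, 3, 5, 0, 5, 5, 1, 4, 4, 1, 7, 1, 7, 7, 0, 4, 1, 5, 0, 2, 0, 4, 4, 1, 5], [6, 6, 0, 6, 0, 0, 5, 1, 2, 4, 2, 0, 3, 5, 7, 1, 7, 7, 2, 2, 4, 0, 4, 4, 0, 3, 0, 5, 1, 1], [6, 6, 0, 6, 0, 5, 0, 0, 4, 4, 1, 5, 0, 2,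 7, 1, 7, 7, 5, 2, 0, 4, 0, 4, 0, 0, 0, 4, 1, 4], [6, 6, 0, 6, 0, 2, 0, 4, 4, 2, 4, 0, 4, 1, 7, 1, 7, 7, 5, 5, 2, 2, 1, 5, 3, 1, 1, 5, 1, 1], [6, 6, 0, 6, 1, 3, 4, 4, 0, 3, 5, 1, 1, 5, 7, 1, 7, 7, 0, 3, 3, 4, 1, 4, 0, 0, 4, 0, 5, 3], [6, 6, 0, 6, 1, 2, 2, 1, 4, 1, 5, 1, 1, 5, 7, 1, 7, 7, 4, 4, 0, 5, 1, 4, 2, 1, 3, 3, 4], [6, 6, 0, 6, 0, 5, 1, 5, 0, 5, 1, 1, 5, 5, 7, 1, 7, 7, 1, 5, 1, 4, 4, 0, 5, 0, 0, 5, 1, 1], [6, 6, 0, 6, 0, 5, 5, 0, 4, 4, 1, 4, 2, 4, 7, 1, 7, 7, 4, 0, 5, 5, 1, 3, 1, 4, 0, 5, 1], [6, 6, 0, 6, 2, 2, 5, 1, 2, 5, 3, 1, 1, 4, 7, 1, 7, 7, 5, 1, 4, 3, 3, 0, 4, 1, 1, 5, 1], [0, 1], [1, 0], [2, 3], [3, 2], [4, 5], [5, 4], [6, 7], [7, 6], [6, 3, 4, 1, 5, 5, 7, 4, 4, 1, 4, 4, 0, 4, 3, 0, 3, 5], [6, 0, 6, 1,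 4, 0, 0, 5, 3, 3, 7, 1, 7, 0, 0, 5, 2, 0, 4, 0, 2, 5, 0, 2], [6, 0, 6, 4, 0, 4, 0, 5, 2, 2, 0, 7, 1, 7, 4, 0, 5, 3, 0, 4, 1, 1, 2, 4, 4], [6, 2, 1, 4, 1, 4, 0, 4, 2, 5, 7, 4, 4, 1, 5, 1, 5, 2, 1, 4, 3, 3, 1], [6, 4, 0, 5, 5, 1, 1, 2, 5, 1, 1, 7, 0, 4, 2, 4, 0, 3, 5, 1, 1, 5, 3], [6, 1, 5, 0, 0, 6, 2, 2, 1, 5, 2, 5, 1, 5, 1, 3, 1], [6, 3, 4, 4, 0, 4, 7, 4, 4, 1, 4, 0, 5, 3, 5, 0, 0, 4, 1], [6, 2, 4, 2, 0, 3, 5, 0, 7, 3, 1, 5, 3, 5, 1, 2], [6, 2, 4, 0, 2, 1, 3, 5, 0, 7, 3, 1, 5, 3, 5, 1, 2], [6, 2, 1, 3, 5, 3, 5, 7, 3, 5, 3, 0, 5, 0, 5, 1, 5, 1, 1, 2], [6, 2, 1, 2, 5, 0, 2, 2, 7, 0, 2, 0, 4, 3, 0, 4, 0, 2, 0, 4, 0], [6, 2, 1, 5, 3, 3, 5, 3, 7, 3, 5, 3, 0, 5, 0, 5, 1, 5, 1, 1, 2], [6, 0, 0, 5, 0, 0, 7, 4, 3, 5, 1, 5,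 1, 4, 1, 4, 0, 2, 0], [6, 4, 0, 5, 2, 1, 4, 4, 7, 1, 3, 4, 4, 0, 3, 4, 1, 4, 0], [6, 5, 5, 0, 3, 4, 1, 5, 7, 1, 5, 0, 5, 2, 1, 5, 5, 2, 0], [6, 1, 2, 2, 1, 5, 1, 5, 7, 4, 0, 3, 4, 0, 5, 3, 5, 2, 1, 4, 0], [6, 2, 0, 2, 4, 0, 2, 5, 7, 0, 2, 4, 1, 5, 3, 1, 5, 5, 3, 0], [6, 3, 0, 4, 1, 5, 3, 1, 7, 4, 1, 1, 4, 3, 0, 4, 3, 1, 3, 1], [6, 0, 4, 0, 0, 4, 4, 0, 7, 1, 4, 2, 4, 0, 5, 0, 0, 4, 3, 1, 1], [6, 5, 3, 1, 3, 4, 0, 5, 1, 7, 3, 0, 4, 2, 4, 2, 0, 5, 2, 0, 4, 1], [6, 0, 5, 0, 5, 5, 1, 4, 0, 0, 7, 1, 4, 4, 0, 5, 3, 0, 4, 0, 4, 0], [6, 1, 4, 3, 0, 3, 5, 3, 0, 5, 7, 1, 2, 5, 5, 1, 4, 3, 0, 4, 0, 5], [6, 4, 2, 1, 5, 2, 0, 0, 5, 2, 1, 7, 3, 0, 5, 3, 3, 1, 5, 5, 1, 2, 5, 5], [6, 0, 2, 4, 2, 0, 2, 0, 4, 4, 2, 1, 7, 0, 3, 4, 1,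 4, 4, 0, 3, 0, 5, 0, 5], [6, 0, 4, 1, 2, 1, 3, 3, 1, 4, 4, 1, 7, 0, 3, 4, 1, 4, 4, 0, 3, 0, 5, 0, 5], [6, 3, 0, 0, 5, 2, 2, 0, 4, 2, 7, 3, 5, 1, 4, 0, 3, 4, 3, 0, 3, 0], [6, 3, 0, 0, 5, 1, 1, 4, 3, 5, 1, 7, 5, 1, 1, 4, 0, 2, 4, 0, 5, 3, 5, 1], [6, 2, 0, 4, 4, 0, 4, 0, 0, 7, 1, 1, 1, 5, 5, 2, 1, 3, 3, 4, 1], [6, 0, 2, 5, 1, 3, 1, 1, 5, 0, 7, 1, 2, 4, 3, 0, 5, 1, 1, 4, 0, 5], [6, 0, 5, 0, 4, 4, 0, 5, 5, 0, 7, 5, 0, 0, 0, 0, 5, 0, 5, 0, 5, 5], [6, 0, 5, 0, 3, 5, 0, 3, 0, 5, 1, 7, 1, 2, 5, 5, 1, 5, 2, 0, 2, 5, 3, 1], [6, 0, 5, 0, 5, 0, 0, 5, 2, 2, 1, 7, 1, 2, 5, 5, 1, 5, 2, 0, 2, 5, 3, 1], [6, 0, 5, 0, 5, 3, 0, 3, 5, 3, 1, 7, 1, 2, 5, 5, 1, 5, 2, 0, 2, 5, 3, 1], [6, 5, 1, 1, 5, 1, 4, 2, 7, 5, 3, 5, 5, 1, 4, 4, 2, 1, 5,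 0, 5], [6, 5, 2, 5, 0, 3, 5, 1, 7, 2, 0, 5, 2, 1, 2, 5, 0, 2, 4, 0, 0], [6, 5, 2, 5, 1, 3, 0, 5, 1, 7, 2, 0, 5, 2, 1, 2, 5, 0, 2, 4, 0, 0], [6, 0, 4, 0, 3, 4, 0, 4, 2, 0, 7, 2, 1, 2, 1, 4, 4, 2, 1, 4, 1, 4, 4], [6, 6, 0, 0, 0, 2, 4, 1, 4, 3, 3, 7, 7, 1, 5, 2, 0, 4, 1, 5, 0, 5, 5, 1, 4], [6, 4, 4, 2, 0, 5, 0, 5, 7, 2, 1, 4, 1, 1, 5, 1, 3, 4, 1, 4], [6, 6, 5, 2, 0, 2, 5, 3, 0, 4, 1, 7, 7, 5, 1, 3, 4, 0, 0, 5, 3], [6, 6, 1, 2, 1, 4, 1, 3, 4, 4, 1, 7, 7, 0, 5, 2, 0, 5, 1, 5, 1, 3, 3, 1], [6, 6, 0, 2, 0, 7, 3, 0, 4, 4, 1, 6, 1, 3, 1, 7, 7, 1, 1, 1, 5, 0, 4, 1, 2, 5, 1, 3, 3], [6, 6, 0, 5, 1, 1, 1, 4, 0, 5, 3, 1, 7, 7, 0, 2, 5, 2, 1, 3, 5, 1], [6, 1, 5, 2, 1, 3, 4, 4, 0, 5, 0, 7, 4, 0, 2, 2, 4, 1, 1], [6, 0, 6, 3, 0, 5,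 1, 5, 3, 1, 5, 7, 1, 7, 1, 2, 1, 4, 1, 4, 0, 4, 4, 0], [6, 4, 1, 5, 2, 5, 0, 5, 2, 2, 1, 7, 2, 0, 3, 5, 5, 0, 3, 5, 0, 4, 1, 3], [6, 3, 0, 4, 2, 0, 5, 3, 0, 4, 3, 7, 0, 0, 2, 4, 1, 4, 0, 5, 2, 1, 5], [6, 2, 0, 4, 3, 0, 4, 4, 3, 1, 3, 7, 5, 2, 5, 0, 3, 4, 4, 0, 4, 2, 4, 1], [6, 0, 2, 4, 2, 1, 4, 3, 1, 4, 3, 3, 7, 3, 0, 0, 0, 4, 4, 1, 3, 5, 0, 5, 5], [6, 6, 0, 2, 0, 7, 1, 3, 1, 5, 5, 6, 1, 3, 1, 7, 7, 4, 0, 3, 5, 2, 1, 4, 1, 3], [6, 6, 0, 2, 0, 7, 4, 4, 1, 4, 2, 4, 6, 1, 3, 1, 7, 7, 1, 3, 5, 3, 1, 5, 1, 4, 4, 1], [6, 6, 0, 2, 0, 7, 0, 4, 2, 4, 0, 4, 2, 6, 1, 3, 1, 7, 7, 0, 4, 3, 1, 5, 0, 5, 0, 3, 4, 3], [6, 1, 2, 2, 4, 0, 2, 4, 7, 4, 0, 3, 4, 0, 4, 1, 3, 4, 4], [6, 1, 3, 4, 3, 0, 0, 4, 7, 4, 0, 3, 4, 0, 4, 1, 3, 4, 4],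 [6, 1, 2, 4, 0, 3, 0, 2, 4, 2, 7, 4, 0, 3, 4, 0, 4, 1, 3, 4, 4], [6, 2, 5, 2, 0, 2, 4, 3, 4, 1, 3, 7, 5, 5, 0, 5, 0, 0, 5, 5, 3, 1, 3, 1], [6, 3, 5, 3, 0, 0, 4, 3, 4, 1, 3, 7, 5, 5, 0, 5, 0, 0, 5, 5, 3, 1, 3, 1], [6, 0, 3, 5, 3, 0, 0, 5, 1, 3, 1, 7, 5, 0, 4, 1, 2, 5, 1], [6, 3, 4, 0, 5, 2, 1, 5, 2, 7, 2, 0, 4, 4, 1, 2, 1, 4, 2, 4], [6, 0, 6, 5, 5, 0, 4, 0, 4, 3, 7, 1, 7, 3, 1, 5, 5, 0, 5, 5, 1, 2], [6, 4, 2, 0, 3, 0, 5, 2, 0, 7, 3, 1, 5, 3, 5, 1, 2], [6, 1, 4, 0, 3, 3, 1, 3, 7, 5, 1, 3, 4, 3, 1, 4, 4, 1, 2], [6, 2, 0, 2, 2, 1, 5, 0, 7, 3, 0, 5, 5, 0, 2, 5, 2, 0, 4]]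

/-- the subgroup generator words -/
def subL : List (List ℕ) := [[0], [2], [4]]

/-- the seed relators with their twists -/
def seedL : List (List ℕ × List ℤ) := [([0, 0, 0, 0, 0, 0, 0, 0, 0, 0, 0, 0, 0, 0, 0, 0, 0, 0, 0, 0, 0, 0, 0], [(.ofNat 0), (.ofNat 0), (.ofNat 0), (.ofNat 0), (.ofNat 0), (.ofNat 0)]), ([2, 2, 2, 2, 2, 2, 2, 2, 2, 2, 2], [(.ofNat 0), (.ofNat 0), (.ofNat 0), (.ofNat 0), (.ofNat 0), (.ofNat 0)]), ([4, 4, 4, 4, 4], [(.ofNat 0), (.ofNat 0), (.ofNat 0), (.ofNat 0), (.ofNat 0), (.ofNat 0)]), ([0, 0, 3, 1, 2], [(.ofNat 0), (.ofNat 0), (.ofNat 0), (.ofNat 0), (.ofNat 0), (.ofNat 0)]), ([2, 2, 2, 5, 3, 4], [(.ofNat 0), (.ofNat 0), (.ofNat 0), (.ofNat 0), (.ofNat 0), (.ofNat 0)]), ([2, 2, 2, 2, 4, 3,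 5], [(.ofNat 0), (.ofNat 0), (.ofNat 0), (.ofNat 0), (.ofNat 0), (.ofNat 0)]), ([2, 2, 2, 4, 2, 2, 5], [(.ofNat 0), (.ofNat 0), (.ofNat 0), (.ofNat 0), (.ofNat 0), (.ofNat 0)]), ([2, 2, 5, 5, 2, 4, 4], [(.ofNat 0), (.ofNat 0), (.ofNat 0), (.ofNat 0), (.ofNat 0), (.ofNat 0)]), ([2, 4, 2, 4, 3, 5, 5], [(.ofNat 0), (.ofNat 0), (.ofNat 0), (.ofNat 0), (.ofNat 0), (.ofNat 0)]), ([2, 4, 4, 3, 5, 2, 5], [(.ofNat 0), (.ofNat 0), (.ofNat 0), (.ofNat 0), (.ofNat 0), (.ofNat 0)]), ([0, 0, 0, 0, 3, 1, 1, 2], [(.ofNat 0), (.ofNat 0), (.ofNat 0), (.ofNat 0), (.ofNat 0), (.ofNat 0)]), ([0, 0, 3, 0, 3, 1, 2, 2], [(.ofNat 0), (.ofNat 0), (.ofNat 0), (.ofNat 0), (.ofNat 0), (.ofNat 0)]), ([0, 0, 3, 3, 1, 2, 0, 2], [(.ofNat 0), (.ofNat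 0), (.ofNat 0), (.ofNat 0), (.ofNat 0), (.ofNat 0)]), ([0, 2, 0, 3, 1, 2, 1, 3], [(.ofNat 0), (.ofNat 0), (.ofNat 0), (.ofNat 0), (.ofNat 0), (.ofNat 0)]), ([2, 2, 4, 2, 4, 2, 5, 5], [(.ofNat 0), (.ofNat 0), (.ofNat 0), (.ofNat 0), (.ofNat 0), (.ofNat 0)]), ([2, 2, 4, 4, 2, 5, 2, 5], [(.ofNat 0), (.ofNat 0), (.ofNat 0), (.ofNat 0), (.ofNat 0), (.ofNat 0)]), ([2, 2, 4, 4, 4, 2, 4, 4], [(.ofNat 0), (.ofNat 0), (.ofNat 0), (.ofNat 0), (.ofNat 0), (.ofNat 0)]), ([2, 2, 5, 5, 2, 5, 5, 5], [(.ofNat 0), (.ofNat 0), (.ofNat 0), (.ofNat 0), (.ofNat 0), (.ofNat 0)]), ([2, 4, 2, 4, 3, 4, 4, 4], [(.ofNat 0), (.ofNat 0), (.ofNat 0), (.ofNat 0), (.ofNat 0), (.ofNat 0)]), ([2, 4, 2, 5, 3, 4, 3, 5], [(.ofNat 0), (.ofNat 0), (.ofNat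 0), (.ofNat 0), (.ofNat 0), (.ofNat 0)]), ([2, 4, 4, 4, 3, 4, 3, 4], [(.ofNat 0), (.ofNat 0), (.ofNat 0), (.ofNat 0), (.ofNat 0), (.ofNat 0)]), ([0, 0, 2, 2, 5, 3, 4, 1, 2], [(.ofNat 0), (.ofNat 0), (.ofNat 0), (.ofNat 0), (.ofNat 0), (.ofNat 0)]), ([0, 0, 2, 5, 3, 4, 2, 1, 2], [(.ofNat 0), (.ofNat 0), (.ofNat 0), (.ofNat 0), (.ofNat 0), (.ofNat 0)]), ([0, 0, 3, 1, 3, 3, 5, 2, 4], [(.ofNat 0), (.ofNat 0), (.ofNat 0), (.ofNat 0), (.ofNat 0), (.ofNat 0)]), ([0, 0, 3, 1, 3, 5, 2, 4, 3], [(.ofNat 0), (.ofNat 0), (.ofNat 0), (.ofNat 0), (.ofNat 0), (.ofNat 0)]), ([0, 0, 3, 1, 4, 2, 2, 2, 5], [(.ofNat 0), (.ofNat 0), (.ofNat 0), (.ofNat 0), (.ofNat 0), (.ofNat 0)]), ([0, 0, 3, 1, 5, 2, 4, 3, 3], [(.ofNat 0), (.ofNat 0),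 (.ofNat 0), (.ofNat 0), (.ofNat 0), (.ofNat 0)]), ([0, 0, 4, 3, 3, 3, 5, 1, 2], [(.ofNat 0), (.ofNat 0), (.ofNat 0), (.ofNat 0), (.ofNat 0), (.ofNat 0)]), ([0, 0, 5, 3, 4, 2, 2, 1, 2], [(.ofNat 0), (.ofNat 0), (.ofNat 0), (.ofNat 0), (.ofNat 0), (.ofNat 0)]), ([2, 2, 4, 2, 5, 2, 4, 2, 5], [(.ofNat 0), (.ofNat 0), (.ofNat 0), (.ofNat 0), (.ofNat 0), (.ofNat 0)]), ([2, 2, 4, 3, 4, 3, 5, 3, 5], [(.ofNat 0), (.ofNat 0), (.ofNat 0), (.ofNat 0), (.ofNat 0), (.ofNat 0)]), ([2, 4, 2, 4, 4, 2, 4, 3, 4], [(.ofNat 0), (.ofNat 0), (.ofNat 0), (.ofNat 0), (.ofNat 0), (.ofNat 0)]), ([2, 4, 3, 4, 3, 4, 4, 3, 4], [(.ofNat 0), (.ofNat 0), (.ofNat 0), (.ofNat 0), (.ofNat 0), (.ofNat 0)]), ([0, 0, 0, 2, 2, 2, 1, 3, 3, 3], [(.ofNat 0),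 (.ofNat 0), (.ofNat 0), (.ofNat 0), (.ofNat 0), (.ofNat 0)]), ([0, 0, 0, 2, 2, 2, 1, 5, 3, 4], [(.ofNat 0), (.ofNat 0), (.ofNat 0), (.ofNat 0), (.ofNat 0), (.ofNat 0)]), ([0, 0, 0, 5, 2, 4, 1, 3, 3, 3], [(.ofNat 0), (.ofNat 0), (.ofNat 0), (.ofNat 0), (.ofNat 0), (.ofNat 0)]), ([0, 0, 0, 5, 2, 4, 1, 5, 3, 4], [(.ofNat 0), (.ofNat 0), (.ofNat 0), (.ofNat 0), (.ofNat 0), (.ofNat 0)]), ([0, 0, 2, 2, 2, 4, 3, 5, 1, 2], [(.ofNat 0), (.ofNat 0), (.ofNat 0), (.ofNat 0), (.ofNat 0), (.ofNat 0)]), ([0, 0, 2, 2, 4, 2, 2, 5, 1, 2], [(.ofNat 0), (.ofNat 0), (.ofNat 0), (.ofNat 0), (.ofNat 0), (.ofNat 0)]), ([0, 0, 2, 2, 4, 3, 5, 2, 1, 2], [(.ofNat 0), (.ofNat 0), (.ofNat 0), (.ofNat 0), (.ofNat 0), (.ofNat 0)]), ([0, 0, 2, 4,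 2, 2, 5, 2, 1, 2], [(.ofNat 0), (.ofNat 0), (.ofNat 0), (.ofNat 0), (.ofNat 0), (.ofNat 0)]), ([0, 0, 2, 4, 3, 5, 2, 2, 1, 2], [(.ofNat 0), (.ofNat 0), (.ofNat 0), (.ofNat 0), (.ofNat 0), (.ofNat 0)]), ([0, 0, 2, 5, 2, 2, 2, 4, 1, 2], [(.ofNat 0), (.ofNat 0), (.ofNat 0), (.ofNat 0), (.ofNat 0), (.ofNat 0)]), ([0, 0, 2, 5, 5, 2, 4, 4, 1, 2], [(.ofNat 0), (.ofNat 0), (.ofNat 0), (.ofNat 0), (.ofNat 0), (.ofNat 0)]), ([0, 0, 3, 1, 3, 3, 3, 4, 2, 5], [(.ofNat 0), (.ofNat 0), (.ofNat 0), (.ofNat 0), (.ofNat 0), (.ofNat 0)]), ([0, 0, 3, 1, 3, 3, 4, 2, 5, 3], [(.ofNat 0), (.ofNat 0), (.ofNat 0), (.ofNat 0), (.ofNat 0), (.ofNat 0)]), ([0, 0, 3, 1, 3, 4, 2, 5, 3, 3], [(.ofNat 0), (.ofNat 0), (.ofNat 0), (.ofNat 0), (.ofNat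 0), (.ofNat 0)]), ([0, 0, 3, 1, 3, 4, 3, 3, 5, 3], [(.ofNat 0), (.ofNat 0), (.ofNat 0), (.ofNat 0), (.ofNat 0), (.ofNat 0)]), ([0, 0, 3, 1, 3, 5, 3, 3, 3, 4], [(.ofNat 0), (.ofNat 0), (.ofNat 0), (.ofNat 0), (.ofNat 0), (.ofNat 0)]), ([0, 0, 3, 1, 3, 5, 5, 3, 4, 4], [(.ofNat 0), (.ofNat 0), (.ofNat 0), (.ofNat 0), (.ofNat 0), (.ofNat 0)]), ([0, 0, 3, 1, 4, 3, 3, 5, 3, 3], [(.ofNat 0), (.ofNat 0), (.ofNat 0), (.ofNat 0), (.ofNat 0), (.ofNat 0)]), ([0, 0, 3, 1, 4, 3, 4, 2, 5, 5], [(.ofNat 0), (.ofNat 0), (.ofNat 0), (.ofNat 0), (.ofNat 0), (.ofNat 0)]), ([0, 0, 3, 1, 4, 4, 2, 5, 3, 5], [(.ofNat 0), (.ofNat 0), (.ofNat 0), (.ofNat 0), (.ofNat 0), (.ofNat 0)]), ([0, 0, 3, 1, 4, 4, 3, 3, 5, 5], [(.ofNat 0), (.ofNat 0),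 (.ofNat 0), (.ofNat 0), (.ofNat 0), (.ofNat 0)]), ([0, 0, 3, 1, 5, 2, 2, 2, 2, 4], [(.ofNat 0), (.ofNat 0), (.ofNat 0), (.ofNat 0), (.ofNat 0), (.ofNat 0)]), ([0, 0, 3, 1, 5, 2, 5, 2, 4, 4], [(.ofNat 0), (.ofNat 0), (.ofNat 0), (.ofNat 0), (.ofNat 0), (.ofNat 0)]), ([0, 0, 3, 1, 5, 3, 3, 3, 4, 3], [(.ofNat 0), (.ofNat 0), (.ofNat 0), (.ofNat 0), (.ofNat 0), (.ofNat 0)]), ([0, 0, 3, 1, 5, 3, 4, 4, 2, 5], [(.ofNat 0), (.ofNat 0), (.ofNat 0), (.ofNat 0), (.ofNat 0), (.ofNat 0)]), ([0, 0, 3, 1, 5, 5, 2, 4, 2, 4], [(.ofNat 0), (.ofNat 0), (.ofNat 0), (.ofNat 0), (.ofNat 0), (.ofNat 0)]), ([0, 0, 3, 1, 5, 5, 3, 4, 4, 3], [(.ofNat 0), (.ofNat 0), (.ofNat 0), (.ofNat 0), (.ofNat 0), (.ofNat 0)]), ([0, 0, 4, 2, 4, 3, 5, 5,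 1, 2], [(.ofNat 0), (.ofNat 0), (.ofNat 0), (.ofNat 0), (.ofNat 0), (.ofNat 0)]), ([0, 0, 4, 3, 5, 2, 2, 2, 1, 2], [(.ofNat 0), (.ofNat 0), (.ofNat 0), (.ofNat 0), (.ofNat 0), (.ofNat 0)]), ([0, 0, 4, 3, 5, 5, 2, 4, 1, 2], [(.ofNat 0), (.ofNat 0), (.ofNat 0), (.ofNat 0), (.ofNat 0), (.ofNat 0)]), ([0, 0, 4, 4, 2, 2, 5, 5, 1, 2], [(.ofNat 0), (.ofNat 0), (.ofNat 0), (.ofNat 0), (.ofNat 0), (.ofNat 0)]), ([0, 0, 4, 4, 3, 5, 2, 5, 1, 2], [(.ofNat 0), (.ofNat 0), (.ofNat 0), (.ofNat 0), (.ofNat 0), (.ofNat 0)]), ([0, 0, 5, 2, 2, 2, 4, 2, 1, 2], [(.ofNat 0), (.ofNat 0), (.ofNat 0), (.ofNat 0), (.ofNat 0), (.ofNat 0)]), ([0, 0, 5, 3, 3, 3, 3, 4, 1, 2], [(.ofNat 0), (.ofNat 0), (.ofNat 0), (.ofNat 0), (.ofNat 0), (.ofNat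 0)]), ([0, 0, 5, 3, 5, 3, 4, 4, 1, 2], [(.ofNat 0), (.ofNat 0), (.ofNat 0), (.ofNat 0), (.ofNat 0), (.ofNat 0)]), ([0, 0, 5, 5, 2, 4, 4, 2, 1, 2], [(.ofNat 0), (.ofNat 0), (.ofNat 0), (.ofNat 0), (.ofNat 0), (.ofNat 0)]), ([0, 0, 5, 5, 3, 4, 3, 4, 1, 2], [(.ofNat 0), (.ofNat 0), (.ofNat 0), (.ofNat 0), (.ofNat 0), (.ofNat 0)]), ([0, 2, 0, 2, 2, 2, 1, 4, 3, 5], [(.ofNat 0), (.ofNat 0), (.ofNat 0), (.ofNat 0), (.ofNat 0), (.ofNat 0)]), ([0, 2, 0, 3, 3, 1, 2, 2, 0, 3], [(.ofNat 0), (.ofNat 0), (.ofNat 0), (.ofNat 0), (.ofNat 0), (.ofNat 0)]), ([0, 2, 0, 5, 2, 4, 1, 4, 3, 5], [(.ofNat 0), (.ofNat 0), (.ofNat 0), (.ofNat 0), (.ofNat 0), (.ofNat 0)]), ([0, 3, 0, 4, 2, 5, 1, 3, 3, 3], [(.ofNat 0), (.ofNat 0), (.ofNat 0),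 (.ofNat 0), (.ofNat 0), (.ofNat 0)]), ([0, 3, 0, 4, 2, 5, 1, 5, 3, 4], [(.ofNat 0), (.ofNat 0), (.ofNat 0), (.ofNat 0), (.ofNat 0), (.ofNat 0)]), ([0, 0, 0, 0, 0, 0, 2, 2, 1, 3, 3], [(.ofNat 0), (.ofNat 0), (.ofNat 0), (.ofNat 0), (.ofNat 0), (.ofNat 0)]), ([0, 0, 0, 0, 0, 2, 0, 2, 0, 3, 3], [(.ofNat 0), (.ofNat 0), (.ofNat 0), (.ofNat 0), (.ofNat 0), (.ofNat 0)]), ([0, 0, 0, 0, 0, 2, 2, 0, 3, 0, 3], [(.ofNat 0), (.ofNat 0), (.ofNat 0), (.ofNat 0), (.ofNat 0), (.ofNat 0)]), ([0, 0, 0, 0, 2, 5, 3, 4, 1, 2, 2], [(.ofNat 0), (.ofNat 0), (.ofNat 0), (.ofNat 0), (.ofNat 0), (.ofNat 0)]), ([0, 0, 0, 0, 3, 3, 1, 3, 5, 2, 4], [(.ofNat 0), (.ofNat 0), (.ofNat 0), (.ofNat 0), (.ofNat 0), (.ofNat 0)]), ([0, 0, 0, 0, 3, 3, 1,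 5, 2, 4, 3], [(.ofNat 0), (.ofNat 0), (.ofNat 0), (.ofNat 0), (.ofNat 0), (.ofNat 0)]), ([0, 0, 0, 0, 5, 3, 4, 2, 1, 2, 2], [(.ofNat 0), (.ofNat 0), (.ofNat 0), (.ofNat 0), (.ofNat 0), (.ofNat 0)]), ([0, 0, 0, 2, 0, 0, 3, 3, 1, 1, 2], [(.ofNat 0), (.ofNat 0), (.ofNat 0), (.ofNat 0), (.ofNat 0), (.ofNat 0)]), ([0, 0, 0, 2, 2, 1, 2, 0, 3, 3, 3], [(.ofNat 0), (.ofNat 0), (.ofNat 0), (.ofNat 0), (.ofNat 0), (.ofNat 0)]), ([0, 0, 0, 2, 2, 2, 0, 3, 1, 3, 3], [(.ofNat 0), (.ofNat 0), (.ofNat 0), (.ofNat 0), (.ofNat 0), (.ofNat 0)]), ([0, 0, 0, 2, 2, 2, 1, 2, 4, 3, 5], [(.ofNat 0), (.ofNat 0), (.ofNat 0), (.ofNat 0), (.ofNat 0), (.ofNat 0)]), ([0, 0, 0, 2, 2, 2, 1, 4, 2, 2, 5], [(.ofNat 0), (.ofNat 0), (.ofNat 0), (.ofNat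 0), (.ofNat 0), (.ofNat 0)]), ([0, 0, 0, 4, 2, 5, 1, 1, 4, 3, 5], [(.ofNat 0), (.ofNat 0), (.ofNat 0), (.ofNat 0), (.ofNat 0), (.ofNat 0)]), ([0, 0, 0, 4, 2, 5, 3, 1, 3, 3, 3], [(.ofNat 0), (.ofNat 0), (.ofNat 0), (.ofNat 0), (.ofNat 0), (.ofNat 0)]), ([0, 0, 0, 4, 2, 5, 3, 1, 5, 3, 4], [(.ofNat 0), (.ofNat 0), (.ofNat 0), (.ofNat 0), (.ofNat 0), (.ofNat 0)]), ([0, 0, 0, 4, 3, 3, 5, 1, 3, 3, 3], [(.ofNat 0), (.ofNat 0), (.ofNat 0), (.ofNat 0), (.ofNat 0), (.ofNat 0)]), ([0, 0, 0, 4, 3, 3, 5, 1, 5, 3, 4], [(.ofNat 0), (.ofNat 0), (.ofNat 0), (.ofNat 0), (.ofNat 0), (.ofNat 0)]), ([0, 0, 0, 5, 2, 4, 1, 2, 4, 3, 5], [(.ofNat 0), (.ofNat 0), (.ofNat 0), (.ofNat 0), (.ofNat 0), (.ofNat 0)]), ([0, 0, 0, 5, 2, 4, 1, 4, 2,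 2, 5], [(.ofNat 0), (.ofNat 0), (.ofNat 0), (.ofNat 0), (.ofNat 0), (.ofNat 0)]), ([0, 0, 2, 0, 0, 2, 2, 1, 5, 3, 4], [(.ofNat 0), (.ofNat 0), (.ofNat 0), (.ofNat 0), (.ofNat 0), (.ofNat 0)]), ([0, 0, 2, 0, 2, 0, 2, 0, 3, 3, 3], [(.ofNat 0), (.ofNat 0), (.ofNat 0), (.ofNat 0), (.ofNat 0), (.ofNat 0)]), ([0, 0, 2, 0, 2, 0, 2, 0, 5, 3, 4], [(.ofNat 0), (.ofNat 0), (.ofNat 0), (.ofNat 0), (.ofNat 0), (.ofNat 0)]), ([0, 0, 2, 0, 2, 2, 0, 3, 0, 3, 3], [(.ofNat 0), (.ofNat 0), (.ofNat 0), (.ofNat 0), (.ofNat 0), (.ofNat 0)]), ([0, 0, 2, 0, 2, 2, 1, 3, 3, 0, 3], [(.ofNat 0), (.ofNat 0), (.ofNat 0), (.ofNat 0), (.ofNat 0), (.ofNat 0)]), ([0, 0, 2, 0, 3, 3, 1, 2, 2, 1, 3], [(.ofNat 0), (.ofNat 0), (.ofNat 0), (.ofNat 0), (.ofNat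 0), (.ofNat 0)]), ([0, 0, 2, 1, 2, 2, 2, 1, 4, 3, 5], [(.ofNat 0), (.ofNat 0), (.ofNat 0), (.ofNat 0), (.ofNat 0), (.ofNat 0)]), ([0, 0, 2, 1, 3, 3, 1, 2, 2, 0, 3], [(.ofNat 0), (.ofNat 0), (.ofNat 0), (.ofNat 0), (.ofNat 0), (.ofNat 0)]), ([0, 0, 2, 2, 0, 2, 0, 3, 3, 0, 3], [(.ofNat 0), (.ofNat 0), (.ofNat 0), (.ofNat 0), (.ofNat 0), (.ofNat 0)]), ([0, 0, 2, 2, 1, 4, 3, 5, 0, 2, 2], [(.ofNat 0), (.ofNat 0), (.ofNat 0), (.ofNat 0), (.ofNat 0), (.ofNat 0)]), ([0, 0, 2, 2, 2, 0, 3, 0, 3, 0, 3], [(.ofNat 0), (.ofNat 0), (.ofNat 0), (.ofNat 0), (.ofNat 0), (.ofNat 0)]), ([0, 0, 2, 4, 4, 2, 5, 2, 5, 1, 2], [(.ofNat 0), (.ofNat 0), (.ofNat 0), (.ofNat 0), (.ofNat 0), (.ofNat 0)]), ([0, 0, 3, 0, 0, 5, 2, 4, 1, 3, 3], [(.ofNat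 0), (.ofNat 0), (.ofNat 0), (.ofNat 0), (.ofNat 0), (.ofNat 0)]), ([0, 0, 3, 0, 3, 0, 3, 1, 2, 2, 2], [(.ofNat 0), (.ofNat 0), (.ofNat 0), (.ofNat 0), (.ofNat 0), (.ofNat 0)]), ([0, 0, 3, 0, 3, 3, 1, 2, 0, 2, 2], [(.ofNat 0), (.ofNat 0), (.ofNat 0), (.ofNat 0), (.ofNat 0), (.ofNat 0)]), ([0, 0, 3, 1, 3, 4, 4, 3, 5, 3, 5], [(.ofNat 0), (.ofNat 0), (.ofNat 0), (.ofNat 0), (.ofNat 0), (.ofNat 0)]), ([0, 0, 3, 1, 3, 4, 4, 4, 3, 4, 4], [(.ofNat 0), (.ofNat 0), (.ofNat 0), (.ofNat 0), (.ofNat 0), (.ofNat 0)]), ([0, 0, 3, 1, 4, 2, 4, 4, 4, 3, 4], [(.ofNat 0), (.ofNat 0), (.ofNat 0), (.ofNat 0), (.ofNat 0), (.ofNat 0)]), ([0, 0, 3, 1, 4, 2, 5, 2, 4, 3, 5], [(.ofNat 0), (.ofNat 0), (.ofNat 0), (.ofNat 0), (.ofNat 0), (.ofNat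 0)]), ([0, 0, 3, 1, 4, 3, 4, 3, 5, 5, 3], [(.ofNat 0), (.ofNat 0), (.ofNat 0), (.ofNat 0), (.ofNat 0), (.ofNat 0)]), ([0, 0, 3, 1, 4, 3, 5, 2, 4, 2, 5], [(.ofNat 0), (.ofNat 0), (.ofNat 0), (.ofNat 0), (.ofNat 0), (.ofNat 0)]), ([0, 0, 3, 1, 4, 3, 5, 5, 3, 3, 4], [(.ofNat 0), (.ofNat 0), (.ofNat 0), (.ofNat 0), (.ofNat 0), (.ofNat 0)]), ([0, 0, 3, 1, 5, 3, 5, 3, 3, 4, 4], [(.ofNat 0), (.ofNat 0), (.ofNat 0), (.ofNat 0), (.ofNat 0), (.ofNat 0)]), ([0, 0, 3, 1, 5, 3, 5, 5, 5, 2, 5], [(.ofNat 0), (.ofNat 0), (.ofNat 0), (.ofNat 0), (.ofNat 0), (.ofNat 0)]), ([0, 0, 3, 1, 5, 5, 3, 3, 4, 3, 4], [(.ofNat 0), (.ofNat 0), (.ofNat 0), (.ofNat 0), (.ofNat 0), (.ofNat 0)]), ([0, 0, 3, 3, 0, 3, 1, 2, 2, 0, 2], [(.ofNat 0), (.ofNat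 0), (.ofNat 0), (.ofNat 0), (.ofNat 0), (.ofNat 0)]), ([0, 0, 3, 3, 0, 4, 2, 5, 1, 3, 3], [(.ofNat 0), (.ofNat 0), (.ofNat 0), (.ofNat 0), (.ofNat 0), (.ofNat 0)]), ([0, 0, 4, 2, 4, 2, 5, 5, 2, 1, 2], [(.ofNat 0), (.ofNat 0), (.ofNat 0), (.ofNat 0), (.ofNat 0), (.ofNat 0)]), ([0, 0, 4, 2, 5, 1, 3, 3, 3, 1, 3], [(.ofNat 0), (.ofNat 0), (.ofNat 0), (.ofNat 0), (.ofNat 0), (.ofNat 0)]), ([0, 0, 4, 2, 5, 3, 4, 3, 5, 1, 2], [(.ofNat 0), (.ofNat 0), (.ofNat 0), (.ofNat 0), (.ofNat 0), (.ofNat 0)]), ([0, 0, 4, 3, 4, 4, 4, 2, 4, 1, 2], [(.ofNat 0), (.ofNat 0), (.ofNat 0), (.ofNat 0), (.ofNat 0), (.ofNat 0)]), ([0, 0, 4, 3, 5, 3, 4, 2, 5, 1, 2], [(.ofNat 0), (.ofNat 0), (.ofNat 0), (.ofNat 0), (.ofNat 0), (.ofNat 0)]), ([0,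 0, 5, 2, 2, 4, 4, 2, 5, 1, 2], [(.ofNat 0), (.ofNat 0), (.ofNat 0), (.ofNat 0), (.ofNat 0), (.ofNat 0)]), ([0, 0, 5, 2, 4, 0, 3, 0, 3, 0, 3], [(.ofNat 0), (.ofNat 0), (.ofNat 0), (.ofNat 0), (.ofNat 0), (.ofNat 0)]), ([0, 0, 5, 2, 5, 2, 2, 4, 4, 1, 2], [(.ofNat 0), (.ofNat 0), (.ofNat 0), (.ofNat 0), (.ofNat 0), (.ofNat 0)]), ([0, 0, 5, 2, 5, 5, 5, 3, 5, 1, 2], [(.ofNat 0), (.ofNat 0), (.ofNat 0), (.ofNat 0), (.ofNat 0), (.ofNat 0)]), ([0, 0, 5, 5, 2, 2, 4, 2, 4, 1, 2], [(.ofNat 0), (.ofNat 0), (.ofNat 0), (.ofNat 0), (.ofNat 0), (.ofNat 0)]), ([0, 0, 5, 5, 2, 5, 5, 5, 2, 1, 2], [(.ofNat 0), (.ofNat 0), (.ofNat 0), (.ofNat 0), (.ofNat 0), (.ofNat 0)]), ([0, 2, 0, 2, 0, 4, 3, 5, 0, 2, 2], [(.ofNat 0), (.ofNat 0), (.ofNat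 0), (.ofNat 0), (.ofNat 0), (.ofNat 0)]), ([0, 2, 0, 2, 2, 1, 2, 0, 4, 3, 5], [(.ofNat 0), (.ofNat 0), (.ofNat 0), (.ofNat 0), (.ofNat 0), (.ofNat 0)]), ([0, 2, 0, 2, 2, 2, 1, 3, 5, 3, 4], [(.ofNat 0), (.ofNat 0), (.ofNat 0), (.ofNat 0), (.ofNat 0), (.ofNat 0)]), ([0, 2, 0, 3, 4, 2, 5, 1, 4, 3, 5], [(.ofNat 0), (.ofNat 0), (.ofNat 0), (.ofNat 0), (.ofNat 0), (.ofNat 0)]), ([0, 2, 0, 4, 2, 5, 3, 1, 4, 3, 5], [(.ofNat 0), (.ofNat 0), (.ofNat 0), (.ofNat 0), (.ofNat 0), (.ofNat 0)]), ([0, 2, 0, 4, 3, 3, 5, 1, 4, 3, 5], [(.ofNat 0), (.ofNat 0), (.ofNat 0), (.ofNat 0), (.ofNat 0), (.ofNat 0)]), ([0, 2, 0, 5, 2, 4, 1, 3, 5, 3, 4], [(.ofNat 0), (.ofNat 0), (.ofNat 0), (.ofNat 0), (.ofNat 0), (.ofNat 0)]), ([0, 2, 1, 4, 3,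 5, 1, 2, 1, 2, 2], [(.ofNat 0), (.ofNat 0), (.ofNat 0), (.ofNat 0), (.ofNat 0), (.ofNat 0)]), ([0, 3, 0, 3, 0, 3, 3, 0, 4, 2, 5], [(.ofNat 0), (.ofNat 0), (.ofNat 0), (.ofNat 0), (.ofNat 0), (.ofNat 0)]), ([0, 3, 0, 4, 2, 5, 1, 2, 4, 3, 5], [(.ofNat 0), (.ofNat 0), (.ofNat 0), (.ofNat 0), (.ofNat 0), (.ofNat 0)]), ([0, 3, 0, 4, 2, 5, 1, 4, 2, 2, 5], [(.ofNat 0), (.ofNat 0), (.ofNat 0), (.ofNat 0), (.ofNat 0), (.ofNat 0)]), ([0, 3, 0, 4, 2, 5, 1, 4, 3, 5, 2], [(.ofNat 0), (.ofNat 0), (.ofNat 0), (.ofNat 0), (.ofNat 0), (.ofNat 0)]), ([0, 3, 0, 5, 2, 4, 2, 1, 3, 3, 3], [(.ofNat 0), (.ofNat 0), (.ofNat 0), (.ofNat 0), (.ofNat 0), (.ofNat 0)]), ([0, 3, 0, 5, 2, 4, 2, 1, 5, 3, 4], [(.ofNat 0), (.ofNat 0), (.ofNat 0), (.ofNat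 0), (.ofNat 0), (.ofNat 0)]), ([0, 0, 0, 0, 2, 0, 0, 0, 2, 0, 3, 3], [(.ofNat 0), (.ofNat 0), (.ofNat 0), (.ofNat 0), (.ofNat 0), (.ofNat 0)]), ([0, 0, 0, 0, 2, 2, 0, 3, 0, 0, 0, 3], [(.ofNat 0), (.ofNat 0), (.ofNat 0), (.ofNat 0), (.ofNat 0), (.ofNat 0)]), ([0, 0, 0, 0, 2, 4, 2, 2, 5, 1, 2, 2], [(.ofNat 0), (.ofNat 0), (.ofNat 0), (.ofNat 0), (.ofNat 0), (.ofNat 0)]), ([0, 0, 0, 0, 2, 4, 3, 5, 2, 1, 2, 2], [(.ofNat 0), (.ofNat 0), (.ofNat 0), (.ofNat 0), (.ofNat 0), (.ofNat 0)]), ([0, 0, 0, 0, 3, 1, 1, 4, 2, 2, 2, 5], [(.ofNat 0), (.ofNat 0), (.ofNat 0), (.ofNat 0), (.ofNat 0), (.ofNat 0)]), ([0, 0, 0, 0, 3, 3, 1, 3, 3, 4, 2, 5], [(.ofNat 0), (.ofNat 0), (.ofNat 0), (.ofNat 0), (.ofNat 0), (.ofNat 0)]), ([0, 0, 0,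 0, 3, 3, 1, 3, 4, 2, 5, 3], [(.ofNat 0), (.ofNat 0), (.ofNat 0), (.ofNat 0), (.ofNat 0), (.ofNat 0)]), ([0, 0, 0, 0, 3, 3, 1, 3, 4, 3, 3, 5], [(.ofNat 0), (.ofNat 0), (.ofNat 0), (.ofNat 0), (.ofNat 0), (.ofNat 0)]), ([0, 0, 0, 0, 3, 3, 1, 4, 2, 5, 3, 3], [(.ofNat 0), (.ofNat 0), (.ofNat 0), (.ofNat 0), (.ofNat 0), (.ofNat 0)]), ([0, 0, 0, 0, 3, 3, 1, 4, 3, 3, 5, 3], [(.ofNat 0), (.ofNat 0), (.ofNat 0), (.ofNat 0), (.ofNat 0), (.ofNat 0)]), ([0, 0, 0, 0, 3, 3, 1, 5, 3, 3, 3, 4], [(.ofNat 0), (.ofNat 0), (.ofNat 0), (.ofNat 0), (.ofNat 0), (.ofNat 0)]), ([0, 0, 0, 0, 3, 3, 1, 5, 5, 3, 4, 4], [(.ofNat 0), (.ofNat 0), (.ofNat 0), (.ofNat 0), (.ofNat 0), (.ofNat 0)]), ([0, 0, 0, 0, 4, 2, 2, 5, 2, 1, 2, 2], [(.ofNat 0),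 (.ofNat 0), (.ofNat 0), (.ofNat 0), (.ofNat 0), (.ofNat 0)]), ([0, 0, 0, 0, 4, 3, 3, 3, 5, 1, 1, 2], [(.ofNat 0), (.ofNat 0), (.ofNat 0), (.ofNat 0), (.ofNat 0), (.ofNat 0)]), ([0, 0, 0, 0, 4, 3, 5, 2, 2, 1, 2, 2], [(.ofNat 0), (.ofNat 0), (.ofNat 0), (.ofNat 0), (.ofNat 0), (.ofNat 0)]), ([0, 0, 0, 0, 5, 2, 2, 2, 4, 1, 2, 2], [(.ofNat 0), (.ofNat 0), (.ofNat 0), (.ofNat 0), (.ofNat 0), (.ofNat 0)]), ([0, 0, 0, 0, 5, 5, 2, 4, 4, 1, 2, 2], [(.ofNat 0), (.ofNat 0), (.ofNat 0), (.ofNat 0), (.ofNat 0), (.ofNat 0)]), ([0, 0, 0, 2, 0, 4, 3, 5, 0, 2, 2, 2], [(.ofNat 0), (.ofNat 0), (.ofNat 0), (.ofNat 0), (.ofNat 0), (.ofNat 0)]), ([0, 0, 0, 2, 0, 5, 3, 4, 0, 0, 2, 2], [(.ofNat 0), (.ofNat 0), (.ofNat 0), (.ofNat 0), (.ofNat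 0), (.ofNat 0)]), ([0, 0, 0, 2, 2, 2, 1, 2, 5, 3, 4, 3], [(.ofNat 0), (.ofNat 0), (.ofNat 0), (.ofNat 0), (.ofNat 0), (.ofNat 0)]), ([0, 0, 0, 2, 5, 2, 4, 1, 1, 4, 3, 5], [(.ofNat 0), (.ofNat 0), (.ofNat 0), (.ofNat 0), (.ofNat 0), (.ofNat 0)]), ([0, 0, 0, 2, 5, 2, 4, 3, 1, 3, 3, 3], [(.ofNat 0), (.ofNat 0), (.ofNat 0), (.ofNat 0), (.ofNat 0), (.ofNat 0)]), ([0, 0, 0, 2, 5, 2, 4, 3, 1, 5, 3, 4], [(.ofNat 0), (.ofNat 0), (.ofNat 0), (.ofNat 0), (.ofNat 0), (.ofNat 0)]), ([0, 0, 0, 3, 3, 0, 0, 5, 2, 4, 0, 3], [(.ofNat 0), (.ofNat 0), (.ofNat 0), (.ofNat 0), (.ofNat 0), (.ofNat 0)]), ([0, 0, 0, 3, 3, 0, 3, 3, 0, 4, 2, 5], [(.ofNat 0), (.ofNat 0), (.ofNat 0), (.ofNat 0), (.ofNat 0), (.ofNat 0)]), ([0, 0, 0, 3, 3, 3, 0,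 4, 2, 5, 0, 3], [(.ofNat 0), (.ofNat 0), (.ofNat 0), (.ofNat 0), (.ofNat 0), (.ofNat 0)]), ([0, 0, 0, 4, 2, 5, 1, 1, 5, 3, 4, 3], [(.ofNat 0), (.ofNat 0), (.ofNat 0), (.ofNat 0), (.ofNat 0), (.ofNat 0)]), ([0, 0, 0, 4, 2, 5, 3, 1, 4, 2, 2, 5], [(.ofNat 0), (.ofNat 0), (.ofNat 0), (.ofNat 0), (.ofNat 0), (.ofNat 0)]), ([0, 0, 0, 4, 3, 3, 5, 1, 2, 4, 3, 5], [(.ofNat 0), (.ofNat 0), (.ofNat 0), (.ofNat 0), (.ofNat 0), (.ofNat 0)]), ([0, 0, 0, 4, 3, 3, 5, 1, 4, 2, 2, 5], [(.ofNat 0), (.ofNat 0), (.ofNat 0), (.ofNat 0), (.ofNat 0), (.ofNat 0)]), ([0, 0, 0, 4, 3, 5, 0, 2, 2, 0, 2, 2], [(.ofNat 0), (.ofNat 0), (.ofNat 0), (.ofNat 0), (.ofNat 0), (.ofNat 0)]), ([0, 0, 0, 5, 2, 4, 1, 2, 5, 3, 4, 3], [(.ofNat 0), (.ofNat 0),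 (.ofNat 0), (.ofNat 0), (.ofNat 0), (.ofNat 0)]), ([0, 0, 2, 0, 0, 2, 2, 1, 2, 4, 3, 5], [(.ofNat 0), (.ofNat 0), (.ofNat 0), (.ofNat 0), (.ofNat 0), (.ofNat 0)]), ([0, 0, 2, 0, 0, 2, 2, 1, 4, 2, 2, 5], [(.ofNat 0), (.ofNat 0), (.ofNat 0), (.ofNat 0), (.ofNat 0), (.ofNat 0)]), ([0, 0, 2, 0, 2, 0, 2, 0, 2, 4, 3, 5], [(.ofNat 0), (.ofNat 0), (.ofNat 0), (.ofNat 0), (.ofNat 0), (.ofNat 0)]), ([0, 0, 2, 0, 2, 0, 2, 0, 4, 2, 2, 5], [(.ofNat 0), (.ofNat 0), (.ofNat 0), (.ofNat 0), (.ofNat 0), (.ofNat 0)]), ([0, 0, 2, 1, 2, 2, 1, 2, 0, 4, 3, 5], [(.ofNat 0), (.ofNat 0), (.ofNat 0), (.ofNat 0), (.ofNat 0), (.ofNat 0)]), ([0, 0, 2, 2, 0, 4, 3, 5, 1, 1, 2, 2], [(.ofNat 0), (.ofNat 0), (.ofNat 0), (.ofNat 0), (.ofNat 0), (.ofNat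 0)]), ([0, 0, 2, 2, 1, 1, 2, 2, 1, 4, 3, 5], [(.ofNat 0), (.ofNat 0), (.ofNat 0), (.ofNat 0), (.ofNat 0), (.ofNat 0)]), ([0, 0, 2, 2, 1, 3, 5, 3, 4, 0, 2, 2], [(.ofNat 0), (.ofNat 0), (.ofNat 0), (.ofNat 0), (.ofNat 0), (.ofNat 0)]), ([0, 0, 2, 4, 2, 5, 2, 4, 2, 5, 1, 2], [(.ofNat 0), (.ofNat 0), (.ofNat 0), (.ofNat 0), (.ofNat 0), (.ofNat 0)]), ([0, 0, 2, 4, 3, 4, 3, 5, 3, 5, 1, 2], [(.ofNat 0), (.ofNat 0), (.ofNat 0), (.ofNat 0), (.ofNat 0), (.ofNat 0)]), ([0, 0, 2, 5, 0, 0, 3, 1, 4, 2, 1, 2], [(.ofNat 0), (.ofNat 0), (.ofNat 0), (.ofNat 0), (.ofNat 0), (.ofNat 0)]), ([0, 0, 2, 5, 1, 1, 3, 0, 4, 2, 1, 2], [(.ofNat 0), (.ofNat 0), (.ofNat 0), (.ofNat 0), (.ofNat 0), (.ofNat 0)]), ([0, 0, 3, 0, 0, 4, 2, 5, 3, 1, 3,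 3], [(.ofNat 0), (.ofNat 0), (.ofNat 0), (.ofNat 0), (.ofNat 0), (.ofNat 0)]), ([0, 0, 3, 0, 0, 4, 3, 3, 5, 1, 3, 3], [(.ofNat 0), (.ofNat 0), (.ofNat 0), (.ofNat 0), (.ofNat 0), (.ofNat 0)]), ([0, 0, 3, 0, 4, 3, 3, 3, 5, 1, 2, 2], [(.ofNat 0), (.ofNat 0), (.ofNat 0), (.ofNat 0), (.ofNat 0), (.ofNat 0)]), ([0, 0, 3, 1, 3, 5, 0, 2, 1, 1, 4, 3], [(.ofNat 0), (.ofNat 0), (.ofNat 0), (.ofNat 0), (.ofNat 0), (.ofNat 0)]), ([0, 0, 3, 1, 3, 5, 1, 2, 0, 0, 4, 3], [(.ofNat 0), (.ofNat 0), (.ofNat 0), (.ofNat 0), (.ofNat 0), (.ofNat 0)]), ([0, 0, 3, 1, 4, 2, 4, 2, 4, 4, 2, 4], [(.ofNat 0), (.ofNat 0), (.ofNat 0), (.ofNat 0), (.ofNat 0), (.ofNat 0)]), ([0, 0, 3, 1, 4, 2, 4, 2, 5, 2, 5, 3], [(.ofNat 0), (.ofNat 0), (.ofNat 0),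 (.ofNat 0), (.ofNat 0), (.ofNat 0)]), ([0, 0, 3, 1, 4, 3, 5, 3, 3, 4, 3, 5], [(.ofNat 0), (.ofNat 0), (.ofNat 0), (.ofNat 0), (.ofNat 0), (.ofNat 0)]), ([0, 0, 3, 1, 4, 3, 5, 3, 4, 3, 5, 3], [(.ofNat 0), (.ofNat 0), (.ofNat 0), (.ofNat 0), (.ofNat 0), (.ofNat 0)]), ([0, 0, 3, 1, 5, 2, 5, 5, 2, 5, 2, 5], [(.ofNat 0), (.ofNat 0), (.ofNat 0), (.ofNat 0), (.ofNat 0), (.ofNat 0)]), ([0, 0, 3, 1, 5, 3, 5, 2, 2, 4, 3, 4], [(.ofNat 0), (.ofNat 0), (.ofNat 0), (.ofNat 0), (.ofNat 0), (.ofNat 0)]), ([0, 0, 3, 1, 5, 3, 5, 2, 5, 3, 5, 5], [(.ofNat 0), (.ofNat 0), (.ofNat 0), (.ofNat 0), (.ofNat 0), (.ofNat 0)]), ([0, 0, 3, 3, 0, 5, 2, 4, 2, 1, 3, 3], [(.ofNat 0), (.ofNat 0), (.ofNat 0), (.ofNat 0), (.ofNat 0), (.ofNat 0)]), ([0,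 0, 3, 3, 1, 3, 3, 5, 2, 4, 0, 2], [(.ofNat 0), (.ofNat 0), (.ofNat 0), (.ofNat 0), (.ofNat 0), (.ofNat 0)]), ([0, 0, 3, 3, 1, 4, 2, 2, 2, 5, 0, 2], [(.ofNat 0), (.ofNat 0), (.ofNat 0), (.ofNat 0), (.ofNat 0), (.ofNat 0)]), ([0, 0, 3, 4, 3, 5, 1, 2, 1, 4, 2, 5], [(.ofNat 0), (.ofNat 0), (.ofNat 0), (.ofNat 0), (.ofNat 0), (.ofNat 0)]), ([0, 0, 4, 2, 5, 0, 3, 1, 3, 3, 1, 3], [(.ofNat 0), (.ofNat 0), (.ofNat 0), (.ofNat 0), (.ofNat 0), (.ofNat 0)]), ([0, 0, 4, 2, 5, 2, 2, 4, 2, 5, 1, 2], [(.ofNat 0), (.ofNat 0), (.ofNat 0), (.ofNat 0), (.ofNat 0), (.ofNat 0)]), ([0, 0, 4, 2, 5, 3, 0, 3, 0, 3, 0, 3], [(.ofNat 0), (.ofNat 0), (.ofNat 0), (.ofNat 0), (.ofNat 0), (.ofNat 0)]), ([0, 0, 4, 3, 3, 5, 0, 3, 0, 3, 0, 3], [(.ofNat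 0), (.ofNat 0), (.ofNat 0), (.ofNat 0), (.ofNat 0), (.ofNat 0)]), ([0, 0, 4, 3, 4, 3, 4, 4, 3, 4, 1, 2], [(.ofNat 0), (.ofNat 0), (.ofNat 0), (.ofNat 0), (.ofNat 0), (.ofNat 0)]), ([0, 0, 4, 3, 5, 1, 3, 1, 2, 4, 2, 5], [(.ofNat 0), (.ofNat 0), (.ofNat 0), (.ofNat 0), (.ofNat 0), (.ofNat 0)]), ([0, 0, 4, 3, 5, 1, 3, 1, 4, 2, 5, 2], [(.ofNat 0), (.ofNat 0), (.ofNat 0), (.ofNat 0), (.ofNat 0), (.ofNat 0)]), ([0, 0, 4, 3, 5, 1, 3, 1, 5, 3, 3, 4], [(.ofNat 0), (.ofNat 0), (.ofNat 0), (.ofNat 0), (.ofNat 0), (.ofNat 0)]), ([0, 0, 4, 3, 5, 3, 1, 2, 1, 4, 2, 5], [(.ofNat 0), (.ofNat 0), (.ofNat 0), (.ofNat 0), (.ofNat 0), (.ofNat 0)]), ([0, 0, 4, 4, 2, 4, 3, 4, 2, 4, 1, 2], [(.ofNat 0), (.ofNat 0), (.ofNat 0), (.ofNat 0),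 (.ofNat 0), (.ofNat 0)]), ([0, 0, 5, 2, 2, 4, 1, 2, 1, 4, 2, 5], [(.ofNat 0), (.ofNat 0), (.ofNat 0), (.ofNat 0), (.ofNat 0), (.ofNat 0)]), ([0, 0, 5, 2, 5, 3, 3, 4, 2, 4, 1, 2], [(.ofNat 0), (.ofNat 0), (.ofNat 0), (.ofNat 0), (.ofNat 0), (.ofNat 0)]), ([0, 0, 5, 3, 5, 5, 3, 5, 3, 5, 1, 2], [(.ofNat 0), (.ofNat 0), (.ofNat 0), (.ofNat 0), (.ofNat 0), (.ofNat 0)]), ([0, 2, 0, 2, 0, 3, 5, 3, 4, 0, 2, 2], [(.ofNat 0), (.ofNat 0), (.ofNat 0), (.ofNat 0), (.ofNat 0), (.ofNat 0)]), ([0, 2, 0, 2, 2, 2, 1, 2, 5, 2, 2, 4], [(.ofNat 0), (.ofNat 0), (.ofNat 0), (.ofNat 0), (.ofNat 0), (.ofNat 0)]), ([0, 2, 0, 2, 2, 2, 1, 3, 4, 2, 2, 5], [(.ofNat 0), (.ofNat 0), (.ofNat 0), (.ofNat 0), (.ofNat 0), (.ofNat 0)]), ([0, 2, 0, 2,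 5, 2, 4, 3, 1, 4, 3, 5], [(.ofNat 0), (.ofNat 0), (.ofNat 0), (.ofNat 0), (.ofNat 0), (.ofNat 0)]), ([0, 2, 0, 2, 5, 3, 4, 1, 2, 2, 0, 3], [(.ofNat 0), (.ofNat 0), (.ofNat 0), (.ofNat 0), (.ofNat 0), (.ofNat 0)]), ([0, 2, 0, 3, 3, 0, 3, 3, 0, 2, 2, 2], [(.ofNat 0), (.ofNat 0), (.ofNat 0), (.ofNat 0), (.ofNat 0), (.ofNat 0)]), ([0, 2, 0, 3, 3, 0, 3, 3, 0, 5, 2, 4], [(.ofNat 0), (.ofNat 0), (.ofNat 0), (.ofNat 0), (.ofNat 0), (.ofNat 0)]), ([0, 2, 0, 3, 3, 1, 5, 2, 4, 3, 0, 3], [(.ofNat 0), (.ofNat 0), (.ofNat 0), (.ofNat 0), (.ofNat 0), (.ofNat 0)]), ([0, 2, 0, 3, 4, 2, 5, 1, 3, 5, 3, 4], [(.ofNat 0), (.ofNat 0), (.ofNat 0), (.ofNat 0), (.ofNat 0), (.ofNat 0)]), ([0, 2, 0, 3, 5, 2, 4, 2, 1, 4, 3, 5], [(.ofNat 0), (.ofNat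 0), (.ofNat 0), (.ofNat 0), (.ofNat 0), (.ofNat 0)]), ([0, 2, 0, 4, 2, 5, 3, 1, 3, 5, 3, 4], [(.ofNat 0), (.ofNat 0), (.ofNat 0), (.ofNat 0), (.ofNat 0), (.ofNat 0)]), ([0, 2, 0, 4, 3, 3, 5, 1, 3, 5, 3, 4], [(.ofNat 0), (.ofNat 0), (.ofNat 0), (.ofNat 0), (.ofNat 0), (.ofNat 0)]), ([0, 2, 0, 5, 2, 4, 1, 2, 5, 2, 2, 4], [(.ofNat 0), (.ofNat 0), (.ofNat 0), (.ofNat 0), (.ofNat 0), (.ofNat 0)]), ([0, 2, 0, 5, 2, 4, 1, 3, 4, 2, 2, 5], [(.ofNat 0), (.ofNat 0), (.ofNat 0), (.ofNat 0), (.ofNat 0), (.ofNat 0)]), ([0, 2, 2, 0, 2, 2, 0, 3, 0, 3, 3, 3], [(.ofNat 0), (.ofNat 0), (.ofNat 0), (.ofNat 0), (.ofNat 0), (.ofNat 0)]), ([0, 2, 2, 0, 2, 2, 0, 3, 0, 5, 3, 4], [(.ofNat 0), (.ofNat 0), (.ofNat 0), (.ofNat 0), (.ofNat 0),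 (.ofNat 0)]), ([0, 2, 2, 0, 2, 2, 1, 3, 3, 0, 3, 3], [(.ofNat 0), (.ofNat 0), (.ofNat 0), (.ofNat 0), (.ofNat 0), (.ofNat 0)]), ([0, 2, 2, 0, 2, 4, 2, 5, 0, 4, 2, 5], [(.ofNat 0), (.ofNat 0), (.ofNat 0), (.ofNat 0), (.ofNat 0), (.ofNat 0)]), ([0, 2, 2, 0, 3, 3, 1, 2, 2, 1, 3, 3], [(.ofNat 0), (.ofNat 0), (.ofNat 0), (.ofNat 0), (.ofNat 0), (.ofNat 0)]), ([0, 2, 2, 0, 4, 2, 5, 2, 0, 4, 2, 5], [(.ofNat 0), (.ofNat 0), (.ofNat 0), (.ofNat 0), (.ofNat 0), (.ofNat 0)]), ([0, 2, 2, 0, 5, 3, 3, 4, 0, 4, 2, 5], [(.ofNat 0), (.ofNat 0), (.ofNat 0), (.ofNat 0), (.ofNat 0), (.ofNat 0)]), ([0, 2, 2, 1, 2, 2, 2, 1, 3, 4, 3, 5], [(.ofNat 0), (.ofNat 0), (.ofNat 0), (.ofNat 0), (.ofNat 0), (.ofNat 0)]), ([0, 2, 2, 1, 2, 2, 2, 1,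 4, 3, 5, 3], [(.ofNat 0), (.ofNat 0), (.ofNat 0), (.ofNat 0), (.ofNat 0), (.ofNat 0)]), ([0, 2, 2, 1, 2, 2, 2, 1, 5, 2, 2, 4], [(.ofNat 0), (.ofNat 0), (.ofNat 0), (.ofNat 0), (.ofNat 0), (.ofNat 0)]), ([0, 2, 2, 1, 5, 2, 4, 1, 3, 4, 3, 5], [(.ofNat 0), (.ofNat 0), (.ofNat 0), (.ofNat 0), (.ofNat 0), (.ofNat 0)]), ([0, 2, 2, 1, 5, 2, 4, 1, 4, 3, 5, 3], [(.ofNat 0), (.ofNat 0), (.ofNat 0), (.ofNat 0), (.ofNat 0), (.ofNat 0)]), ([0, 2, 2, 1, 5, 2, 4, 1, 5, 2, 2, 4], [(.ofNat 0), (.ofNat 0), (.ofNat 0), (.ofNat 0), (.ofNat 0), (.ofNat 0)]), ([0, 2, 2, 2, 0, 3, 4, 3, 5, 1, 2, 2], [(.ofNat 0), (.ofNat 0), (.ofNat 0), (.ofNat 0), (.ofNat 0), (.ofNat 0)]), ([0, 2, 2, 2, 0, 4, 3, 5, 3, 1, 2, 2], [(.ofNat 0), (.ofNat 0), (.ofNat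 0), (.ofNat 0), (.ofNat 0), (.ofNat 0)]), ([0, 2, 2, 2, 0, 5, 2, 2, 4, 1, 2, 2], [(.ofNat 0), (.ofNat 0), (.ofNat 0), (.ofNat 0), (.ofNat 0), (.ofNat 0)]), ([0, 2, 4, 2, 5, 1, 5, 3, 4, 1, 3, 3], [(.ofNat 0), (.ofNat 0), (.ofNat 0), (.ofNat 0), (.ofNat 0), (.ofNat 0)]), ([0, 2, 5, 2, 2, 4, 1, 2, 1, 2, 2, 2], [(.ofNat 0), (.ofNat 0), (.ofNat 0), (.ofNat 0), (.ofNat 0), (.ofNat 0)]), ([0, 2, 5, 2, 2, 4, 1, 2, 1, 5, 2, 4], [(.ofNat 0), (.ofNat 0), (.ofNat 0), (.ofNat 0), (.ofNat 0), (.ofNat 0)]), ([0, 3, 0, 3, 0, 3, 3, 0, 5, 2, 4, 2], [(.ofNat 0), (.ofNat 0), (.ofNat 0), (.ofNat 0), (.ofNat 0), (.ofNat 0)]), ([0, 3, 0, 3, 4, 2, 5, 2, 1, 3, 3, 3], [(.ofNat 0), (.ofNat 0), (.ofNat 0), (.ofNat 0), (.ofNat 0), (.ofNat 0)]),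 ([0, 3, 0, 3, 4, 2, 5, 2, 1, 5, 3, 4], [(.ofNat 0), (.ofNat 0), (.ofNat 0), (.ofNat 0), (.ofNat 0), (.ofNat 0)]), ([0, 3, 0, 3, 5, 3, 3, 4, 1, 3, 3, 3], [(.ofNat 0), (.ofNat 0), (.ofNat 0), (.ofNat 0), (.ofNat 0), (.ofNat 0)]), ([0, 3, 0, 3, 5, 3, 3, 4, 1, 5, 3, 4], [(.ofNat 0), (.ofNat 0), (.ofNat 0), (.ofNat 0), (.ofNat 0), (.ofNat 0)]), ([0, 3, 0, 4, 2, 5, 1, 2, 5, 3, 4, 3], [(.ofNat 0), (.ofNat 0), (.ofNat 0), (.ofNat 0), (.ofNat 0), (.ofNat 0)]), ([0, 3, 0, 4, 2, 5, 1, 3, 5, 3, 4, 2], [(.ofNat 0), (.ofNat 0), (.ofNat 0), (.ofNat 0), (.ofNat 0), (.ofNat 0)]), ([0, 3, 0, 4, 3, 3, 5, 2, 1, 3, 3, 3], [(.ofNat 0), (.ofNat 0), (.ofNat 0), (.ofNat 0), (.ofNat 0), (.ofNat 0)]), ([0, 3, 0, 4, 3, 3, 5, 2, 1, 5, 3, 4], [(.ofNat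 0), (.ofNat 0), (.ofNat 0), (.ofNat 0), (.ofNat 0), (.ofNat 0)]), ([0, 3, 0, 5, 2, 4, 2, 1, 2, 4, 3, 5], [(.ofNat 0), (.ofNat 0), (.ofNat 0), (.ofNat 0), (.ofNat 0), (.ofNat 0)]), ([0, 3, 0, 5, 2, 4, 2, 1, 4, 2, 2, 5], [(.ofNat 0), (.ofNat 0), (.ofNat 0), (.ofNat 0), (.ofNat 0), (.ofNat 0)]), ([0, 3, 0, 5, 2, 4, 2, 1, 4, 3, 5, 2], [(.ofNat 0), (.ofNat 0), (.ofNat 0), (.ofNat 0), (.ofNat 0), (.ofNat 0)]), ([0, 3, 3, 0, 4, 3, 5, 0, 3, 4, 3, 5], [(.ofNat 0), (.ofNat 0), (.ofNat 0), (.ofNat 0), (.ofNat 0), (.ofNat 0)]), ([0, 3, 3, 0, 4, 3, 5, 0, 4, 3, 5, 3], [(.ofNat 0), (.ofNat 0), (.ofNat 0), (.ofNat 0), (.ofNat 0), (.ofNat 0)]), ([0, 3, 3, 0, 4, 3, 5, 0, 5, 2, 2, 4], [(.ofNat 0), (.ofNat 0), (.ofNat 0), (.ofNat 0),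 (.ofNat 0), (.ofNat 0)]), ([0, 3, 4, 3, 5, 1, 2, 2, 0, 5, 2, 4], [(.ofNat 0), (.ofNat 0), (.ofNat 0), (.ofNat 0), (.ofNat 0), (.ofNat 0)]), ([0, 4, 0, 4, 0, 4, 0, 4, 0, 4, 0, 4], [(.ofNat 0), (.ofNat 0), (.ofNat 0), (.ofNat 0), (.ofNat 0), (.ofNat 0)]), ([0, 5, 2, 2, 4, 1, 2, 2, 0, 5, 2, 4], [(.ofNat 0), (.ofNat 0), (.ofNat 0), (.ofNat 0), (.ofNat 0), (.ofNat 0)]), ([0, 0, 0, 0, 0, 0, 2, 2, 1, 2, 5, 3, 4], [(.ofNat 0), (.ofNat 0), (.ofNat 0), (.ofNat 0), (.ofNat 0), (.ofNat 0)]), ([0, 0, 0, 0, 0, 0, 5, 2, 4, 3, 1, 3, 3], [(.ofNat 0), (.ofNat 0), (.ofNat 0), (.ofNat 0), (.ofNat 0), (.ofNat 0)]), ([0, 0, 0, 0, 0, 2, 0, 2, 0, 2, 5, 3, 4], [(.ofNat 0), (.ofNat 0), (.ofNat 0), (.ofNat 0), (.ofNat 0), (.ofNat 0)]), ([0,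 0, 0, 0, 0, 5, 2, 4, 3, 0, 3, 0, 3], [(.ofNat 0), (.ofNat 0), (.ofNat 0), (.ofNat 0), (.ofNat 0), (.ofNat 0)]), ([0, 0, 0, 0, 2, 0, 3, 0, 2, 2, 0, 3, 3], [(.ofNat 0), (.ofNat 0), (.ofNat 0), (.ofNat 0), (.ofNat 0), (.ofNat 0)]), ([0, 0, 0, 0, 2, 1, 1, 2, 2, 1, 5, 3, 4], [(.ofNat 0), (.ofNat 0), (.ofNat 0), (.ofNat 0), (.ofNat 0), (.ofNat 0)]), ([0, 0, 0, 0, 2, 1, 4, 3, 5, 0, 5, 2, 4], [(.ofNat 0), (.ofNat 0), (.ofNat 0), (.ofNat 0), (.ofNat 0), (.ofNat 0)]), ([0, 0, 0, 0, 2, 2, 0, 2, 2, 0, 4, 3, 5], [(.ofNat 0), (.ofNat 0), (.ofNat 0), (.ofNat 0), (.ofNat 0), (.ofNat 0)]), ([0, 0, 0, 0, 2, 2, 0, 3, 3, 0, 2, 0, 3], [(.ofNat 0), (.ofNat 0), (.ofNat 0), (.ofNat 0), (.ofNat 0), (.ofNat 0)]), ([0, 0, 0, 0, 2, 5, 3, 4, 1,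 3, 5, 2, 4], [(.ofNat 0), (.ofNat 0), (.ofNat 0), (.ofNat 0), (.ofNat 0), (.ofNat 0)]), ([0, 0, 0, 0, 3, 1, 1, 4, 3, 4, 2, 5, 5], [(.ofNat 0), (.ofNat 0), (.ofNat 0), (.ofNat 0), (.ofNat 0), (.ofNat 0)]), ([0, 0, 0, 0, 3, 1, 1, 4, 4, 2, 5, 3, 5], [(.ofNat 0), (.ofNat 0), (.ofNat 0), (.ofNat 0), (.ofNat 0), (.ofNat 0)]), ([0, 0, 0, 0, 3, 1, 1, 4, 4, 3, 3, 5, 5], [(.ofNat 0), (.ofNat 0), (.ofNat 0), (.ofNat 0), (.ofNat 0), (.ofNat 0)]), ([0, 0, 0, 0, 3, 1, 1, 5, 2, 5, 2, 4, 4], [(.ofNat 0), (.ofNat 0), (.ofNat 0), (.ofNat 0), (.ofNat 0), (.ofNat 0)]), ([0, 0, 0, 0, 3, 3, 1, 4, 3, 4, 3, 5, 5], [(.ofNat 0), (.ofNat 0), (.ofNat 0), (.ofNat 0), (.ofNat 0), (.ofNat 0)]), ([0, 0, 0, 0, 3, 3, 1, 4, 4, 3, 5, 3, 5], [(.ofNat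 0), (.ofNat 0), (.ofNat 0), (.ofNat 0), (.ofNat 0), (.ofNat 0)]), ([0, 0, 0, 0, 4, 2, 4, 3, 5, 5, 1, 1, 2], [(.ofNat 0), (.ofNat 0), (.ofNat 0), (.ofNat 0), (.ofNat 0), (.ofNat 0)]), ([0, 0, 0, 0, 4, 2, 5, 0, 3, 3, 0, 3, 3], [(.ofNat 0), (.ofNat 0), (.ofNat 0), (.ofNat 0), (.ofNat 0), (.ofNat 0)]), ([0, 0, 0, 0, 4, 4, 2, 2, 5, 5, 1, 1, 2], [(.ofNat 0), (.ofNat 0), (.ofNat 0), (.ofNat 0), (.ofNat 0), (.ofNat 0)]), ([0, 0, 0, 0, 4, 4, 3, 5, 2, 5, 1, 1, 2], [(.ofNat 0), (.ofNat 0), (.ofNat 0), (.ofNat 0), (.ofNat 0), (.ofNat 0)]), ([0, 0, 0, 0, 5, 2, 4, 1, 3, 3, 1, 1, 3], [(.ofNat 0), (.ofNat 0), (.ofNat 0), (.ofNat 0), (.ofNat 0), (.ofNat 0)]), ([0, 0, 0, 0, 5, 3, 4, 0, 4, 2, 5, 1, 3], [(.ofNat 0), (.ofNat 0), (.ofNat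 0), (.ofNat 0), (.ofNat 0), (.ofNat 0)]), ([0, 0, 0, 0, 5, 3, 4, 2, 1, 3, 5, 2, 4], [(.ofNat 0), (.ofNat 0), (.ofNat 0), (.ofNat 0), (.ofNat 0), (.ofNat 0)]), ([0, 0, 0, 0, 5, 3, 4, 2, 1, 5, 2, 4, 3], [(.ofNat 0), (.ofNat 0), (.ofNat 0), (.ofNat 0), (.ofNat 0), (.ofNat 0)]), ([0, 0, 0, 0, 5, 5, 3, 4, 3, 4, 1, 1, 2], [(.ofNat 0), (.ofNat 0), (.ofNat 0), (.ofNat 0), (.ofNat 0), (.ofNat 0)]), ([0, 0, 0, 2, 0, 2, 4, 3, 5, 0, 0, 2, 2], [(.ofNat 0), (.ofNat 0), (.ofNat 0), (.ofNat 0), (.ofNat 0), (.ofNat 0)]), ([0, 0, 0, 2, 0, 3, 5, 3, 4, 0, 2, 2, 2], [(.ofNat 0), (.ofNat 0), (.ofNat 0), (.ofNat 0), (.ofNat 0), (.ofNat 0)]), ([0, 0, 0, 2, 0, 4, 2, 2, 5, 0, 0, 2, 2], [(.ofNat 0), (.ofNat 0), (.ofNat 0), (.ofNat 0), (.ofNat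 0), (.ofNat 0)]), ([0, 0, 0, 2, 0, 4, 3, 5, 0, 4, 3, 3, 5], [(.ofNat 0), (.ofNat 0), (.ofNat 0), (.ofNat 0), (.ofNat 0), (.ofNat 0)]), ([0, 0, 0, 2, 2, 1, 2, 2, 0, 0, 4, 3, 5], [(.ofNat 0), (.ofNat 0), (.ofNat 0), (.ofNat 0), (.ofNat 0), (.ofNat 0)]), ([0, 0, 0, 2, 2, 2, 1, 2, 2, 5, 2, 2, 4], [(.ofNat 0), (.ofNat 0), (.ofNat 0), (.ofNat 0), (.ofNat 0), (.ofNat 0)]), ([0, 0, 0, 2, 2, 2, 1, 2, 4, 2, 2, 5, 3], [(.ofNat 0), (.ofNat 0), (.ofNat 0), (.ofNat 0), (.ofNat 0), (.ofNat 0)]), ([0, 0, 0, 2, 2, 2, 1, 3, 5, 2, 2, 2, 4], [(.ofNat 0), (.ofNat 0), (.ofNat 0), (.ofNat 0), (.ofNat 0), (.ofNat 0)]), ([0, 0, 0, 2, 2, 2, 1, 3, 5, 5, 2, 4, 4], [(.ofNat 0), (.ofNat 0), (.ofNat 0), (.ofNat 0), (.ofNat 0), (.ofNat 0)]), ([0,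 0, 0, 2, 2, 2, 1, 5, 0, 0, 3, 1, 4], [(.ofNat 0), (.ofNat 0), (.ofNat 0), (.ofNat 0), (.ofNat 0), (.ofNat 0)]), ([0, 0, 0, 2, 2, 2, 1, 5, 1, 1, 3, 0, 4], [(.ofNat 0), (.ofNat 0), (.ofNat 0), (.ofNat 0), (.ofNat 0), (.ofNat 0)]), ([0, 0, 0, 2, 2, 2, 1, 5, 3, 5, 5, 5, 5], [(.ofNat 0), (.ofNat 0), (.ofNat 0), (.ofNat 0), (.ofNat 0), (.ofNat 0)]), ([0, 0, 0, 2, 4, 2, 5, 3, 1, 1, 4, 3, 5], [(.ofNat 0), (.ofNat 0), (.ofNat 0), (.ofNat 0), (.ofNat 0), (.ofNat 0)]), ([0, 0, 0, 2, 4, 2, 5, 3, 3, 1, 3, 3, 3], [(.ofNat 0), (.ofNat 0), (.ofNat 0), (.ofNat 0), (.ofNat 0), (.ofNat 0)]), ([0, 0, 0, 2, 4, 3, 3, 5, 1, 1, 4, 3, 5], [(.ofNat 0), (.ofNat 0), (.ofNat 0), (.ofNat 0), (.ofNat 0), (.ofNat 0)]), ([0, 0, 0, 2, 4, 3, 3, 5, 3,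 1, 3, 3, 3], [(.ofNat 0), (.ofNat 0), (.ofNat 0), (.ofNat 0), (.ofNat 0), (.ofNat 0)]), ([0, 0, 0, 2, 4, 3, 3, 5, 3, 1, 5, 3, 4], [(.ofNat 0), (.ofNat 0), (.ofNat 0), (.ofNat 0), (.ofNat 0), (.ofNat 0)]), ([0, 0, 0, 3, 3, 0, 0, 4, 2, 5, 3, 0, 3], [(.ofNat 0), (.ofNat 0), (.ofNat 0), (.ofNat 0), (.ofNat 0), (.ofNat 0)]), ([0, 0, 0, 3, 3, 0, 0, 4, 3, 3, 5, 0, 3], [(.ofNat 0), (.ofNat 0), (.ofNat 0), (.ofNat 0), (.ofNat 0), (.ofNat 0)]), ([0, 0, 0, 3, 3, 3, 0, 5, 2, 4, 2, 0, 3], [(.ofNat 0), (.ofNat 0), (.ofNat 0), (.ofNat 0), (.ofNat 0), (.ofNat 0)]), ([0, 0, 0, 4, 2, 2, 5, 0, 4, 2, 5, 0, 3], [(.ofNat 0), (.ofNat 0), (.ofNat 0), (.ofNat 0), (.ofNat 0), (.ofNat 0)]), ([0, 0, 0, 4, 2, 5, 0, 0, 3, 3, 1, 3, 3], [(.ofNat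 0), (.ofNat 0), (.ofNat 0), (.ofNat 0), (.ofNat 0), (.ofNat 0)]), ([0, 0, 0, 4, 2, 5, 1, 1, 2, 4, 3, 5, 3], [(.ofNat 0), (.ofNat 0), (.ofNat 0), (.ofNat 0), (.ofNat 0), (.ofNat 0)]), ([0, 0, 0, 4, 2, 5, 1, 1, 2, 5, 2, 2, 4], [(.ofNat 0), (.ofNat 0), (.ofNat 0), (.ofNat 0), (.ofNat 0), (.ofNat 0)]), ([0, 0, 0, 4, 2, 5, 1, 1, 4, 2, 2, 5, 3], [(.ofNat 0), (.ofNat 0), (.ofNat 0), (.ofNat 0), (.ofNat 0), (.ofNat 0)]), ([0, 0, 0, 4, 3, 5, 0, 5, 2, 4, 0, 0, 2], [(.ofNat 0), (.ofNat 0), (.ofNat 0), (.ofNat 0), (.ofNat 0), (.ofNat 0)]), ([0, 0, 0, 4, 4, 4, 4, 2, 4, 1, 3, 3, 3], [(.ofNat 0), (.ofNat 0), (.ofNat 0), (.ofNat 0), (.ofNat 0), (.ofNat 0)]), ([0, 0, 0, 4, 4, 4, 4, 2, 4, 1, 5, 3, 4], [(.ofNat 0), (.ofNat 0), (.ofNat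 0), (.ofNat 0), (.ofNat 0), (.ofNat 0)]), ([0, 0, 0, 5, 0, 2, 1, 1, 4, 1, 3, 3, 3], [(.ofNat 0), (.ofNat 0), (.ofNat 0), (.ofNat 0), (.ofNat 0), (.ofNat 0)]), ([0, 0, 0, 5, 0, 2, 1, 1, 4, 1, 5, 3, 4], [(.ofNat 0), (.ofNat 0), (.ofNat 0), (.ofNat 0), (.ofNat 0), (.ofNat 0)]), ([0, 0, 0, 5, 1, 2, 0, 0, 4, 1, 3, 3, 3], [(.ofNat 0), (.ofNat 0), (.ofNat 0), (.ofNat 0), (.ofNat 0), (.ofNat 0)]), ([0, 0, 0, 5, 1, 2, 0, 0, 4, 1, 5, 3, 4], [(.ofNat 0), (.ofNat 0), (.ofNat 0), (.ofNat 0), (.ofNat 0), (.ofNat 0)]), ([0, 0, 0, 5, 2, 4, 1, 2, 4, 2, 2, 5, 3], [(.ofNat 0), (.ofNat 0), (.ofNat 0), (.ofNat 0), (.ofNat 0), (.ofNat 0)]), ([0, 0, 0, 5, 2, 4, 1, 3, 5, 2, 2, 2, 4], [(.ofNat 0), (.ofNat 0), (.ofNat 0), (.ofNat 0), (.ofNat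 0), (.ofNat 0)]), ([0, 0, 0, 5, 2, 4, 1, 3, 5, 5, 2, 4, 4], [(.ofNat 0), (.ofNat 0), (.ofNat 0), (.ofNat 0), (.ofNat 0), (.ofNat 0)]), ([0, 0, 0, 5, 2, 4, 1, 5, 0, 0, 3, 1, 4], [(.ofNat 0), (.ofNat 0), (.ofNat 0), (.ofNat 0), (.ofNat 0), (.ofNat 0)]), ([0, 0, 0, 5, 2, 4, 1, 5, 1, 1, 3, 0, 4], [(.ofNat 0), (.ofNat 0), (.ofNat 0), (.ofNat 0), (.ofNat 0), (.ofNat 0)]), ([0, 0, 0, 5, 2, 4, 1, 5, 3, 5, 5, 5, 5], [(.ofNat 0), (.ofNat 0), (.ofNat 0), (.ofNat 0), (.ofNat 0), (.ofNat 0)]), ([0, 0, 0, 5, 3, 3, 3, 4, 2, 1, 3, 3, 3], [(.ofNat 0), (.ofNat 0), (.ofNat 0), (.ofNat 0), (.ofNat 0), (.ofNat 0)]), ([0, 0, 0, 5, 3, 3, 3, 4, 2, 1, 5, 3, 4], [(.ofNat 0), (.ofNat 0), (.ofNat 0), (.ofNat 0), (.ofNat 0), (.ofNat 0)]), ([0,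 0, 0, 5, 3, 3, 4, 3, 1, 1, 4, 3, 5], [(.ofNat 0), (.ofNat 0), (.ofNat 0), (.ofNat 0), (.ofNat 0), (.ofNat 0)]), ([0, 0, 0, 5, 3, 3, 4, 3, 3, 1, 3, 3, 3], [(.ofNat 0), (.ofNat 0), (.ofNat 0), (.ofNat 0), (.ofNat 0), (.ofNat 0)]), ([0, 0, 0, 5, 5, 3, 4, 4, 2, 1, 3, 3, 3], [(.ofNat 0), (.ofNat 0), (.ofNat 0), (.ofNat 0), (.ofNat 0), (.ofNat 0)]), ([0, 0, 0, 5, 5, 3, 4, 4, 2, 1, 5, 3, 4], [(.ofNat 0), (.ofNat 0), (.ofNat 0), (.ofNat 0), (.ofNat 0), (.ofNat 0)]), ([0, 0, 2, 0, 2, 2, 1, 2, 5, 3, 4, 0, 3], [(.ofNat 0), (.ofNat 0), (.ofNat 0), (.ofNat 0), (.ofNat 0), (.ofNat 0)]), ([0, 0, 2, 0, 2, 2, 1, 5, 3, 4, 2, 0, 3], [(.ofNat 0), (.ofNat 0), (.ofNat 0), (.ofNat 0), (.ofNat 0), (.ofNat 0)]), ([0, 0, 2, 0, 2, 4, 2, 5, 0,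 2, 4, 2, 5], [(.ofNat 0), (.ofNat 0), (.ofNat 0), (.ofNat 0), (.ofNat 0), (.ofNat 0)]), ([0, 0, 2, 0, 2, 4, 2, 5, 0, 4, 2, 5, 2], [(.ofNat 0), (.ofNat 0), (.ofNat 0), (.ofNat 0), (.ofNat 0), (.ofNat 0)]), ([0, 0, 2, 0, 2, 4, 2, 5, 0, 5, 3, 3, 4], [(.ofNat 0), (.ofNat 0), (.ofNat 0), (.ofNat 0), (.ofNat 0), (.ofNat 0)]), ([0, 0, 2, 0, 2, 5, 3, 4, 1, 2, 2, 1, 3], [(.ofNat 0), (.ofNat 0), (.ofNat 0), (.ofNat 0), (.ofNat 0), (.ofNat 0)]), ([0, 0, 2, 0, 3, 0, 3, 3, 3, 0, 5, 2, 4], [(.ofNat 0), (.ofNat 0), (.ofNat 0), (.ofNat 0), (.ofNat 0), (.ofNat 0)]), ([0, 0, 2, 0, 3, 0, 5, 3, 4, 0, 2, 2, 2], [(.ofNat 0), (.ofNat 0), (.ofNat 0), (.ofNat 0), (.ofNat 0), (.ofNat 0)]), ([0, 0, 2, 0, 3, 1, 4, 2, 5, 1, 4, 3, 5], [(.ofNat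 0), (.ofNat 0), (.ofNat 0), (.ofNat 0), (.ofNat 0), (.ofNat 0)]), ([0, 0, 2, 0, 3, 4, 3, 5, 0, 0, 4, 2, 5], [(.ofNat 0), (.ofNat 0), (.ofNat 0), (.ofNat 0), (.ofNat 0), (.ofNat 0)]), ([0, 0, 2, 0, 3, 5, 2, 4, 1, 3, 3, 0, 3], [(.ofNat 0), (.ofNat 0), (.ofNat 0), (.ofNat 0), (.ofNat 0), (.ofNat 0)]), ([0, 0, 2, 0, 4, 2, 5, 2, 0, 2, 4, 2, 5], [(.ofNat 0), (.ofNat 0), (.ofNat 0), (.ofNat 0), (.ofNat 0), (.ofNat 0)]), ([0, 0, 2, 0, 4, 2, 5, 2, 0, 5, 3, 3, 4], [(.ofNat 0), (.ofNat 0), (.ofNat 0), (.ofNat 0), (.ofNat 0), (.ofNat 0)]), ([0, 0, 2, 0, 4, 3, 5, 3, 0, 0, 4, 2, 5], [(.ofNat 0), (.ofNat 0), (.ofNat 0), (.ofNat 0), (.ofNat 0), (.ofNat 0)]), ([0, 0, 2, 0, 5, 2, 2, 4, 0, 0, 4, 2, 5], [(.ofNat 0), (.ofNat 0), (.ofNat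 0), (.ofNat 0), (.ofNat 0), (.ofNat 0)]), ([0, 0, 2, 0, 5, 2, 4, 3, 0, 3, 0, 3, 3], [(.ofNat 0), (.ofNat 0), (.ofNat 0), (.ofNat 0), (.ofNat 0), (.ofNat 0)]), ([0, 0, 2, 0, 5, 3, 3, 4, 0, 2, 4, 2, 5], [(.ofNat 0), (.ofNat 0), (.ofNat 0), (.ofNat 0), (.ofNat 0), (.ofNat 0)]), ([0, 0, 2, 0, 5, 3, 3, 4, 0, 4, 2, 5, 2], [(.ofNat 0), (.ofNat 0), (.ofNat 0), (.ofNat 0), (.ofNat 0), (.ofNat 0)]), ([0, 0, 2, 0, 5, 3, 3, 4, 0, 5, 3, 3, 4], [(.ofNat 0), (.ofNat 0), (.ofNat 0), (.ofNat 0), (.ofNat 0), (.ofNat 0)]), ([0, 0, 2, 0, 5, 3, 4, 2, 1, 2, 2, 1, 3], [(.ofNat 0), (.ofNat 0), (.ofNat 0), (.ofNat 0), (.ofNat 0), (.ofNat 0)]), ([0, 0, 2, 1, 2, 2, 2, 1, 2, 5, 2, 2, 4], [(.ofNat 0), (.ofNat 0), (.ofNat 0), (.ofNat 0), (.ofNat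 0), (.ofNat 0)]), ([0, 0, 2, 1, 3, 3, 1, 3, 5, 2, 4, 0, 3], [(.ofNat 0), (.ofNat 0), (.ofNat 0), (.ofNat 0), (.ofNat 0), (.ofNat 0)]), ([0, 0, 2, 1, 3, 3, 1, 5, 2, 4, 3, 0, 3], [(.ofNat 0), (.ofNat 0), (.ofNat 0), (.ofNat 0), (.ofNat 0), (.ofNat 0)]), ([0, 0, 2, 1, 4, 2, 5, 1, 1, 4, 3, 5, 3], [(.ofNat 0), (.ofNat 0), (.ofNat 0), (.ofNat 0), (.ofNat 0), (.ofNat 0)]), ([0, 0, 2, 2, 0, 3, 4, 3, 5, 1, 2, 2, 2], [(.ofNat 0), (.ofNat 0), (.ofNat 0), (.ofNat 0), (.ofNat 0), (.ofNat 0)]), ([0, 0, 2, 2, 0, 3, 4, 3, 5, 1, 5, 2, 4], [(.ofNat 0), (.ofNat 0), (.ofNat 0), (.ofNat 0), (.ofNat 0), (.ofNat 0)]), ([0, 0, 2, 2, 0, 3, 5, 3, 4, 1, 1, 2, 2], [(.ofNat 0), (.ofNat 0), (.ofNat 0), (.ofNat 0), (.ofNat 0), (.ofNat 0)]), ([0,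 0, 2, 2, 0, 4, 3, 5, 3, 1, 5, 2, 4], [(.ofNat 0), (.ofNat 0), (.ofNat 0), (.ofNat 0), (.ofNat 0), (.ofNat 0)]), ([0, 0, 2, 2, 0, 5, 2, 2, 4, 1, 2, 2, 2], [(.ofNat 0), (.ofNat 0), (.ofNat 0), (.ofNat 0), (.ofNat 0), (.ofNat 0)]), ([0, 0, 2, 2, 0, 5, 2, 2, 4, 1, 5, 2, 4], [(.ofNat 0), (.ofNat 0), (.ofNat 0), (.ofNat 0), (.ofNat 0), (.ofNat 0)]), ([0, 0, 2, 2, 1, 1, 2, 2, 1, 3, 5, 3, 4], [(.ofNat 0), (.ofNat 0), (.ofNat 0), (.ofNat 0), (.ofNat 0), (.ofNat 0)]), ([0, 0, 2, 2, 1, 2, 2, 1, 3, 3, 1, 3, 3], [(.ofNat 0), (.ofNat 0), (.ofNat 0), (.ofNat 0), (.ofNat 0), (.ofNat 0)]), ([0, 0, 2, 2, 1, 2, 5, 2, 2, 4, 0, 2, 2], [(.ofNat 0), (.ofNat 0), (.ofNat 0), (.ofNat 0), (.ofNat 0), (.ofNat 0)]), ([0, 0, 2, 2, 1, 3, 4, 2, 2,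 5, 0, 2, 2], [(.ofNat 0), (.ofNat 0), (.ofNat 0), (.ofNat 0), (.ofNat 0), (.ofNat 0)]), ([0, 0, 2, 2, 1, 3, 4, 3, 5, 2, 0, 2, 2], [(.ofNat 0), (.ofNat 0), (.ofNat 0), (.ofNat 0), (.ofNat 0), (.ofNat 0)]), ([0, 0, 2, 2, 1, 4, 3, 5, 0, 3, 5, 2, 4], [(.ofNat 0), (.ofNat 0), (.ofNat 0), (.ofNat 0), (.ofNat 0), (.ofNat 0)]), ([0, 0, 2, 2, 1, 5, 2, 2, 4, 2, 0, 2, 2], [(.ofNat 0), (.ofNat 0), (.ofNat 0), (.ofNat 0), (.ofNat 0), (.ofNat 0)]), ([0, 0, 2, 2, 2, 0, 2, 2, 0, 3, 4, 3, 5], [(.ofNat 0), (.ofNat 0), (.ofNat 0), (.ofNat 0), (.ofNat 0), (.ofNat 0)]), ([0, 0, 2, 2, 2, 0, 2, 2, 0, 4, 3, 5, 3], [(.ofNat 0), (.ofNat 0), (.ofNat 0), (.ofNat 0), (.ofNat 0), (.ofNat 0)]), ([0, 0, 2, 2, 2, 0, 2, 2, 0, 5, 2, 2, 4], [(.ofNat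 0), (.ofNat 0), (.ofNat 0), (.ofNat 0), (.ofNat 0), (.ofNat 0)]), ([0, 0, 2, 2, 4, 0, 0, 3, 1, 5, 2, 1, 2], [(.ofNat 0), (.ofNat 0), (.ofNat 0), (.ofNat 0), (.ofNat 0), (.ofNat 0)]), ([0, 0, 2, 2, 4, 0, 2, 1, 1, 2, 5, 1, 2], [(.ofNat 0), (.ofNat 0), (.ofNat 0), (.ofNat 0), (.ofNat 0), (.ofNat 0)]), ([0, 0, 2, 2, 4, 1, 1, 3, 0, 5, 2, 1, 2], [(.ofNat 0), (.ofNat 0), (.ofNat 0), (.ofNat 0), (.ofNat 0), (.ofNat 0)]), ([0, 0, 2, 2, 4, 1, 2, 0, 0, 2, 5, 1, 2], [(.ofNat 0), (.ofNat 0), (.ofNat 0), (.ofNat 0), (.ofNat 0), (.ofNat 0)]), ([0, 0, 2, 2, 4, 2, 5, 1, 2, 1, 4, 2, 5], [(.ofNat 0), (.ofNat 0), (.ofNat 0), (.ofNat 0), (.ofNat 0), (.ofNat 0)]), ([0, 0, 2, 4, 0, 2, 1, 1, 2, 5, 2, 1, 2], [(.ofNat 0), (.ofNat 0), (.ofNat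 0), (.ofNat 0), (.ofNat 0), (.ofNat 0)]), ([0, 0, 2, 4, 1, 2, 0, 0, 2, 5, 2, 1, 2], [(.ofNat 0), (.ofNat 0), (.ofNat 0), (.ofNat 0), (.ofNat 0), (.ofNat 0)]), ([0, 0, 2, 4, 2, 0, 2, 1, 1, 5, 2, 1, 2], [(.ofNat 0), (.ofNat 0), (.ofNat 0), (.ofNat 0), (.ofNat 0), (.ofNat 0)]), ([0, 0, 2, 4, 2, 1, 2, 0, 0, 5, 2, 1, 2], [(.ofNat 0), (.ofNat 0), (.ofNat 0), (.ofNat 0), (.ofNat 0), (.ofNat 0)]), ([0, 0, 2, 4, 2, 5, 0, 3, 0, 0, 4, 3, 5], [(.ofNat 0), (.ofNat 0), (.ofNat 0), (.ofNat 0), (.ofNat 0), (.ofNat 0)]), ([0, 0, 2, 4, 2, 5, 0, 3, 3, 0, 3, 3, 3], [(.ofNat 0), (.ofNat 0), (.ofNat 0), (.ofNat 0), (.ofNat 0), (.ofNat 0)]), ([0, 0, 2, 4, 2, 5, 0, 3, 3, 0, 5, 3, 4], [(.ofNat 0), (.ofNat 0), (.ofNat 0), (.ofNat 0), (.ofNat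 0), (.ofNat 0)]), ([0, 0, 2, 4, 2, 5, 1, 1, 4, 3, 5, 1, 3], [(.ofNat 0), (.ofNat 0), (.ofNat 0), (.ofNat 0), (.ofNat 0), (.ofNat 0)]), ([0, 0, 2, 4, 2, 5, 1, 2, 2, 0, 4, 2, 5], [(.ofNat 0), (.ofNat 0), (.ofNat 0), (.ofNat 0), (.ofNat 0), (.ofNat 0)]), ([0, 0, 2, 4, 2, 5, 2, 1, 2, 1, 4, 2, 5], [(.ofNat 0), (.ofNat 0), (.ofNat 0), (.ofNat 0), (.ofNat 0), (.ofNat 0)]), ([0, 0, 2, 5, 0, 2, 1, 1, 2, 2, 4, 1, 2], [(.ofNat 0), (.ofNat 0), (.ofNat 0), (.ofNat 0), (.ofNat 0), (.ofNat 0)]), ([0, 0, 2, 5, 2, 0, 2, 1, 1, 2, 4, 1, 2], [(.ofNat 0), (.ofNat 0), (.ofNat 0), (.ofNat 0), (.ofNat 0), (.ofNat 0)]), ([0, 0, 2, 5, 3, 4, 2, 1, 3, 3, 5, 2, 4], [(.ofNat 0), (.ofNat 0), (.ofNat 0), (.ofNat 0), (.ofNat 0), (.ofNat 0)]), ([0,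 0, 2, 5, 3, 4, 2, 1, 4, 2, 2, 2, 5], [(.ofNat 0), (.ofNat 0), (.ofNat 0), (.ofNat 0), (.ofNat 0), (.ofNat 0)]), ([0, 0, 2, 5, 5, 0, 2, 1, 1, 4, 4, 1, 2], [(.ofNat 0), (.ofNat 0), (.ofNat 0), (.ofNat 0), (.ofNat 0), (.ofNat 0)]), ([0, 0, 2, 5, 5, 1, 2, 0, 0, 4, 4, 1, 2], [(.ofNat 0), (.ofNat 0), (.ofNat 0), (.ofNat 0), (.ofNat 0), (.ofNat 0)]), ([0, 0, 3, 0, 4, 2, 4, 3, 5, 5, 1, 2, 2], [(.ofNat 0), (.ofNat 0), (.ofNat 0), (.ofNat 0), (.ofNat 0), (.ofNat 0)]), ([0, 0, 3, 0, 4, 3, 5, 2, 2, 2, 1, 2, 2], [(.ofNat 0), (.ofNat 0), (.ofNat 0), (.ofNat 0), (.ofNat 0), (.ofNat 0)]), ([0, 0, 3, 0, 4, 4, 2, 2, 5, 5, 1, 2, 2], [(.ofNat 0), (.ofNat 0), (.ofNat 0), (.ofNat 0), (.ofNat 0), (.ofNat 0)]), ([0, 0, 3, 0, 5, 3, 5, 3, 4,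 4, 1, 2, 2], [(.ofNat 0), (.ofNat 0), (.ofNat 0), (.ofNat 0), (.ofNat 0), (.ofNat 0)]), ([0, 0, 3, 1, 3, 3, 4, 0, 0, 3, 1, 3, 5], [(.ofNat 0), (.ofNat 0), (.ofNat 0), (.ofNat 0), (.ofNat 0), (.ofNat 0)]), ([0, 0, 3, 1, 3, 3, 4, 1, 1, 3, 0, 3, 5], [(.ofNat 0), (.ofNat 0), (.ofNat 0), (.ofNat 0), (.ofNat 0), (.ofNat 0)]), ([0, 0, 3, 1, 3, 4, 0, 0, 3, 1, 3, 5, 3], [(.ofNat 0), (.ofNat 0), (.ofNat 0), (.ofNat 0), (.ofNat 0), (.ofNat 0)]), ([0, 0, 3, 1, 3, 4, 0, 2, 1, 1, 5, 3, 3], [(.ofNat 0), (.ofNat 0), (.ofNat 0), (.ofNat 0), (.ofNat 0), (.ofNat 0)]), ([0, 0, 3, 1, 3, 4, 1, 1, 3, 0, 3, 5, 3], [(.ofNat 0), (.ofNat 0), (.ofNat 0), (.ofNat 0), (.ofNat 0), (.ofNat 0)]), ([0, 0, 3, 1, 3, 4, 1, 2, 0, 0, 5, 3, 3], [(.ofNat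 0), (.ofNat 0), (.ofNat 0), (.ofNat 0), (.ofNat 0), (.ofNat 0)]), ([0, 0, 3, 1, 3, 4, 3, 0, 0, 3, 1, 5, 3], [(.ofNat 0), (.ofNat 0), (.ofNat 0), (.ofNat 0), (.ofNat 0), (.ofNat 0)]), ([0, 0, 3, 1, 3, 5, 1, 1, 3, 0, 3, 3, 4], [(.ofNat 0), (.ofNat 0), (.ofNat 0), (.ofNat 0), (.ofNat 0), (.ofNat 0)]), ([0, 0, 3, 1, 3, 5, 5, 0, 0, 3, 1, 4, 4], [(.ofNat 0), (.ofNat 0), (.ofNat 0), (.ofNat 0), (.ofNat 0), (.ofNat 0)]), ([0, 0, 3, 1, 3, 5, 5, 1, 1, 3, 0, 4, 4], [(.ofNat 0), (.ofNat 0), (.ofNat 0), (.ofNat 0), (.ofNat 0), (.ofNat 0)]), ([0, 0, 3, 1, 4, 0, 3, 0, 4, 2, 5, 1, 5], [(.ofNat 0), (.ofNat 0), (.ofNat 0), (.ofNat 0), (.ofNat 0), (.ofNat 0)]), ([0, 0, 3, 1, 4, 1, 3, 1, 4, 2, 5, 0, 5], [(.ofNat 0), (.ofNat 0), (.ofNat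 0), (.ofNat 0), (.ofNat 0), (.ofNat 0)]), ([0, 0, 3, 1, 4, 3, 0, 0, 3, 1, 5, 3, 3], [(.ofNat 0), (.ofNat 0), (.ofNat 0), (.ofNat 0), (.ofNat 0), (.ofNat 0)]), ([0, 0, 3, 1, 4, 4, 0, 2, 1, 1, 5, 3, 5], [(.ofNat 0), (.ofNat 0), (.ofNat 0), (.ofNat 0), (.ofNat 0), (.ofNat 0)]), ([0, 0, 3, 1, 4, 4, 1, 1, 3, 0, 3, 5, 5], [(.ofNat 0), (.ofNat 0), (.ofNat 0), (.ofNat 0), (.ofNat 0), (.ofNat 0)]), ([0, 0, 3, 1, 4, 4, 1, 2, 0, 0, 5, 3, 5], [(.ofNat 0), (.ofNat 0), (.ofNat 0), (.ofNat 0), (.ofNat 0), (.ofNat 0)]), ([0, 0, 3, 1, 4, 4, 3, 0, 0, 3, 1, 5, 5], [(.ofNat 0), (.ofNat 0), (.ofNat 0), (.ofNat 0), (.ofNat 0), (.ofNat 0)]), ([0, 0, 3, 1, 5, 0, 2, 0, 2, 2, 2, 1, 4], [(.ofNat 0), (.ofNat 0), (.ofNat 0), (.ofNat 0), (.ofNat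 0), (.ofNat 0)]), ([0, 0, 3, 1, 5, 0, 2, 0, 5, 2, 4, 1, 4], [(.ofNat 0), (.ofNat 0), (.ofNat 0), (.ofNat 0), (.ofNat 0), (.ofNat 0)]), ([0, 0, 3, 1, 5, 1, 2, 1, 2, 2, 2, 0, 4], [(.ofNat 0), (.ofNat 0), (.ofNat 0), (.ofNat 0), (.ofNat 0), (.ofNat 0)]), ([0, 0, 3, 1, 5, 1, 2, 1, 5, 2, 4, 0, 4], [(.ofNat 0), (.ofNat 0), (.ofNat 0), (.ofNat 0), (.ofNat 0), (.ofNat 0)]), ([0, 0, 3, 1, 5, 5, 1, 1, 3, 0, 4, 4, 3], [(.ofNat 0), (.ofNat 0), (.ofNat 0), (.ofNat 0), (.ofNat 0), (.ofNat 0)]), ([0, 0, 3, 1, 5, 5, 1, 2, 0, 0, 4, 2, 4], [(.ofNat 0), (.ofNat 0), (.ofNat 0), (.ofNat 0), (.ofNat 0), (.ofNat 0)]), ([0, 0, 3, 3, 0, 3, 4, 2, 5, 2, 1, 3, 3], [(.ofNat 0), (.ofNat 0), (.ofNat 0), (.ofNat 0), (.ofNat 0), (.ofNat 0)]), ([0,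 0, 3, 3, 0, 3, 5, 3, 3, 4, 1, 3, 3], [(.ofNat 0), (.ofNat 0), (.ofNat 0), (.ofNat 0), (.ofNat 0), (.ofNat 0)]), ([0, 0, 3, 3, 0, 4, 3, 3, 5, 2, 1, 3, 3], [(.ofNat 0), (.ofNat 0), (.ofNat 0), (.ofNat 0), (.ofNat 0), (.ofNat 0)]), ([0, 0, 3, 3, 0, 5, 3, 3, 4, 3, 1, 3, 3], [(.ofNat 0), (.ofNat 0), (.ofNat 0), (.ofNat 0), (.ofNat 0), (.ofNat 0)]), ([0, 0, 3, 3, 1, 3, 3, 3, 4, 2, 5, 0, 2], [(.ofNat 0), (.ofNat 0), (.ofNat 0), (.ofNat 0), (.ofNat 0), (.ofNat 0)]), ([0, 0, 3, 3, 1, 4, 4, 2, 5, 3, 5, 0, 2], [(.ofNat 0), (.ofNat 0), (.ofNat 0), (.ofNat 0), (.ofNat 0), (.ofNat 0)]), ([0, 0, 3, 3, 1, 4, 4, 3, 3, 5, 5, 0, 2], [(.ofNat 0), (.ofNat 0), (.ofNat 0), (.ofNat 0), (.ofNat 0), (.ofNat 0)]), ([0, 0, 3, 3, 1, 5, 3, 4, 4,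 2, 5, 0, 2], [(.ofNat 0), (.ofNat 0), (.ofNat 0), (.ofNat 0), (.ofNat 0), (.ofNat 0)]), ([0, 0, 3, 3, 1, 5, 5, 2, 4, 2, 4, 0, 2], [(.ofNat 0), (.ofNat 0), (.ofNat 0), (.ofNat 0), (.ofNat 0), (.ofNat 0)]), ([0, 0, 3, 3, 3, 0, 4, 3, 5, 0, 4, 3, 5], [(.ofNat 0), (.ofNat 0), (.ofNat 0), (.ofNat 0), (.ofNat 0), (.ofNat 0)]), ([0, 0, 3, 3, 3, 0, 5, 2, 4, 0, 2, 0, 3], [(.ofNat 0), (.ofNat 0), (.ofNat 0), (.ofNat 0), (.ofNat 0), (.ofNat 0)]), ([0, 0, 3, 3, 3, 1, 4, 2, 5, 2, 0, 3, 3], [(.ofNat 0), (.ofNat 0), (.ofNat 0), (.ofNat 0), (.ofNat 0), (.ofNat 0)]), ([0, 0, 3, 3, 3, 1, 5, 3, 3, 4, 0, 3, 3], [(.ofNat 0), (.ofNat 0), (.ofNat 0), (.ofNat 0), (.ofNat 0), (.ofNat 0)]), ([0, 0, 3, 4, 3, 5, 0, 4, 3, 5, 3, 0, 3], [(.ofNat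 0), (.ofNat 0), (.ofNat 0), (.ofNat 0), (.ofNat 0), (.ofNat 0)]), ([0, 0, 3, 4, 3, 5, 0, 5, 2, 2, 4, 0, 3], [(.ofNat 0), (.ofNat 0), (.ofNat 0), (.ofNat 0), (.ofNat 0), (.ofNat 0)]), ([0, 0, 3, 4, 3, 5, 1, 1, 2, 0, 4, 2, 5], [(.ofNat 0), (.ofNat 0), (.ofNat 0), (.ofNat 0), (.ofNat 0), (.ofNat 0)]), ([0, 0, 4, 0, 4, 3, 5, 1, 2, 1, 5, 1, 2], [(.ofNat 0), (.ofNat 0), (.ofNat 0), (.ofNat 0), (.ofNat 0), (.ofNat 0)]), ([0, 0, 4, 1, 4, 3, 5, 0, 2, 0, 5, 1, 2], [(.ofNat 0), (.ofNat 0), (.ofNat 0), (.ofNat 0), (.ofNat 0), (.ofNat 0)]), ([0, 0, 4, 2, 1, 2, 0, 0, 5, 2, 2, 1, 2], [(.ofNat 0), (.ofNat 0), (.ofNat 0), (.ofNat 0), (.ofNat 0), (.ofNat 0)]), ([0, 0, 4, 2, 4, 1, 1, 3, 0, 5, 5, 1, 2], [(.ofNat 0), (.ofNat 0), (.ofNat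 0), (.ofNat 0), (.ofNat 0), (.ofNat 0)]), ([0, 0, 4, 2, 5, 0, 2, 0, 3, 0, 4, 3, 5], [(.ofNat 0), (.ofNat 0), (.ofNat 0), (.ofNat 0), (.ofNat 0), (.ofNat 0)]), ([0, 0, 4, 2, 5, 0, 4, 2, 5, 0, 2, 2, 2], [(.ofNat 0), (.ofNat 0), (.ofNat 0), (.ofNat 0), (.ofNat 0), (.ofNat 0)]), ([0, 0, 4, 2, 5, 1, 4, 3, 5, 1, 2, 0, 3], [(.ofNat 0), (.ofNat 0), (.ofNat 0), (.ofNat 0), (.ofNat 0), (.ofNat 0)]), ([0, 0, 4, 2, 5, 2, 0, 3, 0, 0, 4, 3, 5], [(.ofNat 0), (.ofNat 0), (.ofNat 0), (.ofNat 0), (.ofNat 0), (.ofNat 0)]), ([0, 0, 4, 2, 5, 2, 0, 3, 3, 0, 3, 3, 3], [(.ofNat 0), (.ofNat 0), (.ofNat 0), (.ofNat 0), (.ofNat 0), (.ofNat 0)]), ([0, 0, 4, 2, 5, 2, 0, 3, 3, 0, 5, 3, 4], [(.ofNat 0), (.ofNat 0), (.ofNat 0), (.ofNat 0), (.ofNat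 0), (.ofNat 0)]), ([0, 0, 4, 2, 5, 2, 1, 2, 2, 0, 4, 2, 5], [(.ofNat 0), (.ofNat 0), (.ofNat 0), (.ofNat 0), (.ofNat 0), (.ofNat 0)]), ([0, 0, 4, 2, 5, 2, 2, 1, 2, 1, 4, 2, 5], [(.ofNat 0), (.ofNat 0), (.ofNat 0), (.ofNat 0), (.ofNat 0), (.ofNat 0)]), ([0, 0, 4, 3, 3, 3, 5, 1, 3, 5, 2, 4, 3], [(.ofNat 0), (.ofNat 0), (.ofNat 0), (.ofNat 0), (.ofNat 0), (.ofNat 0)]), ([0, 0, 4, 3, 5, 0, 0, 5, 3, 3, 4, 0, 3], [(.ofNat 0), (.ofNat 0), (.ofNat 0), (.ofNat 0), (.ofNat 0), (.ofNat 0)]), ([0, 0, 4, 3, 5, 0, 3, 3, 1, 3, 4, 3, 5], [(.ofNat 0), (.ofNat 0), (.ofNat 0), (.ofNat 0), (.ofNat 0), (.ofNat 0)]), ([0, 0, 4, 3, 5, 0, 3, 3, 1, 4, 3, 5, 3], [(.ofNat 0), (.ofNat 0), (.ofNat 0), (.ofNat 0), (.ofNat 0), (.ofNat 0)]), ([0,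 0, 4, 3, 5, 0, 3, 3, 1, 5, 2, 2, 4], [(.ofNat 0), (.ofNat 0), (.ofNat 0), (.ofNat 0), (.ofNat 0), (.ofNat 0)]), ([0, 0, 4, 3, 5, 1, 3, 1, 4, 3, 5, 3, 3], [(.ofNat 0), (.ofNat 0), (.ofNat 0), (.ofNat 0), (.ofNat 0), (.ofNat 0)]), ([0, 0, 4, 3, 5, 1, 3, 1, 4, 4, 2, 5, 5], [(.ofNat 0), (.ofNat 0), (.ofNat 0), (.ofNat 0), (.ofNat 0), (.ofNat 0)]), ([0, 0, 4, 3, 5, 3, 0, 3, 4, 3, 5, 0, 3], [(.ofNat 0), (.ofNat 0), (.ofNat 0), (.ofNat 0), (.ofNat 0), (.ofNat 0)]), ([0, 0, 4, 3, 5, 3, 0, 4, 3, 5, 3, 0, 3], [(.ofNat 0), (.ofNat 0), (.ofNat 0), (.ofNat 0), (.ofNat 0), (.ofNat 0)]), ([0, 0, 4, 3, 5, 3, 0, 5, 2, 2, 4, 0, 3], [(.ofNat 0), (.ofNat 0), (.ofNat 0), (.ofNat 0), (.ofNat 0), (.ofNat 0)]), ([0, 0, 4, 4, 2, 1, 2, 0, 0,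 5, 5, 1, 2], [(.ofNat 0), (.ofNat 0), (.ofNat 0), (.ofNat 0), (.ofNat 0), (.ofNat 0)]), ([0, 0, 4, 4, 3, 5, 5, 1, 2, 1, 4, 2, 5], [(.ofNat 0), (.ofNat 0), (.ofNat 0), (.ofNat 0), (.ofNat 0), (.ofNat 0)]), ([0, 0, 5, 0, 3, 3, 3, 1, 3, 1, 4, 1, 2], [(.ofNat 0), (.ofNat 0), (.ofNat 0), (.ofNat 0), (.ofNat 0), (.ofNat 0)]), ([0, 0, 5, 0, 5, 3, 4, 1, 3, 1, 4, 1, 2], [(.ofNat 0), (.ofNat 0), (.ofNat 0), (.ofNat 0), (.ofNat 0), (.ofNat 0)]), ([0, 0, 5, 1, 3, 3, 3, 0, 3, 0, 4, 1, 2], [(.ofNat 0), (.ofNat 0), (.ofNat 0), (.ofNat 0), (.ofNat 0), (.ofNat 0)]), ([0, 0, 5, 1, 5, 3, 4, 0, 3, 0, 4, 1, 2], [(.ofNat 0), (.ofNat 0), (.ofNat 0), (.ofNat 0), (.ofNat 0), (.ofNat 0)]), ([0, 0, 5, 2, 2, 4, 0, 3, 4, 3, 5, 0, 3], [(.ofNat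 0), (.ofNat 0), (.ofNat 0), (.ofNat 0), (.ofNat 0), (.ofNat 0)]), ([0, 0, 5, 2, 2, 4, 0, 4, 3, 5, 3, 0, 3], [(.ofNat 0), (.ofNat 0), (.ofNat 0), (.ofNat 0), (.ofNat 0), (.ofNat 0)]), ([0, 0, 5, 2, 2, 4, 0, 5, 2, 2, 4, 0, 3], [(.ofNat 0), (.ofNat 0), (.ofNat 0), (.ofNat 0), (.ofNat 0), (.ofNat 0)]), ([0, 0, 5, 2, 2, 4, 1, 2, 1, 2, 5, 2, 4], [(.ofNat 0), (.ofNat 0), (.ofNat 0), (.ofNat 0), (.ofNat 0), (.ofNat 0)]), ([0, 0, 5, 2, 4, 0, 2, 2, 0, 3, 4, 3, 5], [(.ofNat 0), (.ofNat 0), (.ofNat 0), (.ofNat 0), (.ofNat 0), (.ofNat 0)]), ([0, 0, 5, 2, 4, 0, 2, 2, 0, 4, 3, 5, 3], [(.ofNat 0), (.ofNat 0), (.ofNat 0), (.ofNat 0), (.ofNat 0), (.ofNat 0)]), ([0, 0, 5, 2, 4, 0, 2, 2, 0, 5, 2, 2, 4], [(.ofNat 0), (.ofNat 0), (.ofNat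 0), (.ofNat 0), (.ofNat 0), (.ofNat 0)]), ([0, 0, 5, 3, 3, 4, 0, 3, 3, 0, 3, 3, 3], [(.ofNat 0), (.ofNat 0), (.ofNat 0), (.ofNat 0), (.ofNat 0), (.ofNat 0)]), ([0, 0, 5, 3, 3, 4, 0, 3, 3, 0, 5, 3, 4], [(.ofNat 0), (.ofNat 0), (.ofNat 0), (.ofNat 0), (.ofNat 0), (.ofNat 0)]), ([0, 0, 5, 3, 3, 4, 1, 2, 2, 0, 4, 2, 5], [(.ofNat 0), (.ofNat 0), (.ofNat 0), (.ofNat 0), (.ofNat 0), (.ofNat 0)]), ([0, 0, 5, 3, 3, 4, 2, 1, 2, 1, 4, 2, 5], [(.ofNat 0), (.ofNat 0), (.ofNat 0), (.ofNat 0), (.ofNat 0), (.ofNat 0)]), ([0, 0, 5, 3, 3, 4, 3, 1, 3, 3, 3, 1, 3], [(.ofNat 0), (.ofNat 0), (.ofNat 0), (.ofNat 0), (.ofNat 0), (.ofNat 0)]), ([0, 0, 5, 3, 4, 0, 2, 2, 2, 0, 2, 0, 3], [(.ofNat 0), (.ofNat 0), (.ofNat 0), (.ofNat 0), (.ofNat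 0), (.ofNat 0)]), ([0, 0, 5, 3, 4, 1, 2, 4, 2, 5, 0, 3, 3], [(.ofNat 0), (.ofNat 0), (.ofNat 0), (.ofNat 0), (.ofNat 0), (.ofNat 0)]), ([0, 0, 5, 3, 4, 1, 4, 2, 5, 2, 0, 3, 3], [(.ofNat 0), (.ofNat 0), (.ofNat 0), (.ofNat 0), (.ofNat 0), (.ofNat 0)]), ([0, 0, 5, 3, 4, 1, 5, 3, 3, 4, 0, 3, 3], [(.ofNat 0), (.ofNat 0), (.ofNat 0), (.ofNat 0), (.ofNat 0), (.ofNat 0)]), ([0, 0, 5, 3, 4, 2, 0, 4, 2, 5, 1, 3, 3], [(.ofNat 0), (.ofNat 0), (.ofNat 0), (.ofNat 0), (.ofNat 0), (.ofNat 0)]), ([0, 0, 5, 3, 4, 2, 2, 1, 3, 5, 2, 4, 3], [(.ofNat 0), (.ofNat 0), (.ofNat 0), (.ofNat 0), (.ofNat 0), (.ofNat 0)]), ([0, 0, 5, 3, 4, 3, 1, 3, 1, 5, 3, 3, 4], [(.ofNat 0), (.ofNat 0), (.ofNat 0), (.ofNat 0), (.ofNat 0), (.ofNat 0)]), ([0,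 2, 0, 2, 0, 2, 5, 2, 2, 4, 0, 2, 2], [(.ofNat 0), (.ofNat 0), (.ofNat 0), (.ofNat 0), (.ofNat 0), (.ofNat 0)]), ([0, 2, 0, 2, 0, 4, 3, 5, 0, 3, 5, 2, 4], [(.ofNat 0), (.ofNat 0), (.ofNat 0), (.ofNat 0), (.ofNat 0), (.ofNat 0)]), ([0, 2, 0, 2, 0, 5, 2, 2, 4, 2, 0, 2, 2], [(.ofNat 0), (.ofNat 0), (.ofNat 0), (.ofNat 0), (.ofNat 0), (.ofNat 0)]), ([0, 2, 0, 2, 1, 2, 4, 2, 5, 0, 4, 2, 5], [(.ofNat 0), (.ofNat 0), (.ofNat 0), (.ofNat 0), (.ofNat 0), (.ofNat 0)]), ([0, 2, 0, 2, 2, 0, 4, 2, 5, 1, 4, 2, 5], [(.ofNat 0), (.ofNat 0), (.ofNat 0), (.ofNat 0), (.ofNat 0), (.ofNat 0)]), ([0, 2, 0, 2, 2, 1, 5, 3, 4, 0, 2, 0, 3], [(.ofNat 0), (.ofNat 0), (.ofNat 0), (.ofNat 0), (.ofNat 0), (.ofNat 0)]), ([0, 2, 0, 2, 2, 2, 1, 2, 2,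 2, 4, 2, 5], [(.ofNat 0), (.ofNat 0), (.ofNat 0), (.ofNat 0), (.ofNat 0), (.ofNat 0)]), ([0, 2, 0, 2, 2, 2, 1, 2, 4, 4, 3, 5, 5], [(.ofNat 0), (.ofNat 0), (.ofNat 0), (.ofNat 0), (.ofNat 0), (.ofNat 0)]), ([0, 2, 0, 2, 2, 2, 1, 4, 3, 4, 4, 4, 4], [(.ofNat 0), (.ofNat 0), (.ofNat 0), (.ofNat 0), (.ofNat 0), (.ofNat 0)]), ([0, 2, 0, 2, 2, 2, 1, 5, 5, 2, 2, 4, 4], [(.ofNat 0), (.ofNat 0), (.ofNat 0), (.ofNat 0), (.ofNat 0), (.ofNat 0)]), ([0, 2, 0, 2, 4, 2, 2, 5, 1, 2, 2, 0, 3], [(.ofNat 0), (.ofNat 0), (.ofNat 0), (.ofNat 0), (.ofNat 0), (.ofNat 0)]), ([0, 2, 0, 2, 4, 2, 5, 3, 3, 1, 4, 3, 5], [(.ofNat 0), (.ofNat 0), (.ofNat 0), (.ofNat 0), (.ofNat 0), (.ofNat 0)]), ([0, 2, 0, 2, 4, 3, 3, 5, 3, 1, 4, 3, 5], [(.ofNat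 0), (.ofNat 0), (.ofNat 0), (.ofNat 0), (.ofNat 0), (.ofNat 0)]), ([0, 2, 0, 2, 5, 2, 2, 2, 4, 1, 2, 1, 3], [(.ofNat 0), (.ofNat 0), (.ofNat 0), (.ofNat 0), (.ofNat 0), (.ofNat 0)]), ([0, 2, 0, 2, 5, 2, 4, 3, 1, 3, 5, 3, 4], [(.ofNat 0), (.ofNat 0), (.ofNat 0), (.ofNat 0), (.ofNat 0), (.ofNat 0)]), ([0, 2, 0, 2, 5, 3, 3, 3, 4, 1, 4, 3, 5], [(.ofNat 0), (.ofNat 0), (.ofNat 0), (.ofNat 0), (.ofNat 0), (.ofNat 0)]), ([0, 2, 0, 2, 5, 5, 2, 4, 4, 1, 2, 1, 3], [(.ofNat 0), (.ofNat 0), (.ofNat 0), (.ofNat 0), (.ofNat 0), (.ofNat 0)]), ([0, 2, 0, 2, 5, 5, 3, 4, 4, 1, 4, 3, 5], [(.ofNat 0), (.ofNat 0), (.ofNat 0), (.ofNat 0), (.ofNat 0), (.ofNat 0)]), ([0, 2, 0, 3, 0, 5, 2, 4, 0, 3, 0, 3, 3], [(.ofNat 0), (.ofNat 0), (.ofNat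 0), (.ofNat 0), (.ofNat 0), (.ofNat 0)]), ([0, 2, 0, 3, 1, 2, 1, 2, 5, 2, 2, 2, 4], [(.ofNat 0), (.ofNat 0), (.ofNat 0), (.ofNat 0), (.ofNat 0), (.ofNat 0)]), ([0, 2, 0, 3, 1, 2, 1, 2, 5, 5, 2, 4, 4], [(.ofNat 0), (.ofNat 0), (.ofNat 0), (.ofNat 0), (.ofNat 0), (.ofNat 0)]), ([0, 2, 0, 3, 1, 2, 1, 4, 2, 4, 3, 5, 5], [(.ofNat 0), (.ofNat 0), (.ofNat 0), (.ofNat 0), (.ofNat 0), (.ofNat 0)]), ([0, 2, 0, 3, 1, 2, 1, 4, 4, 2, 2, 5, 5], [(.ofNat 0), (.ofNat 0), (.ofNat 0), (.ofNat 0), (.ofNat 0), (.ofNat 0)]), ([0, 2, 0, 3, 1, 2, 1, 5, 3, 5, 3, 4, 4], [(.ofNat 0), (.ofNat 0), (.ofNat 0), (.ofNat 0), (.ofNat 0), (.ofNat 0)]), ([0, 2, 0, 3, 3, 0, 3, 3, 0, 3, 4, 2, 5], [(.ofNat 0), (.ofNat 0), (.ofNat 0), (.ofNat 0), (.ofNat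 0), (.ofNat 0)]), ([0, 2, 0, 3, 3, 0, 3, 3, 0, 4, 3, 3, 5], [(.ofNat 0), (.ofNat 0), (.ofNat 0), (.ofNat 0), (.ofNat 0), (.ofNat 0)]), ([0, 2, 0, 3, 3, 1, 4, 3, 3, 5, 3, 0, 3], [(.ofNat 0), (.ofNat 0), (.ofNat 0), (.ofNat 0), (.ofNat 0), (.ofNat 0)]), ([0, 2, 0, 3, 3, 1, 5, 3, 3, 3, 4, 0, 3], [(.ofNat 0), (.ofNat 0), (.ofNat 0), (.ofNat 0), (.ofNat 0), (.ofNat 0)]), ([0, 2, 0, 3, 3, 4, 2, 5, 2, 1, 4, 3, 5], [(.ofNat 0), (.ofNat 0), (.ofNat 0), (.ofNat 0), (.ofNat 0), (.ofNat 0)]), ([0, 2, 0, 3, 3, 5, 3, 3, 4, 1, 4, 3, 5], [(.ofNat 0), (.ofNat 0), (.ofNat 0), (.ofNat 0), (.ofNat 0), (.ofNat 0)]), ([0, 2, 0, 3, 4, 2, 5, 1, 2, 5, 2, 2, 4], [(.ofNat 0), (.ofNat 0), (.ofNat 0), (.ofNat 0), (.ofNat 0), (.ofNat 0)]), ([0,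 2, 0, 3, 4, 2, 5, 1, 3, 4, 2, 2, 5], [(.ofNat 0), (.ofNat 0), (.ofNat 0), (.ofNat 0), (.ofNat 0), (.ofNat 0)]), ([0, 2, 0, 3, 5, 2, 4, 2, 1, 3, 5, 3, 4], [(.ofNat 0), (.ofNat 0), (.ofNat 0), (.ofNat 0), (.ofNat 0), (.ofNat 0)]), ([0, 2, 0, 4, 2, 4, 3, 5, 5, 1, 2, 1, 3], [(.ofNat 0), (.ofNat 0), (.ofNat 0), (.ofNat 0), (.ofNat 0), (.ofNat 0)]), ([0, 2, 0, 4, 2, 5, 3, 1, 3, 4, 2, 2, 5], [(.ofNat 0), (.ofNat 0), (.ofNat 0), (.ofNat 0), (.ofNat 0), (.ofNat 0)]), ([0, 2, 0, 4, 3, 3, 5, 1, 2, 5, 2, 2, 4], [(.ofNat 0), (.ofNat 0), (.ofNat 0), (.ofNat 0), (.ofNat 0), (.ofNat 0)]), ([0, 2, 0, 4, 4, 2, 2, 5, 5, 1, 2, 1, 3], [(.ofNat 0), (.ofNat 0), (.ofNat 0), (.ofNat 0), (.ofNat 0), (.ofNat 0)]), ([0, 2, 0, 4, 4, 4, 4, 2, 4,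 1, 4, 3, 5], [(.ofNat 0), (.ofNat 0), (.ofNat 0), (.ofNat 0), (.ofNat 0), (.ofNat 0)]), ([0, 2, 0, 5, 2, 2, 2, 4, 1, 2, 2, 0, 3], [(.ofNat 0), (.ofNat 0), (.ofNat 0), (.ofNat 0), (.ofNat 0), (.ofNat 0)]), ([0, 2, 0, 5, 2, 4, 1, 2, 2, 2, 4, 2, 5], [(.ofNat 0), (.ofNat 0), (.ofNat 0), (.ofNat 0), (.ofNat 0), (.ofNat 0)]), ([0, 2, 0, 5, 2, 4, 1, 2, 4, 4, 3, 5, 5], [(.ofNat 0), (.ofNat 0), (.ofNat 0), (.ofNat 0), (.ofNat 0), (.ofNat 0)]), ([0, 2, 0, 5, 2, 4, 1, 4, 3, 4, 4, 4, 4], [(.ofNat 0), (.ofNat 0), (.ofNat 0), (.ofNat 0), (.ofNat 0), (.ofNat 0)]), ([0, 2, 0, 5, 2, 4, 1, 5, 5, 2, 2, 4, 4], [(.ofNat 0), (.ofNat 0), (.ofNat 0), (.ofNat 0), (.ofNat 0), (.ofNat 0)]), ([0, 2, 0, 5, 2, 5, 5, 5, 5, 1, 4, 3, 5], [(.ofNat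 0), (.ofNat 0), (.ofNat 0), (.ofNat 0), (.ofNat 0), (.ofNat 0)]), ([0, 2, 0, 5, 3, 3, 3, 4, 2, 1, 4, 3, 5], [(.ofNat 0), (.ofNat 0), (.ofNat 0), (.ofNat 0), (.ofNat 0), (.ofNat 0)]), ([0, 2, 0, 5, 3, 5, 3, 4, 4, 1, 2, 1, 3], [(.ofNat 0), (.ofNat 0), (.ofNat 0), (.ofNat 0), (.ofNat 0), (.ofNat 0)]), ([0, 2, 0, 5, 5, 3, 4, 4, 2, 1, 4, 3, 5], [(.ofNat 0), (.ofNat 0), (.ofNat 0), (.ofNat 0), (.ofNat 0), (.ofNat 0)]), ([0, 2, 1, 4, 2, 5, 1, 3, 3, 3, 0, 3, 3], [(.ofNat 0), (.ofNat 0), (.ofNat 0), (.ofNat 0), (.ofNat 0), (.ofNat 0)]), ([0, 2, 1, 4, 2, 5, 1, 5, 3, 4, 0, 3, 3], [(.ofNat 0), (.ofNat 0), (.ofNat 0), (.ofNat 0), (.ofNat 0), (.ofNat 0)]), ([0, 2, 2, 0, 2, 2, 0, 3, 0, 4, 2, 2, 5], [(.ofNat 0), (.ofNat 0), (.ofNat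 0), (.ofNat 0), (.ofNat 0), (.ofNat 0)]), ([0, 2, 2, 0, 2, 2, 0, 3, 0, 4, 3, 5, 2], [(.ofNat 0), (.ofNat 0), (.ofNat 0), (.ofNat 0), (.ofNat 0), (.ofNat 0)]), ([0, 2, 2, 0, 2, 2, 2, 1, 4, 3, 5, 1, 3], [(.ofNat 0), (.ofNat 0), (.ofNat 0), (.ofNat 0), (.ofNat 0), (.ofNat 0)]), ([0, 2, 2, 0, 2, 2, 5, 2, 4, 0, 4, 2, 5], [(.ofNat 0), (.ofNat 0), (.ofNat 0), (.ofNat 0), (.ofNat 0), (.ofNat 0)]), ([0, 2, 2, 0, 2, 4, 2, 5, 0, 2, 5, 2, 4], [(.ofNat 0), (.ofNat 0), (.ofNat 0), (.ofNat 0), (.ofNat 0), (.ofNat 0)]), ([0, 2, 2, 0, 2, 5, 2, 4, 2, 0, 4, 2, 5], [(.ofNat 0), (.ofNat 0), (.ofNat 0), (.ofNat 0), (.ofNat 0), (.ofNat 0)]), ([0, 2, 2, 0, 3, 3, 4, 3, 5, 0, 4, 2, 5], [(.ofNat 0), (.ofNat 0), (.ofNat 0), (.ofNat 0), (.ofNat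 0), (.ofNat 0)]), ([0, 2, 2, 0, 3, 4, 3, 5, 3, 0, 4, 2, 5], [(.ofNat 0), (.ofNat 0), (.ofNat 0), (.ofNat 0), (.ofNat 0), (.ofNat 0)]), ([0, 2, 2, 0, 3, 5, 2, 2, 4, 0, 4, 2, 5], [(.ofNat 0), (.ofNat 0), (.ofNat 0), (.ofNat 0), (.ofNat 0), (.ofNat 0)]), ([0, 2, 2, 0, 4, 2, 5, 2, 0, 2, 2, 2, 2], [(.ofNat 0), (.ofNat 0), (.ofNat 0), (.ofNat 0), (.ofNat 0), (.ofNat 0)]), ([0, 2, 2, 0, 4, 2, 5, 2, 0, 2, 5, 2, 4], [(.ofNat 0), (.ofNat 0), (.ofNat 0), (.ofNat 0), (.ofNat 0), (.ofNat 0)]), ([0, 2, 2, 0, 4, 2, 5, 2, 0, 5, 2, 4, 2], [(.ofNat 0), (.ofNat 0), (.ofNat 0), (.ofNat 0), (.ofNat 0), (.ofNat 0)]), ([0, 2, 2, 0, 4, 3, 5, 3, 3, 0, 4, 2, 5], [(.ofNat 0), (.ofNat 0), (.ofNat 0), (.ofNat 0), (.ofNat 0), (.ofNat 0)]), ([0,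 2, 2, 0, 4, 4, 2, 5, 5, 0, 4, 2, 5], [(.ofNat 0), (.ofNat 0), (.ofNat 0), (.ofNat 0), (.ofNat 0), (.ofNat 0)]), ([0, 2, 2, 0, 5, 2, 2, 4, 3, 0, 4, 2, 5], [(.ofNat 0), (.ofNat 0), (.ofNat 0), (.ofNat 0), (.ofNat 0), (.ofNat 0)]), ([0, 2, 2, 0, 5, 2, 4, 1, 4, 3, 5, 1, 3], [(.ofNat 0), (.ofNat 0), (.ofNat 0), (.ofNat 0), (.ofNat 0), (.ofNat 0)]), ([0, 2, 2, 0, 5, 3, 3, 4, 0, 2, 2, 2, 2], [(.ofNat 0), (.ofNat 0), (.ofNat 0), (.ofNat 0), (.ofNat 0), (.ofNat 0)]), ([0, 2, 2, 0, 5, 3, 3, 4, 0, 2, 5, 2, 4], [(.ofNat 0), (.ofNat 0), (.ofNat 0), (.ofNat 0), (.ofNat 0), (.ofNat 0)]), ([0, 2, 2, 0, 5, 3, 3, 4, 0, 5, 2, 4, 2], [(.ofNat 0), (.ofNat 0), (.ofNat 0), (.ofNat 0), (.ofNat 0), (.ofNat 0)]), ([0, 2, 2, 1, 2, 2, 1, 2, 0,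 3, 4, 3, 5], [(.ofNat 0), (.ofNat 0), (.ofNat 0), (.ofNat 0), (.ofNat 0), (.ofNat 0)]), ([0, 2, 2, 1, 2, 2, 2, 1, 2, 2, 4, 2, 5], [(.ofNat 0), (.ofNat 0), (.ofNat 0), (.ofNat 0), (.ofNat 0), (.ofNat 0)]), ([0, 2, 2, 1, 2, 2, 2, 1, 4, 4, 3, 5, 5], [(.ofNat 0), (.ofNat 0), (.ofNat 0), (.ofNat 0), (.ofNat 0), (.ofNat 0)]), ([0, 2, 2, 1, 3, 4, 2, 5, 1, 3, 4, 3, 5], [(.ofNat 0), (.ofNat 0), (.ofNat 0), (.ofNat 0), (.ofNat 0), (.ofNat 0)]), ([0, 2, 2, 1, 3, 4, 2, 5, 1, 4, 3, 5, 3], [(.ofNat 0), (.ofNat 0), (.ofNat 0), (.ofNat 0), (.ofNat 0), (.ofNat 0)]), ([0, 2, 2, 1, 4, 2, 5, 3, 1, 3, 4, 3, 5], [(.ofNat 0), (.ofNat 0), (.ofNat 0), (.ofNat 0), (.ofNat 0), (.ofNat 0)]), ([0, 2, 2, 1, 4, 2, 5, 3, 1, 4, 3, 5, 3], [(.ofNat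 0), (.ofNat 0), (.ofNat 0), (.ofNat 0), (.ofNat 0), (.ofNat 0)]), ([0, 2, 2, 1, 4, 2, 5, 3, 1, 5, 2, 2, 4], [(.ofNat 0), (.ofNat 0), (.ofNat 0), (.ofNat 0), (.ofNat 0), (.ofNat 0)]), ([0, 2, 2, 1, 4, 3, 3, 5, 1, 3, 4, 3, 5], [(.ofNat 0), (.ofNat 0), (.ofNat 0), (.ofNat 0), (.ofNat 0), (.ofNat 0)]), ([0, 2, 2, 1, 4, 3, 3, 5, 1, 5, 2, 2, 4], [(.ofNat 0), (.ofNat 0), (.ofNat 0), (.ofNat 0), (.ofNat 0), (.ofNat 0)]), ([0, 2, 2, 1, 5, 2, 4, 1, 2, 2, 4, 2, 5], [(.ofNat 0), (.ofNat 0), (.ofNat 0), (.ofNat 0), (.ofNat 0), (.ofNat 0)]), ([0, 2, 2, 1, 5, 2, 4, 1, 2, 4, 2, 5, 2], [(.ofNat 0), (.ofNat 0), (.ofNat 0), (.ofNat 0), (.ofNat 0), (.ofNat 0)]), ([0, 2, 2, 1, 5, 2, 4, 1, 4, 2, 5, 2, 2], [(.ofNat 0), (.ofNat 0), (.ofNat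 0), (.ofNat 0), (.ofNat 0), (.ofNat 0)]), ([0, 2, 2, 1, 5, 2, 4, 1, 4, 4, 3, 5, 5], [(.ofNat 0), (.ofNat 0), (.ofNat 0), (.ofNat 0), (.ofNat 0), (.ofNat 0)]), ([0, 2, 2, 1, 5, 2, 4, 1, 5, 3, 3, 4, 2], [(.ofNat 0), (.ofNat 0), (.ofNat 0), (.ofNat 0), (.ofNat 0), (.ofNat 0)]), ([0, 2, 2, 2, 0, 2, 2, 4, 2, 5, 1, 2, 2], [(.ofNat 0), (.ofNat 0), (.ofNat 0), (.ofNat 0), (.ofNat 0), (.ofNat 0)]), ([0, 2, 2, 2, 0, 4, 4, 3, 5, 5, 1, 2, 2], [(.ofNat 0), (.ofNat 0), (.ofNat 0), (.ofNat 0), (.ofNat 0), (.ofNat 0)]), ([0, 2, 2, 2, 4, 2, 5, 1, 2, 1, 2, 2, 2], [(.ofNat 0), (.ofNat 0), (.ofNat 0), (.ofNat 0), (.ofNat 0), (.ofNat 0)]), ([0, 2, 2, 2, 4, 2, 5, 1, 2, 1, 5, 2, 4], [(.ofNat 0), (.ofNat 0), (.ofNat 0), (.ofNat 0), (.ofNat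 0), (.ofNat 0)]), ([0, 2, 2, 4, 2, 5, 0, 3, 3, 0, 4, 3, 5], [(.ofNat 0), (.ofNat 0), (.ofNat 0), (.ofNat 0), (.ofNat 0), (.ofNat 0)]), ([0, 2, 2, 4, 2, 5, 1, 2, 2, 0, 5, 2, 4], [(.ofNat 0), (.ofNat 0), (.ofNat 0), (.ofNat 0), (.ofNat 0), (.ofNat 0)]), ([0, 2, 4, 2, 5, 1, 4, 2, 5, 1, 2, 1, 2], [(.ofNat 0), (.ofNat 0), (.ofNat 0), (.ofNat 0), (.ofNat 0), (.ofNat 0)]), ([0, 2, 4, 2, 5, 1, 4, 3, 5, 2, 1, 3, 3], [(.ofNat 0), (.ofNat 0), (.ofNat 0), (.ofNat 0), (.ofNat 0), (.ofNat 0)]), ([0, 2, 4, 2, 5, 2, 0, 3, 3, 0, 4, 3, 5], [(.ofNat 0), (.ofNat 0), (.ofNat 0), (.ofNat 0), (.ofNat 0), (.ofNat 0)]), ([0, 2, 4, 2, 5, 2, 2, 1, 2, 1, 5, 2, 4], [(.ofNat 0), (.ofNat 0), (.ofNat 0), (.ofNat 0), (.ofNat 0), (.ofNat 0)]), ([0,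 2, 4, 4, 3, 5, 5, 1, 2, 1, 2, 2, 2], [(.ofNat 0), (.ofNat 0), (.ofNat 0), (.ofNat 0), (.ofNat 0), (.ofNat 0)]), ([0, 2, 4, 4, 3, 5, 5, 1, 2, 1, 5, 2, 4], [(.ofNat 0), (.ofNat 0), (.ofNat 0), (.ofNat 0), (.ofNat 0), (.ofNat 0)]), ([0, 2, 5, 2, 2, 4, 1, 2, 1, 3, 4, 2, 5], [(.ofNat 0), (.ofNat 0), (.ofNat 0), (.ofNat 0), (.ofNat 0), (.ofNat 0)]), ([0, 2, 5, 2, 2, 4, 1, 2, 1, 4, 3, 3, 5], [(.ofNat 0), (.ofNat 0), (.ofNat 0), (.ofNat 0), (.ofNat 0), (.ofNat 0)]), ([0, 2, 5, 3, 3, 4, 0, 3, 3, 0, 4, 3, 5], [(.ofNat 0), (.ofNat 0), (.ofNat 0), (.ofNat 0), (.ofNat 0), (.ofNat 0)]), ([0, 3, 0, 3, 0, 3, 3, 0, 3, 5, 3, 3, 4], [(.ofNat 0), (.ofNat 0), (.ofNat 0), (.ofNat 0), (.ofNat 0), (.ofNat 0)]), ([0, 3, 0, 3, 0, 3, 3, 0, 5,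 3, 3, 4, 3], [(.ofNat 0), (.ofNat 0), (.ofNat 0), (.ofNat 0), (.ofNat 0), (.ofNat 0)]), ([0, 3, 0, 3, 0, 5, 3, 4, 2, 0, 4, 2, 5], [(.ofNat 0), (.ofNat 0), (.ofNat 0), (.ofNat 0), (.ofNat 0), (.ofNat 0)]), ([0, 3, 0, 3, 3, 3, 4, 3, 5, 1, 5, 3, 4], [(.ofNat 0), (.ofNat 0), (.ofNat 0), (.ofNat 0), (.ofNat 0), (.ofNat 0)]), ([0, 3, 0, 3, 3, 5, 2, 2, 4, 1, 5, 3, 4], [(.ofNat 0), (.ofNat 0), (.ofNat 0), (.ofNat 0), (.ofNat 0), (.ofNat 0)]), ([0, 3, 0, 3, 4, 2, 5, 2, 1, 2, 4, 3, 5], [(.ofNat 0), (.ofNat 0), (.ofNat 0), (.ofNat 0), (.ofNat 0), (.ofNat 0)]), ([0, 3, 0, 3, 5, 3, 3, 4, 1, 2, 4, 3, 5], [(.ofNat 0), (.ofNat 0), (.ofNat 0), (.ofNat 0), (.ofNat 0), (.ofNat 0)]), ([0, 3, 0, 4, 2, 5, 1, 2, 2, 4, 3, 5, 3], [(.ofNat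 0), (.ofNat 0), (.ofNat 0), (.ofNat 0), (.ofNat 0), (.ofNat 0)]), ([0, 3, 0, 4, 2, 5, 1, 2, 4, 2, 2, 5, 3], [(.ofNat 0), (.ofNat 0), (.ofNat 0), (.ofNat 0), (.ofNat 0), (.ofNat 0)]), ([0, 3, 0, 4, 2, 5, 1, 3, 4, 3, 5, 2, 2], [(.ofNat 0), (.ofNat 0), (.ofNat 0), (.ofNat 0), (.ofNat 0), (.ofNat 0)]), ([0, 3, 0, 4, 2, 5, 1, 3, 5, 2, 2, 2, 4], [(.ofNat 0), (.ofNat 0), (.ofNat 0), (.ofNat 0), (.ofNat 0), (.ofNat 0)]), ([0, 3, 0, 4, 2, 5, 1, 3, 5, 5, 2, 4, 4], [(.ofNat 0), (.ofNat 0), (.ofNat 0), (.ofNat 0), (.ofNat 0), (.ofNat 0)]), ([0, 3, 0, 4, 2, 5, 1, 4, 4, 4, 4, 3, 4], [(.ofNat 0), (.ofNat 0), (.ofNat 0), (.ofNat 0), (.ofNat 0), (.ofNat 0)]), ([0, 3, 0, 4, 2, 5, 1, 5, 2, 2, 2, 4, 3], [(.ofNat 0), (.ofNat 0), (.ofNat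 0), (.ofNat 0), (.ofNat 0), (.ofNat 0)]), ([0, 3, 0, 4, 2, 5, 1, 5, 2, 2, 4, 2, 2], [(.ofNat 0), (.ofNat 0), (.ofNat 0), (.ofNat 0), (.ofNat 0), (.ofNat 0)]), ([0, 3, 0, 4, 2, 5, 1, 5, 3, 5, 5, 5, 5], [(.ofNat 0), (.ofNat 0), (.ofNat 0), (.ofNat 0), (.ofNat 0), (.ofNat 0)]), ([0, 3, 0, 4, 2, 5, 1, 5, 5, 2, 4, 4, 3], [(.ofNat 0), (.ofNat 0), (.ofNat 0), (.ofNat 0), (.ofNat 0), (.ofNat 0)]), ([0, 3, 0, 4, 3, 3, 5, 2, 1, 2, 4, 3, 5], [(.ofNat 0), (.ofNat 0), (.ofNat 0), (.ofNat 0), (.ofNat 0), (.ofNat 0)]), ([0, 3, 0, 4, 3, 3, 5, 2, 1, 4, 3, 5, 2], [(.ofNat 0), (.ofNat 0), (.ofNat 0), (.ofNat 0), (.ofNat 0), (.ofNat 0)]), ([0, 3, 0, 4, 3, 5, 0, 3, 4, 3, 5, 1, 3], [(.ofNat 0), (.ofNat 0), (.ofNat 0), (.ofNat 0), (.ofNat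 0), (.ofNat 0)]), ([0, 3, 0, 4, 3, 5, 1, 4, 3, 5, 0, 3, 3], [(.ofNat 0), (.ofNat 0), (.ofNat 0), (.ofNat 0), (.ofNat 0), (.ofNat 0)]), ([0, 3, 0, 5, 2, 4, 2, 1, 2, 5, 3, 4, 3], [(.ofNat 0), (.ofNat 0), (.ofNat 0), (.ofNat 0), (.ofNat 0), (.ofNat 0)]), ([0, 3, 0, 5, 2, 4, 2, 1, 3, 5, 3, 4, 2], [(.ofNat 0), (.ofNat 0), (.ofNat 0), (.ofNat 0), (.ofNat 0), (.ofNat 0)]), ([0, 3, 0, 5, 5, 3, 3, 4, 4, 1, 3, 3, 3], [(.ofNat 0), (.ofNat 0), (.ofNat 0), (.ofNat 0), (.ofNat 0), (.ofNat 0)]), ([0, 3, 0, 5, 5, 3, 3, 4, 4, 1, 5, 3, 4], [(.ofNat 0), (.ofNat 0), (.ofNat 0), (.ofNat 0), (.ofNat 0), (.ofNat 0)]), ([0, 3, 0, 5, 5, 5, 5, 2, 5, 1, 3, 3, 3], [(.ofNat 0), (.ofNat 0), (.ofNat 0), (.ofNat 0), (.ofNat 0), (.ofNat 0)]), ([0,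 3, 0, 5, 5, 5, 5, 2, 5, 1, 5, 3, 4], [(.ofNat 0), (.ofNat 0), (.ofNat 0), (.ofNat 0), (.ofNat 0), (.ofNat 0)]), ([0, 3, 3, 0, 3, 3, 3, 3, 0, 3, 4, 3, 5], [(.ofNat 0), (.ofNat 0), (.ofNat 0), (.ofNat 0), (.ofNat 0), (.ofNat 0)]), ([0, 3, 3, 0, 3, 3, 3, 3, 0, 4, 3, 5, 3], [(.ofNat 0), (.ofNat 0), (.ofNat 0), (.ofNat 0), (.ofNat 0), (.ofNat 0)]), ([0, 3, 3, 0, 3, 3, 3, 3, 0, 5, 2, 2, 4], [(.ofNat 0), (.ofNat 0), (.ofNat 0), (.ofNat 0), (.ofNat 0), (.ofNat 0)]), ([0, 3, 3, 0, 3, 5, 3, 4, 0, 3, 4, 3, 5], [(.ofNat 0), (.ofNat 0), (.ofNat 0), (.ofNat 0), (.ofNat 0), (.ofNat 0)]), ([0, 3, 3, 0, 3, 5, 3, 4, 0, 5, 2, 2, 4], [(.ofNat 0), (.ofNat 0), (.ofNat 0), (.ofNat 0), (.ofNat 0), (.ofNat 0)]), ([0, 3, 3, 0, 4, 3, 5, 0, 3,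 5, 3, 4, 3], [(.ofNat 0), (.ofNat 0), (.ofNat 0), (.ofNat 0), (.ofNat 0), (.ofNat 0)]), ([0, 3, 3, 0, 4, 3, 5, 0, 4, 2, 5, 2, 2], [(.ofNat 0), (.ofNat 0), (.ofNat 0), (.ofNat 0), (.ofNat 0), (.ofNat 0)]), ([0, 3, 3, 0, 4, 3, 5, 0, 4, 4, 3, 5, 5], [(.ofNat 0), (.ofNat 0), (.ofNat 0), (.ofNat 0), (.ofNat 0), (.ofNat 0)]), ([0, 3, 3, 0, 4, 3, 5, 0, 5, 3, 3, 4, 2], [(.ofNat 0), (.ofNat 0), (.ofNat 0), (.ofNat 0), (.ofNat 0), (.ofNat 0)]), ([0, 3, 3, 0, 4, 3, 5, 0, 5, 3, 4, 3, 3], [(.ofNat 0), (.ofNat 0), (.ofNat 0), (.ofNat 0), (.ofNat 0), (.ofNat 0)]), ([0, 3, 3, 0, 5, 3, 4, 3, 0, 3, 4, 3, 5], [(.ofNat 0), (.ofNat 0), (.ofNat 0), (.ofNat 0), (.ofNat 0), (.ofNat 0)]), ([0, 3, 3, 0, 5, 3, 4, 3, 0, 4, 3, 5, 3], [(.ofNat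 0), (.ofNat 0), (.ofNat 0), (.ofNat 0), (.ofNat 0), (.ofNat 0)]), ([0, 3, 3, 0, 5, 3, 4, 3, 0, 5, 2, 2, 4], [(.ofNat 0), (.ofNat 0), (.ofNat 0), (.ofNat 0), (.ofNat 0), (.ofNat 0)]), ([0, 3, 3, 4, 3, 5, 1, 5, 3, 4, 1, 3, 3], [(.ofNat 0), (.ofNat 0), (.ofNat 0), (.ofNat 0), (.ofNat 0), (.ofNat 0)]), ([0, 3, 4, 2, 5, 0, 3, 4, 3, 5, 1, 2, 2], [(.ofNat 0), (.ofNat 0), (.ofNat 0), (.ofNat 0), (.ofNat 0), (.ofNat 0)]), ([0, 3, 4, 3, 5, 1, 2, 2, 0, 4, 2, 5, 3], [(.ofNat 0), (.ofNat 0), (.ofNat 0), (.ofNat 0), (.ofNat 0), (.ofNat 0)]), ([0, 3, 4, 3, 5, 1, 2, 2, 0, 4, 3, 3, 5], [(.ofNat 0), (.ofNat 0), (.ofNat 0), (.ofNat 0), (.ofNat 0), (.ofNat 0)]), ([0, 4, 2, 5, 3, 0, 5, 2, 2, 4, 1, 2, 2], [(.ofNat 0), (.ofNat 0), (.ofNat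 0), (.ofNat 0), (.ofNat 0), (.ofNat 0)]), ([0, 4, 3, 3, 5, 0, 5, 2, 2, 4, 1, 2, 2], [(.ofNat 0), (.ofNat 0), (.ofNat 0), (.ofNat 0), (.ofNat 0), (.ofNat 0)]), ([0, 4, 4, 2, 5, 5, 1, 5, 3, 4, 1, 3, 3], [(.ofNat 0), (.ofNat 0), (.ofNat 0), (.ofNat 0), (.ofNat 0), (.ofNat 0)]), ([6, 6, 6, 6, 6, 6, 6, 6, 6, 6, 6, 6, 6, 6, 6, 6, 6, 6, 6, 6, 6, 6, 6], [(.ofNat 0), (.ofNat 0), (.ofNat 0), (.ofNat 0), (.ofNat 0), (.ofNat 0)]), ([6, 1, 1, 1, 1, 5, 7, 5, 0, 0, 0, 0, 4, 4, 0, 5, 5], [(.ofNat 0), (.ofNat 0), (.ofNat 0), (.ofNat 0), (.ofNat 0), (.ofNat 0)]), ([6, 4, 0, 0, 0, 0, 7, 4, 4, 1, 5, 5, 1, 1, 1, 1, 4], [(.ofNat 0), (.ofNat 0), (.ofNat 0), (.ofNat 0), (.ofNat 0), (.ofNat 0)]), ([6, 2, 5, 0, 0, 5, 3, 7, 4, 1, 2, 4, 4, 0,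 5, 2, 5, 5, 0], [(.ofNat 0), (.ofNat 0), (.ofNat 0), (.ofNat 0), (.ofNat 0), (.ofNat 0)]), ([6, 2, 4, 1, 1, 4, 3, 7, 5, 0, 5, 3, 1, 4, 1, 5, 3, 1, 1], [(.ofNat 0), (.ofNat 0), (.ofNat 0), (.ofNat 0), (.ofNat 0), (.ofNat 0)]), ([6, 0, 0, 0, 0, 0, 4, 1, 7, 0, 4, 1, 4, 0, 5, 1, 3, 5, 1, 3], [(.ofNat 0), (.ofNat 0), (.ofNat 0), (.ofNat 0), (.ofNat 0), (.ofNat 0)]), ([6, 0, 3, 5, 0, 4, 1, 2, 7, 2, 0, 4, 0, 5, 2, 2, 0, 3, 5, 5, 1], [(.ofNat 0), (.ofNat 0), (.ofNat 0), (.ofNat 0), (.ofNat 0), (.ofNat 0)]), ([6, 0, 5, 1, 1, 1, 1, 1, 7, 2, 0, 4, 2, 0, 4, 1, 5, 0, 5, 1], [(.ofNat 0), (.ofNat 0), (.ofNat 0), (.ofNat 0), (.ofNat 0), (.ofNat 0)]), ([6, 1, 2, 5, 1, 4, 4, 2, 7, 0, 3, 4, 1, 5, 5, 2, 0, 5, 5, 1], [(.ofNat 0), (.ofNat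 0), (.ofNat 0), (.ofNat 0), (.ofNat 0), (.ofNat 0)]), ([6, 2, 4, 1, 3, 5, 1, 5, 7, 2, 1, 2, 5, 3, 0, 0, 5, 1, 1, 4, 2], [(.ofNat 0), (.ofNat 0), (.ofNat 0), (.ofNat 0), (.ofNat 0), (.ofNat 0)]), ([6, 3, 0, 0, 4, 0, 4, 2, 7, 2, 0, 4, 0, 5, 5, 3, 0, 4, 1, 3], [(.ofNat 0), (.ofNat 0), (.ofNat 0), (.ofNat 0), (.ofNat 0), (.ofNat 0)]), ([6, 3, 0, 5, 1, 4, 2, 1, 7, 3, 3, 1, 4, 4, 3, 0, 5, 0, 3, 4, 1], [(.ofNat 0), (.ofNat 0), (.ofNat 0), (.ofNat 0), (.ofNat 0), (.ofNat 0)]), ([6, 3, 1, 4, 4, 0, 4, 4, 7, 3, 4, 3, 1, 5, 3, 1, 5, 3, 1, 1], [(.ofNat 0), (.ofNat 0), (.ofNat 0), (.ofNat 0), (.ofNat 0), (.ofNat 0)]), ([6, 3, 3, 1, 1, 5, 0, 5, 7, 4, 0, 3, 3, 4, 1, 3, 4, 1, 3, 4, 0], [(.ofNat 0), (.ofNat 0), (.ofNat 0), (.ofNat 0),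 (.ofNat 0), (.ofNat 0)]), ([6, 3, 5, 1, 5, 1, 1, 2, 7, 2, 0, 5, 1, 2, 4, 4, 1, 5, 1, 3], [(.ofNat 0), (.ofNat 0), (.ofNat 0), (.ofNat 0), (.ofNat 0), (.ofNat 0)]), ([6, 3, 5, 5, 0, 4, 3, 0, 7, 0, 4, 4, 1, 3, 4, 4, 0, 5, 2, 1], [(.ofNat 0), (.ofNat 0), (.ofNat 0), (.ofNat 0), (.ofNat 0), (.ofNat 0)]), ([6, 4, 0, 4, 2, 0, 5, 3, 7, 3, 5, 0, 0, 4, 1, 1, 2, 4, 3, 0, 3], [(.ofNat 0), (.ofNat 0), (.ofNat 0), (.ofNat 0), (.ofNat 0), (.ofNat 0)]), ([6, 4, 1, 4, 0, 0, 2, 2, 7, 5, 5, 0, 4, 2, 1, 3, 4, 1, 1, 4, 1], [(.ofNat 0), (.ofNat 0), (.ofNat 0), (.ofNat 0), (.ofNat 0), (.ofNat 0)]), ([6, 5, 5, 1, 5, 5, 0, 2, 7, 0, 0, 2, 4, 0, 4, 0, 3, 0, 5, 3], [(.ofNat 0), (.ofNat 0), (.ofNat 0), (.ofNat 0), (.ofNat 0), (.ofNat 0)]), ([6,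 1, 4, 0, 5, 5, 1, 1, 1, 7, 3, 0, 0, 5, 0, 2, 5, 2, 1, 3, 5], [(.ofNat 0), (.ofNat 0), (.ofNat 0), (.ofNat 0), (.ofNat 0), (.ofNat 0)]), ([6, 1, 4, 4, 0, 5, 3, 5, 1, 7, 4, 1, 1, 5, 1, 5, 5, 3, 0, 5, 5], [(.ofNat 0), (.ofNat 0), (.ofNat 0), (.ofNat 0), (.ofNat 0), (.ofNat 0)]), ([6, 1, 5, 1, 1, 1, 4, 4, 1, 7, 1, 1, 1, 5, 3, 1, 1, 4, 1, 5], [(.ofNat 0), (.ofNat 0), (.ofNat 0), (.ofNat 0), (.ofNat 0), (.ofNat 0)]), ([6, 2, 2, 1, 4, 4, 1, 1, 1, 7, 5, 1, 1, 4, 1, 5, 1, 2, 5, 0, 4, 3], [(.ofNat 0), (.ofNat 0), (.ofNat 0), (.ofNat 0), (.ofNat 0), (.ofNat 0)]), ([6, 3, 0, 3, 4, 1, 4, 4, 0, 7, 3, 0, 5, 1, 1, 4, 0, 0, 2, 4, 1], [(.ofNat 0), (.ofNat 0), (.ofNat 0), (.ofNat 0), (.ofNat 0), (.ofNat 0)]), ([6, 3, 0, 4, 4, 1, 4, 3,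 0, 7, 2, 1, 4, 2, 0, 4, 4, 1, 5, 3], [(.ofNat 0), (.ofNat 0), (.ofNat 0), (.ofNat 0), (.ofNat 0), (.ofNat 0)]), ([6, 3, 1, 5, 0, 4, 1, 3, 3, 7, 4, 2, 1, 5, 2, 0, 4, 4, 2, 0, 3], [(.ofNat 0), (.ofNat 0), (.ofNat 0), (.ofNat 0), (.ofNat 0), (.ofNat 0)]), ([6, 4, 0, 4, 3, 0, 3, 4, 1, 7, 5, 2, 5, 0, 5, 5, 1, 5, 2, 5, 3], [(.ofNat 0), (.ofNat 0), (.ofNat 0), (.ofNat 0), (.ofNat 0), (.ofNat 0)]), ([6, 4, 0, 4, 4, 1, 5, 0, 2, 7, 2, 5, 0, 2, 4, 0, 2, 4, 4, 1, 1, 1], [(.ofNat 0), (.ofNat 0), (.ofNat 0), (.ofNat 0), (.ofNat 0), (.ofNat 0)]), ([6, 4, 1, 4, 4, 3, 1, 5, 1, 7, 0, 5, 0, 4, 4, 2, 0, 5, 5], [(.ofNat 0), (.ofNat 0), (.ofNat 0), (.ofNat 0), (.ofNat 0), (.ofNat 0)]), ([6, 4, 3, 5, 0, 4, 0, 3, 0, 7, 2, 5, 0, 0, 4, 1, 3,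 5, 0, 2, 2], [(.ofNat 0), (.ofNat 0), (.ofNat 0), (.ofNat 0), (.ofNat 0), (.ofNat 0)]), ([6, 5, 0, 5, 2, 0, 2, 4, 2, 7, 3, 0, 4, 4, 0, 5, 1, 3, 1, 1, 4], [(.ofNat 0), (.ofNat 0), (.ofNat 0), (.ofNat 0), (.ofNat 0), (.ofNat 0)]), ([6, 5, 1, 1, 1, 1, 2, 4, 1, 7, 3, 1, 5, 5, 2, 1, 5, 3, 0], [(.ofNat 0), (.ofNat 0), (.ofNat 0), (.ofNat 0), (.ofNat 0), (.ofNat 0)]), ([6, 5, 2, 0, 5, 1, 5, 2, 5, 7, 1, 4, 1, 1, 4, 0, 2, 5, 1, 3, 1], [(.ofNat 0), (.ofNat 0), (.ofNat 0), (.ofNat 0), (.ofNat 0), (.ofNat 0)]), ([6, 5, 3, 3, 0, 3, 4, 1, 2, 7, 4, 4, 1, 5, 1, 5, 5, 1, 1, 5, 5, 1], [(.ofNat 0), (.ofNat 0), (.ofNat 0), (.ofNat 0), (.ofNat 0), (.ofNat 0)]), ([6, 5, 5, 3, 1, 5, 0, 0, 5, 7, 3, 5, 5, 1, 4, 4, 2, 0, 4, 2, 4], [(.ofNat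 0), (.ofNat 0), (.ofNat 0), (.ofNat 0), (.ofNat 0), (.ofNat 0)]), ([6, 0, 0, 0, 4, 4, 1, 5, 0, 7, 4, 2, 0, 3, 4, 3, 1, 4, 1, 1, 2], [(.ofNat 0), (.ofNat 0), (.ofNat 0), (.ofNat 0), (.ofNat 0), (.ofNat 0)]), ([6, 0, 0, 0, 5, 5, 0, 3, 3, 7, 5, 5, 3, 0, 5, 1, 5, 5, 0, 3, 5, 1], [(.ofNat 0), (.ofNat 0), (.ofNat 0), (.ofNat 0), (.ofNat 0), (.ofNat 0)]), ([6, 0, 2, 2, 5, 0, 2, 2, 4, 7, 1, 2, 4, 0, 4, 2, 4, 0, 0], [(.ofNat 0), (.ofNat 0), (.ofNat 0), (.ofNat 0), (.ofNat 0), (.ofNat 0)]), ([6, 0, 4, 0, 2, 5, 5, 0, 5, 7, 4, 4, 1, 3, 5, 5, 1, 4, 1], [(.ofNat 0), (.ofNat 0), (.ofNat 0), (.ofNat 0), (.ofNat 0), (.ofNat 0)]), ([6, 0, 4, 2, 4, 1, 5, 5, 0, 7, 4, 4, 1, 2, 4, 4, 0, 4, 0, 0, 5], [(.ofNat 0), (.ofNat 0), (.ofNat 0),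 (.ofNat 0), (.ofNat 0), (.ofNat 0)]), ([6, 0, 5, 2, 1, 2, 5, 1, 5, 7, 5, 3, 5, 5, 0, 4, 4, 1, 4, 3, 4], [(.ofNat 0), (.ofNat 0), (.ofNat 0), (.ofNat 0), (.ofNat 0), (.ofNat 0)]), ([6, 0, 5, 5, 0, 0, 0, 4, 0, 7, 4, 0, 5, 0, 0, 2, 4, 0, 0, 0], [(.ofNat 0), (.ofNat 0), (.ofNat 0), (.ofNat 0), (.ofNat 0), (.ofNat 0)]), ([6, 1, 2, 1, 5, 1, 4, 2, 5, 7, 3, 3, 1, 4, 2, 0, 5, 1, 1, 4, 3], [(.ofNat 0), (.ofNat 0), (.ofNat 0), (.ofNat 0), (.ofNat 0), (.ofNat 0)]), ([6, 1, 2, 5, 0, 5, 5, 1, 2, 7, 2, 4, 0, 5, 5, 1, 3, 5, 0, 3], [(.ofNat 0), (.ofNat 0), (.ofNat 0), (.ofNat 0), (.ofNat 0), (.ofNat 0)]), ([6, 1, 5, 5, 0, 5, 2, 1, 2, 7, 0, 5, 3, 1, 1, 5, 0, 0, 4, 1, 2], [(.ofNat 0), (.ofNat 0), (.ofNat 0), (.ofNat 0), (.ofNat 0), (.ofNat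 0)]), ([6, 2, 2, 0, 5, 1, 4, 0, 2, 7, 2, 1, 3, 5, 5, 1, 3, 4, 0, 3, 5], [(.ofNat 0), (.ofNat 0), (.ofNat 0), (.ofNat 0), (.ofNat 0), (.ofNat 0)]), ([6, 3, 0, 5, 2, 1, 2, 2, 4, 7, 1, 4, 3, 3, 1, 4, 4, 0, 5, 2, 5, 1], [(.ofNat 0), (.ofNat 0), (.ofNat 0), (.ofNat 0), (.ofNat 0), (.ofNat 0)]), ([6, 3, 1, 4, 0, 5, 5, 1, 5, 7, 0, 0, 0, 5, 5, 3, 1, 5, 3, 1, 4, 3], [(.ofNat 0), (.ofNat 0), (.ofNat 0), (.ofNat 0), (.ofNat 0), (.ofNat 0)]), ([6, 3, 5, 3, 1, 3, 4, 1, 4, 7, 5, 0, 0, 2, 0, 4, 1, 5, 5, 1, 2], [(.ofNat 0), (.ofNat 0), (.ofNat 0), (.ofNat 0), (.ofNat 0), (.ofNat 0)]), ([6, 4, 1, 1, 4, 0, 2, 4, 4, 7, 5, 3, 5, 1, 3, 5, 5, 0, 4, 4, 2], [(.ofNat 0), (.ofNat 0), (.ofNat 0), (.ofNat 0), (.ofNat 0), (.ofNat 0)]), ([6, 4,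 3, 4, 0, 4, 1, 3, 4, 7, 0, 2, 0, 4, 3, 1, 5, 0, 0, 5, 0], [(.ofNat 0), (.ofNat 0), (.ofNat 0), (.ofNat 0), (.ofNat 0), (.ofNat 0)]), ([6, 0, 0, 0, 2, 5, 0, 4, 0, 0, 7, 4, 1, 1, 5, 1, 1, 5, 5, 3, 1], [(.ofNat 0), (.ofNat 0), (.ofNat 0), (.ofNat 0), (.ofNat 0), (.ofNat 0)]), ([6, 0, 0, 2, 4, 1, 5, 5, 2, 0, 7, 0, 5, 5, 1, 1, 2, 5, 1, 1], [(.ofNat 0), (.ofNat 0), (.ofNat 0), (.ofNat 0), (.ofNat 0), (.ofNat 0)]), ([6, 0, 0, 4, 1, 5, 3, 5, 1, 2, 7, 3, 5, 1, 5, 0, 2, 4, 4, 1, 4, 3], [(.ofNat 0), (.ofNat 0), (.ofNat 0), (.ofNat 0), (.ofNat 0), (.ofNat 0)]), ([6, 0, 2, 0, 5, 1, 4, 4, 1, 5, 7, 4, 1, 4, 3, 0, 4, 4, 1, 2, 5, 1, 5], [(.ofNat 0), (.ofNat 0), (.ofNat 0), (.ofNat 0), (.ofNat 0), (.ofNat 0)]), ([6, 0, 2, 2, 4, 4, 1,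 3, 4, 0, 7, 2, 0, 3, 5, 1, 1, 4, 2, 1, 3, 3], [(.ofNat 0), (.ofNat 0), (.ofNat 0), (.ofNat 0), (.ofNat 0), (.ofNat 0)]), ([6, 0, 2, 4, 4, 1, 4, 3, 0, 5, 7, 2, 2, 1, 5, 5, 3, 1, 4, 2, 1, 4, 1], [(.ofNat 0), (.ofNat 0), (.ofNat 0), (.ofNat 0), (.ofNat 0), (.ofNat 0)]), ([6, 0, 2, 5, 2, 5, 1, 5, 2, 1, 7, 4, 1, 4, 1, 2, 1, 5, 5, 0, 5, 2, 1], [(.ofNat 0), (.ofNat 0), (.ofNat 0), (.ofNat 0), (.ofNat 0), (.ofNat 0)]), ([6, 0, 2, 5, 3, 1, 5, 3, 0, 0, 7, 3, 3, 1, 4, 0, 2, 0, 4, 4], [(.ofNat 0), (.ofNat 0), (.ofNat 0), (.ofNat 0), (.ofNat 0), (.ofNat 0)]), ([6, 0, 2, 5, 5, 1, 5, 0, 2, 5, 7, 3, 0, 4, 1, 4, 1, 5, 3, 5, 1, 4, 2], [(.ofNat 0), (.ofNat 0), (.ofNat 0), (.ofNat 0), (.ofNat 0), (.ofNat 0)]), ([6, 0, 3, 0, 5, 0, 5, 5,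 2, 0, 7, 2, 2, 4, 0, 5, 0, 2, 5, 5, 0], [(.ofNat 0), (.ofNat 0), (.ofNat 0), (.ofNat 0), (.ofNat 0), (.ofNat 0)]), ([6, 3, 6, 1, 4, 0, 5, 5, 1, 1, 1, 7, 2, 7, 3, 3, 0, 4, 4, 1, 2, 5, 0, 0, 0], [(.ofNat 0), (.ofNat 0), (.ofNat 0), (.ofNat 0), (.ofNat 0), (.ofNat 0)]), ([6, 3, 6, 4, 1, 4, 0, 4, 3, 0, 3, 7, 2, 7, 5, 1, 3, 5, 1, 2, 4, 1, 3, 5, 5], [(.ofNat 0), (.ofNat 0), (.ofNat 0), (.ofNat 0), (.ofNat 0), (.ofNat 0)]), ([6, 3, 6, 0, 0, 0, 4, 4, 1, 5, 0, 7, 2, 7, 1, 1, 1, 4, 3, 0, 5, 5, 1, 2, 2], [(.ofNat 0), (.ofNat 0), (.ofNat 0), (.ofNat 0), (.ofNat 0), (.ofNat 0)]), ([6, 3, 6, 2, 1, 2, 5, 1, 5, 0, 5, 7, 2, 7, 5, 0, 4, 3, 4, 1, 5, 0, 0, 4, 2], [(.ofNat 0), (.ofNat 0), (.ofNat 0), (.ofNat 0), (.ofNat 0), (.ofNat 0)]),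 ([6, 3, 6, 0, 0, 0, 2, 5, 0, 4, 0, 0, 7, 2, 7, 0, 5, 1, 4, 4, 0, 5, 5, 0, 4], [(.ofNat 0), (.ofNat 0), (.ofNat 0), (.ofNat 0), (.ofNat 0), (.ofNat 0)]), ([6, 3, 6, 1, 1, 4, 0, 5, 5, 0, 3, 3, 7, 2, 7, 4, 0, 4, 4, 3, 1, 4, 0, 4, 4, 3, 0, 0], [(.ofNat 0), (.ofNat 0), (.ofNat 0), (.ofNat 0), (.ofNat 0), (.ofNat 0)]), ([6, 3, 6, 1, 1, 5, 1, 4, 3, 1, 1, 1, 7, 2, 7, 5, 1, 4, 4, 1, 5, 5, 0, 4, 1], [(.ofNat 0), (.ofNat 0), (.ofNat 0), (.ofNat 0), (.ofNat 0), (.ofNat 0)]), ([6, 3, 6, 1, 5, 0, 0, 5, 3, 0, 0, 5, 7, 2, 7, 4, 1, 2, 4, 1, 1, 1, 4, 0, 4, 2, 1], [(.ofNat 0), (.ofNat 0), (.ofNat 0), (.ofNat 0), (.ofNat 0), (.ofNat 0)]), ([6, 3, 6, 1, 5, 5, 0, 5, 3, 5, 0, 2, 7, 2, 7, 5, 5, 3, 1, 1, 5, 0, 2, 0, 4], [(.ofNat 0), (.ofNat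 0), (.ofNat 0), (.ofNat 0), (.ofNat 0), (.ofNat 0)]), ([6, 3, 6, 2, 2, 1, 4, 4, 1, 5, 0, 0, 7, 2, 7, 2, 0, 4, 0, 3, 3, 0, 5, 0, 0, 5, 2, 1], [(.ofNat 0), (.ofNat 0), (.ofNat 0), (.ofNat 0), (.ofNat 0), (.ofNat 0)]), ([6, 3, 6, 3, 1, 4, 2, 4, 1, 4, 4, 0, 7, 2, 7, 5, 1, 3, 1, 4, 0, 0, 2, 4, 4], [(.ofNat 0), (.ofNat 0), (.ofNat 0), (.ofNat 0), (.ofNat 0), (.ofNat 0)]), ([6, 3, 6, 4, 1, 1, 2, 4, 1, 1, 4, 0, 7, 2, 7, 0, 3, 5, 1, 5, 0, 0, 0, 5, 3, 0, 5], [(.ofNat 0), (.ofNat 0), (.ofNat 0), (.ofNat 0), (.ofNat 0), (.ofNat 0)]), ([6, 3, 6, 0, 5, 3, 0, 4, 4, 1, 5, 1, 1, 7, 2, 7, 0, 4, 3, 4, 3, 0, 0, 4, 4, 0, 5, 2, 0], [(.ofNat 0), (.ofNat 0), (.ofNat 0), (.ofNat 0), (.ofNat 0), (.ofNat 0)]), ([6, 3, 6, 1, 2, 2, 0, 5, 1, 5,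 3, 5, 1, 7, 2, 7, 0, 0, 5, 1, 1, 4, 0, 5, 0, 2], [(.ofNat 0), (.ofNat 0), (.ofNat 0), (.ofNat 0), (.ofNat 0), (.ofNat 0)]), ([6, 3, 6, 1, 2, 4, 1, 4, 0, 0, 4, 2, 1, 7, 2, 7, 3, 4, 3, 1, 4, 1, 5, 1, 5, 2], [(.ofNat 0), (.ofNat 0), (.ofNat 0), (.ofNat 0), (.ofNat 0), (.ofNat 0)]), ([6, 3, 6, 1, 5, 0, 4, 4, 0, 3, 5, 2, 0, 7, 2, 7, 0, 0, 0, 5, 2, 1, 2, 2, 4, 1, 1], [(.ofNat 0), (.ofNat 0), (.ofNat 0), (.ofNat 0), (.ofNat 0), (.ofNat 0)]), ([6, 3, 6, 1, 5, 1, 4, 3, 5, 1, 5, 1, 1, 7, 2, 7, 5, 1, 1, 5, 0, 4, 0, 3, 5, 0, 0, 2], [(.ofNat 0), (.ofNat 0), (.ofNat 0), (.ofNat 0), (.ofNat 0), (.ofNat 0)]), ([6, 3, 6, 2, 0, 2, 4, 1, 5, 1, 4, 3, 1, 7, 2, 7, 0, 3, 3, 1, 5, 0, 5, 0, 0, 5, 2], [(.ofNat 0), (.ofNat 0), (.ofNat 0), (.ofNat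 0), (.ofNat 0), (.ofNat 0)]), ([6, 3, 6, 2, 1, 2, 4, 1, 5, 3, 5, 2, 0, 7, 2, 7, 5, 1, 4, 0, 4, 0, 5, 0, 5, 5, 1, 5], [(.ofNat 0), (.ofNat 0), (.ofNat 0), (.ofNat 0), (.ofNat 0), (.ofNat 0)]), ([6, 3, 6, 2, 4, 0, 5, 1, 4, 0, 2, 4, 0, 7, 2, 7, 1, 3, 5, 1, 5, 0, 3, 0, 4, 4, 3], [(.ofNat 0), (.ofNat 0), (.ofNat 0), (.ofNat 0), (.ofNat 0), (.ofNat 0)]), ([6, 3, 6, 2, 5, 5, 1, 3, 5, 3, 1, 5, 1, 7, 2, 7, 5, 1, 5, 5, 1, 5, 2, 0, 5, 5, 3, 1], [(.ofNat 0), (.ofNat 0), (.ofNat 0), (.ofNat 0), (.ofNat 0), (.ofNat 0)]), ([6, 3, 6, 3, 0, 0, 4, 1, 4, 4, 1, 5, 1, 7, 2, 7, 5, 0, 0, 2, 5, 1, 4, 0, 3, 0], [(.ofNat 0), (.ofNat 0), (.ofNat 0), (.ofNat 0), (.ofNat 0), (.ofNat 0)]), ([6, 3, 6, 3, 0, 4, 1, 1, 1, 1, 4, 3, 0, 7, 2, 7, 3, 1,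 1, 4, 2, 1, 5, 1, 4, 0, 0, 4], [(.ofNat 0), (.ofNat 0), (.ofNat 0), (.ofNat 0), (.ofNat 0), (.ofNat 0)]), ([6, 3, 6, 3, 3, 0, 5, 0, 4, 0, 5, 0, 0, 7, 2, 7, 1, 4, 0, 2, 0, 4, 1, 2, 1, 2, 5, 1], [(.ofNat 0), (.ofNat 0), (.ofNat 0), (.ofNat 0), (.ofNat 0), (.ofNat 0)]), ([6, 3, 6, 3, 4, 0, 4, 4, 3, 4, 0, 4, 1, 7, 2, 7, 4, 0, 5, 0, 0, 0, 4, 1, 4, 1, 3, 3], [(.ofNat 0), (.ofNat 0), (.ofNat 0), (.ofNat 0), (.ofNat 0), (.ofNat 0)]), ([6, 3, 6, 3, 5, 0, 5, 0, 0, 5, 2, 5, 1, 7, 2, 7, 1, 3, 4, 1, 4, 0, 2, 2, 4, 1, 1, 1], [(.ofNat 0), (.ofNat 0), (.ofNat 0), (.ofNat 0), (.ofNat 0), (.ofNat 0)]), ([6, 3, 6, 4, 1, 1, 4, 3, 0, 4, 1, 1, 5, 7, 2, 7, 4, 3, 0, 5, 3, 1, 5, 5, 3, 1, 5, 0], [(.ofNat 0), (.ofNat 0), (.ofNat 0), (.ofNat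 0), (.ofNat 0), (.ofNat 0)]), ([6, 3, 6, 4, 1, 5, 1, 4, 4, 1, 5, 3, 0, 7, 2, 7, 1, 5, 3, 0, 4, 1, 5, 2, 1, 4, 1], [(.ofNat 0), (.ofNat 0), (.ofNat 0), (.ofNat 0), (.ofNat 0), (.ofNat 0)]), ([6, 3, 6, 4, 1, 5, 3, 5, 1, 5, 1, 2, 1, 7, 2, 7, 2, 1, 4, 3, 1, 5, 1, 4, 3, 0, 3], [(.ofNat 0), (.ofNat 0), (.ofNat 0), (.ofNat 0), (.ofNat 0), (.ofNat 0)]), ([6, 3, 6, 4, 2, 4, 0, 5, 5, 0, 2, 5, 2, 7, 2, 7, 5, 1, 4, 0, 5, 0, 3, 5, 1, 5, 0, 2], [(.ofNat 0), (.ofNat 0), (.ofNat 0), (.ofNat 0), (.ofNat 0), (.ofNat 0)]), ([6, 3, 6, 4, 4, 1, 2, 4, 4, 1, 2, 5, 2, 7, 2, 7, 1, 2, 1, 5, 1, 4, 1, 4, 2, 0, 2, 4], [(.ofNat 0), (.ofNat 0), (.ofNat 0), (.ofNat 0), (.ofNat 0), (.ofNat 0)]), ([6, 3, 6, 4, 4, 2, 0, 5, 0, 0, 0, 0, 0, 7, 2, 7, 4,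 1, 5, 2, 1, 4, 2, 1, 5, 2, 1, 2], [(.ofNat 0), (.ofNat 0), (.ofNat 0), (.ofNat 0), (.ofNat 0), (.ofNat 0)]), ([6, 3, 6, 5, 1, 4, 4, 1, 5, 2, 0, 4, 1, 7, 2, 7, 3, 1, 3, 4, 0, 4, 3], [(.ofNat 0), (.ofNat 0), (.ofNat 0), (.ofNat 0), (.ofNat 0), (.ofNat 0)]), ([6, 3, 6, 5, 1, 5, 0, 2, 0, 5, 0, 3, 5, 7, 2, 7, 0, 5, 1, 5, 1, 4, 4, 3, 0, 5, 0], [(.ofNat 0), (.ofNat 0), (.ofNat 0), (.ofNat 0), (.ofNat 0), (.ofNat 0)]), ([6, 3, 6, 5, 1, 5, 1, 4, 0, 3, 4, 1, 5, 7, 2, 7, 0, 4, 0, 5, 0, 0, 5, 0, 5, 3], [(.ofNat 0), (.ofNat 0), (.ofNat 0), (.ofNat 0), (.ofNat 0), (.ofNat 0)]), ([6, 3, 6, 5, 2, 1, 5, 5, 1, 1, 5, 1, 3, 7, 2, 7, 5, 1, 3, 1, 5, 0, 2, 5, 0, 4, 0, 3], [(.ofNat 0), (.ofNat 0), (.ofNat 0), (.ofNat 0), (.ofNat 0), (.ofNat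 0)]), ([6, 3, 6, 5, 3, 1, 5, 1, 5, 0, 4, 1, 1, 7, 2, 7, 5, 0, 3, 4, 0, 4, 0, 5, 3], [(.ofNat 0), (.ofNat 0), (.ofNat 0), (.ofNat 0), (.ofNat 0), (.ofNat 0)]), ([6, 3, 6, 5, 5, 0, 2, 4, 2, 0, 4, 3, 3, 7, 2, 7, 0, 4, 1, 4, 4, 0, 4, 2, 0, 4, 0, 3], [(.ofNat 0), (.ofNat 0), (.ofNat 0), (.ofNat 0), (.ofNat 0), (.ofNat 0)]), ([6, 3, 6, 5, 5, 1, 5, 0, 5, 5, 0, 0, 0, 7, 2, 7, 2, 4, 4, 0, 4, 4, 2, 0, 4, 4, 3, 0], [(.ofNat 0), (.ofNat 0), (.ofNat 0), (.ofNat 0), (.ofNat 0), (.ofNat 0)]), ([6, 3, 6, 0, 0, 4, 0, 5, 5, 1, 2, 4, 1, 7, 2, 7, 4, 0, 0, 5, 2, 1, 2, 5, 3, 1, 4, 1, 1], [(.ofNat 0), (.ofNat 0), (.ofNat 0), (.ofNat 0), (.ofNat 0), (.ofNat 0)]), ([6, 3, 6, 0, 0, 5, 1, 4, 0, 4, 0, 2, 4, 7, 2, 7, 2, 4, 1, 5, 1, 5, 2, 1, 4],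 [(.ofNat 0), (.ofNat 0), (.ofNat 0), (.ofNat 0), (.ofNat 0), (.ofNat 0)]), ([6, 3, 6, 0, 4, 2, 4, 0, 4, 1, 3, 3, 0, 7, 2, 7, 3, 1, 4, 1, 5, 0, 0, 4, 1, 1], [(.ofNat 0), (.ofNat 0), (.ofNat 0), (.ofNat 0), (.ofNat 0), (.ofNat 0)]), ([6, 3, 6, 0, 4, 3, 4, 1, 1, 4, 1, 4, 2, 7, 2, 7, 4, 1, 2, 5, 0, 3, 5, 5, 1, 4, 0, 0], [(.ofNat 0), (.ofNat 0), (.ofNat 0), (.ofNat 0), (.ofNat 0), (.ofNat 0)]), ([6, 3, 6, 0, 2, 5, 0, 4, 0, 5, 3, 1, 3, 7, 2, 7, 3, 4, 1, 1, 4, 1, 4, 0, 2, 2, 1], [(.ofNat 0), (.ofNat 0), (.ofNat 0), (.ofNat 0), (.ofNat 0), (.ofNat 0)]), ([6, 3, 6, 0, 3, 0, 4, 0, 4, 2, 4, 0, 5, 7, 2, 7, 2, 1, 2, 5, 0, 4, 0, 2, 5, 0, 3], [(.ofNat 0), (.ofNat 0), (.ofNat 0), (.ofNat 0), (.ofNat 0), (.ofNat 0)]), ([6, 3, 6, 0,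 3, 5, 1, 1, 5, 0, 5, 3, 0, 7, 2, 7, 3, 4, 0, 4, 0, 5, 0, 2, 5, 2], [(.ofNat 0), (.ofNat 0), (.ofNat 0), (.ofNat 0), (.ofNat 0), (.ofNat 0)]), ([6, 3, 6, 0, 4, 0, 2, 4, 2, 0, 4, 4, 3, 7, 2, 7, 1, 4, 0, 3, 0, 0, 4, 1, 5, 3, 3, 0], [(.ofNat 0), (.ofNat 0), (.ofNat 0), (.ofNat 0), (.ofNat 0), (.ofNat 0)]), ([6, 3, 6, 0, 4, 0, 5, 5, 0, 5, 1, 1, 2, 7, 2, 7, 1, 2, 1, 5, 0, 4, 3, 1, 1, 4], [(.ofNat 0), (.ofNat 0), (.ofNat 0), (.ofNat 0), (.ofNat 0), (.ofNat 0)]), ([6, 3, 6, 1, 1, 1, 4, 4, 1, 4, 0, 4, 4, 7, 2, 7, 5, 0, 4, 0, 3, 4, 0, 4, 2, 1, 5, 0], [(.ofNat 0), (.ofNat 0), (.ofNat 0), (.ofNat 0), (.ofNat 0), (.ofNat 0)]), ([6, 3, 6, 0, 5, 1, 3, 4, 2, 4, 1, 5, 2, 7, 2, 7, 5, 5, 1, 3, 5, 1, 4, 3, 0, 5, 5, 0], [(.ofNat 0), (.ofNat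 0), (.ofNat 0), (.ofNat 0), (.ofNat 0), (.ofNat 0)]), ([6, 3, 6, 0, 5, 1, 3, 4, 0, 5, 5, 0, 4, 7, 2, 7, 2, 5, 1, 5, 2, 0, 2], [(.ofNat 0), (.ofNat 0), (.ofNat 0), (.ofNat 0), (.ofNat 0), (.ofNat 0)]), ([6, 3, 6, 3, 4, 3, 1, 4, 4, 1, 5, 3, 5, 7, 2, 7, 5, 1, 4, 0, 4, 2, 0, 4, 0, 2, 4, 1], [(.ofNat 0), (.ofNat 0), (.ofNat 0), (.ofNat 0), (.ofNat 0), (.ofNat 0)]), ([6, 3, 6, 1, 1, 1, 1, 1, 4, 1, 3, 5, 5, 7, 2, 7, 4, 1, 1, 2, 4, 1, 2, 5, 1, 3, 4, 3], [(.ofNat 0), (.ofNat 0), (.ofNat 0), (.ofNat 0), (.ofNat 0), (.ofNat 0)]), ([6, 3, 6, 1, 1, 4, 1, 5, 1, 4, 1, 2, 2, 7, 2, 7, 0, 4, 3, 0, 3, 0, 5, 1, 3, 1, 5, 0], [(.ofNat 0), (.ofNat 0), (.ofNat 0), (.ofNat 0), (.ofNat 0), (.ofNat 0)]), ([6, 3, 6, 1, 2, 4, 0, 5, 5, 0, 4, 0,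 5, 7, 2, 7, 0, 5, 0, 3, 4, 0, 5, 1, 2, 4, 0], [(.ofNat 0), (.ofNat 0), (.ofNat 0), (.ofNat 0), (.ofNat 0), (.ofNat 0)]), ([6, 3, 6, 2, 0, 4, 0, 0, 4, 4, 0, 3, 4, 7, 2, 7, 4, 0, 0, 4, 1, 2, 5, 2, 0, 3, 4, 0], [(.ofNat 0), (.ofNat 0), (.ofNat 0), (.ofNat 0), (.ofNat 0), (.ofNat 0)]), ([6, 3, 6, 1, 3, 4, 2, 1, 5, 5, 1, 4, 0, 7, 2, 7, 0, 0, 5, 3, 3, 0, 3, 4, 1, 1, 1], [(.ofNat 0), (.ofNat 0), (.ofNat 0), (.ofNat 0), (.ofNat 0), (.ofNat 0)]), ([6, 3, 6, 1, 3, 4, 2, 4, 0, 5, 3, 0, 3, 7, 2, 7, 4, 0, 5, 2, 0, 2, 4, 4, 0, 5, 5, 2], [(.ofNat 0), (.ofNat 0), (.ofNat 0), (.ofNat 0), (.ofNat 0), (.ofNat 0)]), ([6, 3, 6, 1, 5, 3, 1, 5, 0, 4, 1, 5, 3, 7, 2, 7, 5, 5, 3, 1, 1, 4, 3, 0, 4, 2, 0], [(.ofNat 0), (.ofNat 0), (.ofNat 0),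 (.ofNat 0), (.ofNat 0), (.ofNat 0)]), ([6, 3, 6, 2, 2, 5, 1, 3, 5, 3, 1, 4, 4, 7, 2, 7, 2, 1, 5, 1, 3, 5, 1, 5, 5, 0, 5, 1], [(.ofNat 0), (.ofNat 0), (.ofNat 0), (.ofNat 0), (.ofNat 0), (.ofNat 0)]), ([6, 6, 0, 6, 2, 1, 4, 0, 2, 2, 4, 1, 7, 1, 7, 7, 0, 3, 3, 3, 1, 5, 1, 4, 0, 5, 3, 1], [(.ofNat 0), (.ofNat 0), (.ofNat 0), (.ofNat 0), (.ofNat 0), (.ofNat 0)]), ([6, 6, 0, 6, 0, 5, 3, 3, 1, 5, 0, 3, 7, 1, 7, 7, 0, 2, 4, 1, 5, 0, 4, 0, 2, 2, 2, 1], [(.ofNat 0), (.ofNat 0), (.ofNat 0), (.ofNat 0), (.ofNat 0), (.ofNat 0)]), ([6, 6, 0, 6, 0, 0, 2, 5, 2, 0, 4, 1, 3, 7, 1, 7, 7, 0, 2, 0, 2, 5, 1, 2, 5, 2, 1, 4], [(.ofNat 0), (.ofNat 0), (.ofNat 0), (.ofNat 0), (.ofNat 0), (.ofNat 0)]), ([6, 6, 0, 6, 2, 0, 5, 1, 2, 2, 4, 1,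 2, 7, 1, 7, 7, 5, 0, 3, 4, 3, 0, 4, 3, 1, 3, 1], [(.ofNat 0), (.ofNat 0), (.ofNat 0), (.ofNat 0), (.ofNat 0), (.ofNat 0)]), ([6, 6, 0, 6, 2, 1, 5, 2, 0, 4, 0, 5, 2, 7, 1, 7, 7, 0, 0, 4, 2, 0, 3, 4, 1, 2, 4, 0, 0, 0], [(.ofNat 0), (.ofNat 0), (.ofNat 0), (.ofNat 0), (.ofNat 0), (.ofNat 0)]), ([6, 6, 0, 6, 3, 4, 1, 5, 1, 3, 4, 0, 3, 7, 1, 7, 7, 1, 1, 1, 5, 3, 0, 5, 2, 1, 3, 5, 1, 1], [(.ofNat 0), (.ofNat 0), (.ofNat 0), (.ofNat 0), (.ofNat 0), (.ofNat 0)]), ([6, 6, 0, 6, 3, 4, 3, 0, 4, 4, 1, 5, 5, 7, 1, 7, 7, 3, 1, 1, 5, 5, 0, 2, 5, 1, 4, 1], [(.ofNat 0), (.ofNat 0), (.ofNat 0), (.ofNat 0), (.ofNat 0), (.ofNat 0)]), ([6, 6, 0, 6, 4, 2, 0, 4, 4, 0, 0, 4, 4, 7, 1, 7, 7, 3, 0, 4, 1, 5, 0, 2, 4, 1, 5, 3, 1], [(.ofNat 0),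 (.ofNat 0), (.ofNat 0), (.ofNat 0), (.ofNat 0), (.ofNat 0)]), ([6, 6, 0, 6, 4, 4, 0, 5, 5, 1, 2, 5, 2, 7, 1, 7, 7, 0, 5, 0, 4, 3, 1, 4, 4, 0, 0, 2], [(.ofNat 0), (.ofNat 0), (.ofNat 0), (.ofNat 0), (.ofNat 0), (.ofNat 0)]), ([6, 6, 0, 6, 5, 5, 1, 1, 5, 5, 1, 3, 5, 7, 1, 7, 7, 1, 1, 5, 1, 4, 4, 0, 4, 2, 4, 0, 3], [(.ofNat 0), (.ofNat 0), (.ofNat 0), (.ofNat 0), (.ofNat 0), (.ofNat 0)]), ([6, 6, 0, 6, 0, 5, 1, 2, 4, 3, 4, 1, 3, 1, 7, 1, 7, 7, 3, 1, 4, 0, 0, 4, 0, 2, 4, 0, 4, 0], [(.ofNat 0), (.ofNat 0), (.ofNat 0), (.ofNat 0), (.ofNat 0), (.ofNat 0)]), ([6, 6, 0, 6, 3, 1, 4, 0, 5, 5, 1, 1, 4, 1, 7, 1, 7, 7, 5, 3, 0, 4, 1, 4, 0, 4, 0, 3, 5, 0], [(.ofNat 0), (.ofNat 0), (.ofNat 0), (.ofNat 0), (.ofNat 0), (.ofNat 0)]),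 ([6, 6, 0, 6, 4, 0, 0, 4, 0, 5, 0, 3, 3, 0, 7, 1, 7, 7, 5, 2, 2, 0, 3, 5, 0, 4, 1, 5, 5], [(.ofNat 0), (.ofNat 0), (.ofNat 0), (.ofNat 0), (.ofNat 0), (.ofNat 0)]), ([6, 6, 0, 6, 4, 0, 0, 4, 2, 1, 5, 5, 2, 0, 7, 1, 7, 7, 2, 4, 1, 5, 1, 1, 5, 0, 5, 2, 2, 1], [(.ofNat 0), (.ofNat 0), (.ofNat 0), (.ofNat 0), (.ofNat 0), (.ofNat 0)]), ([6, 6, 0, 6, 4, 2, 1, 3, 5, 3, 0, 4, 1, 1, 7, 1, 7, 7, 4, 0, 4, 4, 1, 4, 4, 2, 1, 4, 4, 0], [(.ofNat 0), (.ofNat 0), (.ofNat 0), (.ofNat 0), (.ofNat 0), (.ofNat 0)]), ([6, 6, 0, 6, 4, 3, 1, 3, 1, 5, 1, 5, 1, 1, 7, 1, 7, 7, 4, 1, 1, 5, 5, 3, 0, 5, 3, 1, 4, 1], [(.ofNat 0), (.ofNat 0), (.ofNat 0), (.ofNat 0), (.ofNat 0), (.ofNat 0)]), ([6, 6, 0, 6, 4, 3, 4, 0, 0, 2, 4, 1, 5, 3, 7, 1, 7, 7,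 5, 0, 5, 5, 0, 3, 5, 1, 3, 5, 1, 2], [(.ofNat 0), (.ofNat 0), (.ofNat 0), (.ofNat 0), (.ofNat 0), (.ofNat 0)]), ([6, 6, 0, 6, 4, 3, 4, 1, 3, 4, 4, 1, 1, 5, 7, 1, 7, 7, 0, 5, 1, 5, 0, 0, 0, 0, 4, 1, 3, 3], [(.ofNat 0), (.ofNat 0), (.ofNat 0), (.ofNat 0), (.ofNat 0), (.ofNat 0)]), ([6, 6, 0, 6, 4, 4, 0, 0, 4, 1, 4, 0, 4, 1, 7, 1, 7, 7, 5, 3, 1, 1, 4, 0, 2, 5, 2, 1, 5, 1], [(.ofNat 0), (.ofNat 0), (.ofNat 0), (.ofNat 0), (.ofNat 0), (.ofNat 0)]), ([6, 6, 0, 6, 5, 0, 0, 2, 4, 3, 0, 4, 3, 3, 7, 1, 7, 7, 0, 4, 0, 0, 5, 1, 3, 5, 2, 0, 4], [(.ofNat 0), (.ofNat 0), (.ofNat 0), (.ofNat 0), (.ofNat 0), (.ofNat 0)]), ([6, 6, 0, 6, 5, 1, 5, 3, 5, 1, 5, 1, 3, 5, 7, 1, 7, 7, 3, 1, 5, 2, 1, 4, 0, 2, 4, 1, 2], [(.ofNat 0), (.ofNat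 0), (.ofNat 0), (.ofNat 0), (.ofNat 0), (.ofNat 0)]), ([6, 6, 0, 6, 5, 3, 5, 0, 5, 5, 1, 4, 4, 1, 7, 1, 7, 7, 0, 4, 1, 5, 0, 2, 0, 4, 4, 1, 5], [(.ofNat 0), (.ofNat 0), (.ofNat 0), (.ofNat 0), (.ofNat 0), (.ofNat 0)]), ([6, 6, 0, 6, 0, 0, 5, 1, 2, 4, 2, 0, 3, 5, 7, 1, 7, 7, 2, 2, 4, 0, 4, 4, 0, 3, 0, 5, 1, 1], [(.ofNat 0), (.ofNat 0), (.ofNat 0), (.ofNat 0), (.ofNat 0), (.ofNat 0)]), ([6, 6, 0, 6, 0, 5, 0, 0, 4, 4, 1, 5, 0, 2, 7, 1, 7, 7, 5, 2, 0, 4, 0, 4, 0, 0, 0, 4, 1, 4], [(.ofNat 0), (.ofNat 0), (.ofNat 0), (.ofNat 0), (.ofNat 0), (.ofNat 0)]), ([6, 6, 0, 6, 0, 2, 0, 4, 4, 2, 4, 0, 4, 1, 7, 1, 7, 7, 5, 5, 2, 2, 1, 5, 3, 1, 1, 5, 1, 1], [(.ofNat 0), (.ofNat 0), (.ofNat 0), (.ofNat 0), (.ofNat 0), (.ofNat 0)]), ([6,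 6, 0, 6, 1, 3, 4, 4, 0, 3, 5, 1, 1, 5, 7, 1, 7, 7, 0, 3, 3, 4, 1, 4, 0, 0, 4, 0, 5, 3], [(.ofNat 0), (.ofNat 0), (.ofNat 0), (.ofNat 0), (.ofNat 0), (.ofNat 0)]), ([6, 6, 0, 6, 1, 2, 2, 1, 4, 1, 5, 1, 1, 5, 7, 1, 7, 7, 4, 4, 0, 5, 1, 4, 2, 1, 3, 3, 4], [(.ofNat 0), (.ofNat 0), (.ofNat 0), (.ofNat 0), (.ofNat 0), (.ofNat 0)]), ([6, 6, 0, 6, 0, 5, 1, 5, 0, 5, 1, 1, 5, 5, 7, 1, 7, 7, 1, 5, 1, 4, 4, 0, 5, 0, 0, 5, 1, 1], [(.ofNat 0), (.ofNat 0), (.ofNat 0), (.ofNat 0), (.ofNat 0), (.ofNat 0)]), ([6, 6, 0, 6, 0, 5, 5, 0, 4, 4, 1, 4, 2, 4, 7, 1, 7, 7, 4, 0, 5, 5, 1, 3, 1, 4, 0, 5, 1], [(.ofNat 0), (.ofNat 0), (.ofNat 0), (.ofNat 0), (.ofNat 0), (.ofNat 0)]), ([6, 6, 0, 6, 2, 2, 5, 1, 2, 5, 3, 1, 1, 4, 7, 1, 7, 7, 5, 1, 4,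 3, 3, 0, 4, 1, 1, 5, 1], [(.ofNat 0), (.ofNat 0), (.ofNat 0), (.ofNat 0), (.ofNat 0), (.ofNat 0)]), ([0, 1], [(.ofNat 0), (.ofNat 0), (.ofNat 0), (.ofNat 0), (.ofNat 0), (.ofNat 0)]), ([1, 0], [(.ofNat 0), (.ofNat 0), (.ofNat 0), (.ofNat 0), (.ofNat 0), (.ofNat 0)]), ([2, 3], [(.ofNat 0), (.ofNat 0), (.ofNat 0), (.ofNat 0), (.ofNat 0), (.ofNat 0)]), ([3, 2], [(.ofNat 0), (.ofNat 0), (.ofNat 0), (.ofNat 0), (.ofNat 0), (.ofNat 0)]), ([4, 5], [(.ofNat 0), (.ofNat 0), (.ofNat 0), (.ofNat 0), (.ofNat 0), (.ofNat 0)]), ([5, 4], [(.ofNat 0), (.ofNat 0), (.ofNat 0), (.ofNat 0), (.ofNat 0), (.ofNat 0)]), ([6, 7], [(.ofNat 0), (.ofNat 0), (.ofNat 0), (.ofNat 0), (.ofNat 0), (.ofNat 0)]), ([7, 6], [(.ofNat 0), (.ofNat 0), (.ofNat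 0), (.ofNat 0), (.ofNat 0), (.ofNat 0)]), ([6, 3, 4, 1, 5, 5, 7, 4, 4, 1, 4, 4, 0, 4, 3, 0, 3, 5], [(.ofNat 1), (.ofNat 0), (.ofNat 0), (.ofNat 0), (.ofNat 0), (.ofNat 0)]), ([6, 0, 6, 1, 4, 0, 0, 5, 3, 3, 7, 1, 7, 0, 0, 5, 2, 0, 4, 0, 2, 5, 0, 2], [(.ofNat 0), (.ofNat 1), (.ofNat 0), (.ofNat 0), (.ofNat 0), (.ofNat 0)]), ([6, 0, 6, 4, 0, 4, 0, 5, 2, 2, 0, 7, 1, 7, 4, 0, 5, 3, 0, 4, 1, 1, 2, 4, 4], [(.ofNat 0), (.ofNat 0), (.ofNat 1), (.ofNat 0), (.ofNat 0), (.ofNat 0)]), ([6, 2, 1, 4, 1, 4, 0, 4, 2, 5, 7, 4, 4, 1, 5, 1, 5, 2, 1, 4, 3, 3, 1], [(.ofNat 0), (.ofNat 0), (.ofNat 0), (.ofNat 1), (.ofNat 0), (.ofNat 0)]), ([6, 4, 0, 5, 5, 1, 1, 2, 5, 1, 1, 7, 0, 4, 2, 4, 0, 3, 5, 1, 1, 5, 3], [(.ofNat 0), (.ofNat 0), (.ofNat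 0), (.ofNat 0), (.ofNat 1), (.ofNat 0)]), ([6, 1, 5, 0, 0, 6, 2, 2, 1, 5, 2, 5, 1, 5, 1, 3, 1], [(.ofNat 0), (.ofNat 0), (.ofNat 0), (.ofNat 0), (.ofNat 0), (.ofNat 1)])]

theorem words_mem : ∀ v ∈ words.toList, (v.2 = true → v.1 ∈ relL) ∧ (v.2 = false → v.1 ∈ subL) := by
  decide +kernel

/-- the seed words are in the seed list -/
noncomputable def seedChk (w : ℕ) : Bool :=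
  match WT.get words w with
  | some (wd, true) => decide ((wd, Ev w) ∈ seedL)
  | _ => true

theorem seed_mem : ∀ w < 803, seedChk w = true := by
  decide +kernel

end Cfsg.Agent.Lib.H12.Co3M.Ct
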