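import Cfsg.Agent.Lib.H12.Co3M.Letters

set_option autoImplicit false
set_option maxRecDepth 100000

/-! # Word lists of the monomial certificate of `Co3` over `M23` (generated; letters `0 = s, 1 = s⁻¹, 2 = d, 3 = d⁻¹, 4 = u, 5 = u⁻¹, 6 = c, 7 = c⁻¹`) -/

namespace Cfsg.Agent.Lib.H12.Co3M.Ct

/-- the exact relators that are words in `s d u` -/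
def exactH : List (List ℕ) := [[0, 0, 0, 0, 0, 0, 0, 0, 0, 0, 0, 0, 0, 0, 0, 0, 0, 0, 0, 0, 0, 0, 0], [2, 2, 2, 2, 2, 2, 2, 2, 2, 2, 2], [4, 4, 4, 4, 4], [0, 0, 3, 1, 2], [2, 2, 2, 5, 3, 4], [2, 2, 2, 2, 4, 3, 5], [2, 2, 2, 4, 2, 2, 5], [2, 2, 5, 5, 2, 4, 4], [2, 4, 2, 4, 3, 5, 5], [2, 4, 4, 3, 5, 2, 5], [0, 0, 0, 0, 3, 1, 1, 2], [0, 0, 3, 0, 3, 1, 2, 2], [0, 0, 3, 3, 1, 2, 0, 2], [0, 2, 0, 3, 1, 2, 1, 3], [2, 2, 4, 2, 4, 2, 5, 5], [2, 2, 4, 4, 2, 5, 2, 5], [2, 2, 4, 4, 4, 2, 4, 4], [2, 2, 5, 5, 2, 5, 5, 5], [2, 4, 2, 4, 3, 4, 4, 4], [2, 4, 2, 5, 3, 4, 3, 5], [2, 4, 4, 4, 3, 4, 3, 4], [0, 0, 2, 2, 5, 3, 4, 1, 2], [0, 0, 2, 5, 3, 4, 2, 1,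 2], [0, 0, 3, 1, 3, 3, 5, 2, 4], [0, 0, 3, 1, 3, 5, 2, 4, 3], [0, 0, 3, 1, 4, 2, 2, 2, 5], [0, 0, 3, 1, 5, 2, 4, 3, 3], [0, 0, 4, 3, 3, 3, 5, 1, 2], [0, 0, 5, 3, 4, 2, 2, 1, 2], [2, 2, 4, 2, 5, 2, 4, 2, 5], [2, 2, 4, 3, 4, 3, 5, 3, 5], [2, 4, 2, 4, 4, 2, 4, 3, 4], [2, 4, 3, 4, 3, 4, 4, 3, 4], [0, 0, 0, 2, 2, 2, 1, 3, 3, 3], [0, 0, 0, 2, 2, 2, 1, 5, 3, 4], [0, 0, 0, 5, 2, 4, 1, 3, 3, 3], [0, 0, 0, 5, 2, 4, 1, 5, 3, 4], [0, 0, 2, 2, 2, 4, 3, 5, 1, 2], [0, 0, 2, 2, 4, 2, 2, 5, 1, 2], [0, 0, 2, 2, 4, 3, 5, 2, 1, 2], [0, 0, 2, 4, 2, 2, 5, 2, 1, 2], [0, 0, 2, 4, 3, 5, 2, 2, 1, 2], [0, 0, 2, 5, 2, 2, 2, 4, 1, 2], [0, 0, 2, 5, 5, 2, 4, 4, 1, 2],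 [0, 0, 3, 1, 3, 3, 3, 4, 2, 5], [0, 0, 3, 1, 3, 3, 4, 2, 5, 3], [0, 0, 3, 1, 3, 4, 2, 5, 3, 3], [0, 0, 3, 1, 3, 4, 3, 3, 5, 3], [0, 0, 3, 1, 3, 5, 3, 3, 3, 4], [0, 0, 3, 1, 3, 5, 5, 3, 4, 4], [0, 0, 3, 1, 4, 3, 3, 5, 3, 3], [0, 0, 3, 1, 4, 3, 4, 2, 5, 5], [0, 0, 3, 1, 4, 4, 2, 5, 3, 5], [0, 0, 3, 1, 4, 4, 3, 3, 5, 5], [0, 0, 3, 1, 5, 2, 2, 2, 2, 4], [0, 0, 3, 1, 5, 2, 5, 2, 4, 4], [0, 0, 3, 1, 5, 3, 3, 3, 4, 3], [0, 0, 3, 1, 5, 3, 4, 4, 2, 5], [0, 0, 3, 1, 5, 5, 2, 4, 2, 4], [0, 0, 3, 1, 5, 5, 3, 4, 4, 3], [0, 0, 4, 2, 4, 3, 5, 5, 1, 2], [0, 0, 4, 3, 5, 2, 2, 2, 1, 2], [0, 0, 4, 3, 5, 5, 2, 4, 1, 2], [0, 0, 4, 4, 2, 2, 5, 5, 1, 2], [0,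 0, 4, 4, 3, 5, 2, 5, 1, 2], [0, 0, 5, 2, 2, 2, 4, 2, 1, 2], [0, 0, 5, 3, 3, 3, 3, 4, 1, 2], [0, 0, 5, 3, 5, 3, 4, 4, 1, 2], [0, 0, 5, 5, 2, 4, 4, 2, 1, 2], [0, 0, 5, 5, 3, 4, 3, 4, 1, 2], [0, 2, 0, 2, 2, 2, 1, 4, 3, 5], [0, 2, 0, 3, 3, 1, 2, 2, 0, 3], [0, 2, 0, 5, 2, 4, 1, 4, 3, 5], [0, 3, 0, 4, 2, 5, 1, 3, 3, 3], [0, 3, 0, 4, 2, 5, 1, 5, 3, 4], [0, 0, 0, 0, 0, 0, 2, 2, 1, 3, 3], [0, 0, 0, 0, 0, 2, 0, 2, 0, 3, 3], [0, 0, 0, 0, 0, 2, 2, 0, 3, 0, 3], [0, 0, 0, 0, 2, 5, 3, 4, 1, 2, 2], [0, 0, 0, 0, 3, 3, 1, 3, 5, 2, 4], [0, 0, 0, 0, 3, 3, 1, 5, 2, 4, 3], [0, 0, 0, 0, 5, 3, 4, 2, 1, 2, 2], [0, 0, 0, 2, 0, 0, 3, 3, 1, 1, 2], [0, 0, 0, 2, 2,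 1, 2, 0, 3, 3, 3], [0, 0, 0, 2, 2, 2, 0, 3, 1, 3, 3], [0, 0, 0, 2, 2, 2, 1, 2, 4, 3, 5], [0, 0, 0, 2, 2, 2, 1, 4, 2, 2, 5], [0, 0, 0, 4, 2, 5, 1, 1, 4, 3, 5], [0, 0, 0, 4, 2, 5, 3, 1, 3, 3, 3], [0, 0, 0, 4, 2, 5, 3, 1, 5, 3, 4], [0, 0, 0, 4, 3, 3, 5, 1, 3, 3, 3], [0, 0, 0, 4, 3, 3, 5, 1, 5, 3, 4], [0, 0, 0, 5, 2, 4, 1, 2, 4, 3, 5], [0, 0, 0, 5, 2, 4, 1, 4, 2, 2, 5], [0, 0, 2, 0, 0, 2, 2, 1, 5, 3, 4], [0, 0, 2, 0, 2, 0, 2, 0, 3, 3, 3], [0, 0, 2, 0, 2, 0, 2, 0, 5, 3, 4], [0, 0, 2, 0, 2, 2, 0, 3, 0, 3, 3], [0, 0, 2, 0, 2, 2, 1, 3, 3, 0, 3], [0, 0, 2, 0, 3, 3, 1, 2, 2, 1, 3], [0, 0, 2, 1, 2, 2, 2, 1, 4, 3, 5], [0, 0, 2, 1, 3, 3, 1, 2, 2, 0,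 3], [0, 0, 2, 2, 0, 2, 0, 3, 3, 0, 3], [0, 0, 2, 2, 1, 4, 3, 5, 0, 2, 2], [0, 0, 2, 2, 2, 0, 3, 0, 3, 0, 3], [0, 0, 2, 4, 4, 2, 5, 2, 5, 1, 2], [0, 0, 3, 0, 0, 5, 2, 4, 1, 3, 3], [0, 0, 3, 0, 3, 0, 3, 1, 2, 2, 2], [0, 0, 3, 0, 3, 3, 1, 2, 0, 2, 2], [0, 0, 3, 1, 3, 4, 4, 3, 5, 3, 5], [0, 0, 3, 1, 3, 4, 4, 4, 3, 4, 4], [0, 0, 3, 1, 4, 2, 4, 4, 4, 3, 4], [0, 0, 3, 1, 4, 2, 5, 2, 4, 3, 5], [0, 0, 3, 1, 4, 3, 4, 3, 5, 5, 3], [0, 0, 3, 1, 4, 3, 5, 2, 4, 2, 5], [0, 0, 3, 1, 4, 3, 5, 5, 3, 3, 4], [0, 0, 3, 1, 5, 3, 5, 3, 3, 4, 4], [0, 0, 3, 1, 5, 3, 5, 5, 5, 2, 5], [0, 0, 3, 1, 5, 5, 3, 3, 4, 3, 4], [0, 0, 3, 3, 0, 3, 1, 2, 2, 0, 2], [0, 0, 3,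 3, 0, 4, 2, 5, 1, 3, 3], [0, 0, 4, 2, 4, 2, 5, 5, 2, 1, 2], [0, 0, 4, 2, 5, 1, 3, 3, 3, 1, 3], [0, 0, 4, 2, 5, 3, 4, 3, 5, 1, 2], [0, 0, 4, 3, 4, 4, 4, 2, 4, 1, 2], [0, 0, 4, 3, 5, 3, 4, 2, 5, 1, 2], [0, 0, 5, 2, 2, 4, 4, 2, 5, 1, 2], [0, 0, 5, 2, 4, 0, 3, 0, 3, 0, 3], [0, 0, 5, 2, 5, 2, 2, 4, 4, 1, 2], [0, 0, 5, 2, 5, 5, 5, 3, 5, 1, 2], [0, 0, 5, 5, 2, 2, 4, 2, 4, 1, 2], [0, 0, 5, 5, 2, 5, 5, 5, 2, 1, 2], [0, 2, 0, 2, 0, 4, 3, 5, 0, 2, 2], [0, 2, 0, 2, 2, 1, 2, 0, 4, 3, 5], [0, 2, 0, 2, 2, 2, 1, 3, 5, 3, 4], [0, 2, 0, 3, 4, 2, 5, 1, 4, 3, 5], [0, 2, 0, 4, 2, 5, 3, 1, 4, 3, 5], [0, 2, 0, 4, 3, 3, 5, 1, 4, 3, 5], [0, 2, 0, 5, 2, 4, 1, 3,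 5, 3, 4], [0, 2, 1, 4, 3, 5, 1, 2, 1, 2, 2], [0, 3, 0, 3, 0, 3, 3, 0, 4, 2, 5], [0, 3, 0, 4, 2, 5, 1, 2, 4, 3, 5], [0, 3, 0, 4, 2, 5, 1, 4, 2, 2, 5], [0, 3, 0, 4, 2, 5, 1, 4, 3, 5, 2], [0, 3, 0, 5, 2, 4, 2, 1, 3, 3, 3], [0, 3, 0, 5, 2, 4, 2, 1, 5, 3, 4], [0, 0, 0, 0, 2, 0, 0, 0, 2, 0, 3, 3], [0, 0, 0, 0, 2, 2, 0, 3, 0, 0, 0, 3], [0, 0, 0, 0, 2, 4, 2, 2, 5, 1, 2, 2], [0, 0, 0, 0, 2, 4, 3, 5, 2, 1, 2, 2], [0, 0, 0, 0, 3, 1, 1, 4, 2, 2, 2, 5], [0, 0, 0, 0, 3, 3, 1, 3, 3, 4, 2, 5], [0, 0, 0, 0, 3, 3, 1, 3, 4, 2, 5, 3], [0, 0, 0, 0, 3, 3, 1, 3, 4, 3, 3, 5], [0, 0, 0, 0, 3, 3, 1, 4, 2, 5, 3, 3], [0, 0, 0, 0, 3, 3, 1, 4, 3, 3, 5, 3], [0, 0, 0,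 0, 3, 3, 1, 5, 3, 3, 3, 4], [0, 0, 0, 0, 3, 3, 1, 5, 5, 3, 4, 4], [0, 0, 0, 0, 4, 2, 2, 5, 2, 1, 2, 2], [0, 0, 0, 0, 4, 3, 3, 3, 5, 1, 1, 2], [0, 0, 0, 0, 4, 3, 5, 2, 2, 1, 2, 2], [0, 0, 0, 0, 5, 2, 2, 2, 4, 1, 2, 2], [0, 0, 0, 0, 5, 5, 2, 4, 4, 1, 2, 2], [0, 0, 0, 2, 0, 4, 3, 5, 0, 2, 2, 2], [0, 0, 0, 2, 0, 5, 3, 4, 0, 0, 2, 2], [0, 0, 0, 2, 2, 2, 1, 2, 5, 3, 4, 3], [0, 0, 0, 2, 5, 2, 4, 1, 1, 4, 3, 5], [0, 0, 0, 2, 5, 2, 4, 3, 1, 3, 3, 3], [0, 0, 0, 2, 5, 2, 4, 3, 1, 5, 3, 4], [0, 0, 0, 3, 3, 0, 0, 5, 2, 4, 0, 3], [0, 0, 0, 3, 3, 0, 3, 3, 0, 4, 2, 5], [0, 0, 0, 3, 3, 3, 0, 4, 2, 5, 0, 3], [0, 0, 0, 4, 2, 5, 1, 1, 5, 3, 4, 3], [0, 0, 0,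 4, 2, 5, 3, 1, 4, 2, 2, 5], [0, 0, 0, 4, 3, 3, 5, 1, 2, 4, 3, 5], [0, 0, 0, 4, 3, 3, 5, 1, 4, 2, 2, 5], [0, 0, 0, 4, 3, 5, 0, 2, 2, 0, 2, 2], [0, 0, 0, 5, 2, 4, 1, 2, 5, 3, 4, 3], [0, 0, 2, 0, 0, 2, 2, 1, 2, 4, 3, 5], [0, 0, 2, 0, 0, 2, 2, 1, 4, 2, 2, 5], [0, 0, 2, 0, 2, 0, 2, 0, 2, 4, 3, 5], [0, 0, 2, 0, 2, 0, 2, 0, 4, 2, 2, 5], [0, 0, 2, 1, 2, 2, 1, 2, 0, 4, 3, 5], [0, 0, 2, 2, 0, 4, 3, 5, 1, 1, 2, 2], [0, 0, 2, 2, 1, 1, 2, 2, 1, 4, 3, 5], [0, 0, 2, 2, 1, 3, 5, 3, 4, 0, 2, 2], [0, 0, 2, 4, 2, 5, 2, 4, 2, 5, 1, 2], [0, 0, 2, 4, 3, 4, 3, 5, 3, 5, 1, 2], [0, 0, 2, 5, 0, 0, 3, 1, 4, 2, 1, 2], [0, 0, 2, 5, 1, 1, 3, 0, 4, 2, 1, 2], [0, 0, 3,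 0, 0, 4, 2, 5, 3, 1, 3, 3], [0, 0, 3, 0, 0, 4, 3, 3, 5, 1, 3, 3], [0, 0, 3, 0, 4, 3, 3, 3, 5, 1, 2, 2], [0, 0, 3, 1, 3, 5, 0, 2, 1, 1, 4, 3], [0, 0, 3, 1, 3, 5, 1, 2, 0, 0, 4, 3], [0, 0, 3, 1, 4, 2, 4, 2, 4, 4, 2, 4], [0, 0, 3, 1, 4, 2, 4, 2, 5, 2, 5, 3], [0, 0, 3, 1, 4, 3, 5, 3, 3, 4, 3, 5], [0, 0, 3, 1, 4, 3, 5, 3, 4, 3, 5, 3], [0, 0, 3, 1, 5, 2, 5, 5, 2, 5, 2, 5], [0, 0, 3, 1, 5, 3, 5, 2, 2, 4, 3, 4], [0, 0, 3, 1, 5, 3, 5, 2, 5, 3, 5, 5], [0, 0, 3, 3, 0, 5, 2, 4, 2, 1, 3, 3], [0, 0, 3, 3, 1, 3, 3, 5, 2, 4, 0, 2], [0, 0, 3, 3, 1, 4, 2, 2, 2, 5, 0, 2], [0, 0, 3, 4, 3, 5, 1, 2, 1, 4, 2, 5], [0, 0, 4, 2, 5, 0, 3, 1, 3, 3, 1, 3], [0, 0, 4,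 2, 5, 2, 2, 4, 2, 5, 1, 2], [0, 0, 4, 2, 5, 3, 0, 3, 0, 3, 0, 3], [0, 0, 4, 3, 3, 5, 0, 3, 0, 3, 0, 3], [0, 0, 4, 3, 4, 3, 4, 4, 3, 4, 1, 2], [0, 0, 4, 3, 5, 1, 3, 1, 2, 4, 2, 5], [0, 0, 4, 3, 5, 1, 3, 1, 4, 2, 5, 2], [0, 0, 4, 3, 5, 1, 3, 1, 5, 3, 3, 4], [0, 0, 4, 3, 5, 3, 1, 2, 1, 4, 2, 5], [0, 0, 4, 4, 2, 4, 3, 4, 2, 4, 1, 2], [0, 0, 5, 2, 2, 4, 1, 2, 1, 4, 2, 5], [0, 0, 5, 2, 5, 3, 3, 4, 2, 4, 1, 2], [0, 0, 5, 3, 5, 5, 3, 5, 3, 5, 1, 2], [0, 2, 0, 2, 0, 3, 5, 3, 4, 0, 2, 2], [0, 2, 0, 2, 2, 2, 1, 2, 5, 2, 2, 4], [0, 2, 0, 2, 2, 2, 1, 3, 4, 2, 2, 5], [0, 2, 0, 2, 5, 2, 4, 3, 1, 4, 3, 5], [0, 2, 0, 2, 5, 3, 4, 1, 2, 2, 0, 3], [0, 2, 0,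 3, 3, 0, 3, 3, 0, 2, 2, 2], [0, 2, 0, 3, 3, 0, 3, 3, 0, 5, 2, 4], [0, 2, 0, 3, 3, 1, 5, 2, 4, 3, 0, 3], [0, 2, 0, 3, 4, 2, 5, 1, 3, 5, 3, 4], [0, 2, 0, 3, 5, 2, 4, 2, 1, 4, 3, 5], [0, 2, 0, 4, 2, 5, 3, 1, 3, 5, 3, 4], [0, 2, 0, 4, 3, 3, 5, 1, 3, 5, 3, 4], [0, 2, 0, 5, 2, 4, 1, 2, 5, 2, 2, 4], [0, 2, 0, 5, 2, 4, 1, 3, 4, 2, 2, 5], [0, 2, 2, 0, 2, 2, 0, 3, 0, 3, 3, 3], [0, 2, 2, 0, 2, 2, 0, 3, 0, 5, 3, 4], [0, 2, 2, 0, 2, 2, 1, 3, 3, 0, 3, 3], [0, 2, 2, 0, 2, 4, 2, 5, 0, 4, 2, 5], [0, 2, 2, 0, 3, 3, 1, 2, 2, 1, 3, 3], [0, 2, 2, 0, 4, 2, 5, 2, 0, 4, 2, 5], [0, 2, 2, 0, 5, 3, 3, 4, 0, 4, 2, 5], [0, 2, 2, 1, 2, 2, 2, 1, 3, 4, 3, 5], [0, 2, 2,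 1, 2, 2, 2, 1, 4, 3, 5, 3], [0, 2, 2, 1, 2, 2, 2, 1, 5, 2, 2, 4], [0, 2, 2, 1, 5, 2, 4, 1, 3, 4, 3, 5], [0, 2, 2, 1, 5, 2, 4, 1, 4, 3, 5, 3], [0, 2, 2, 1, 5, 2, 4, 1, 5, 2, 2, 4], [0, 2, 2, 2, 0, 3, 4, 3, 5, 1, 2, 2], [0, 2, 2, 2, 0, 4, 3, 5, 3, 1, 2, 2], [0, 2, 2, 2, 0, 5, 2, 2, 4, 1, 2, 2], [0, 2, 4, 2, 5, 1, 5, 3, 4, 1, 3, 3], [0, 2, 5, 2, 2, 4, 1, 2, 1, 2, 2, 2], [0, 2, 5, 2, 2, 4, 1, 2, 1, 5, 2, 4], [0, 3, 0, 3, 0, 3, 3, 0, 5, 2, 4, 2], [0, 3, 0, 3, 4, 2, 5, 2, 1, 3, 3, 3], [0, 3, 0, 3, 4, 2, 5, 2, 1, 5, 3, 4], [0, 3, 0, 3, 5, 3, 3, 4, 1, 3, 3, 3], [0, 3, 0, 3, 5, 3, 3, 4, 1, 5, 3, 4], [0, 3, 0, 4, 2, 5, 1, 2, 5, 3, 4, 3], [0, 3, 0,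 4, 2, 5, 1, 3, 5, 3, 4, 2], [0, 3, 0, 4, 3, 3, 5, 2, 1, 3, 3, 3], [0, 3, 0, 4, 3, 3, 5, 2, 1, 5, 3, 4], [0, 3, 0, 5, 2, 4, 2, 1, 2, 4, 3, 5], [0, 3, 0, 5, 2, 4, 2, 1, 4, 2, 2, 5], [0, 3, 0, 5, 2, 4, 2, 1, 4, 3, 5, 2], [0, 3, 3, 0, 4, 3, 5, 0, 3, 4, 3, 5], [0, 3, 3, 0, 4, 3, 5, 0, 4, 3, 5, 3], [0, 3, 3, 0, 4, 3, 5, 0, 5, 2, 2, 4], [0, 3, 4, 3, 5, 1, 2, 2, 0, 5, 2, 4], [0, 4, 0, 4, 0, 4, 0, 4, 0, 4, 0, 4], [0, 5, 2, 2, 4, 1, 2, 2, 0, 5, 2, 4], [0, 0, 0, 0, 0, 0, 2, 2, 1, 2, 5, 3, 4], [0, 0, 0, 0, 0, 0, 5, 2, 4, 3, 1, 3, 3], [0, 0, 0, 0, 0, 2, 0, 2, 0, 2, 5, 3, 4], [0, 0, 0, 0, 0, 5, 2, 4, 3, 0, 3, 0, 3], [0, 0, 0, 0, 2, 0, 3, 0, 2, 2, 0,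 3, 3], [0, 0, 0, 0, 2, 1, 1, 2, 2, 1, 5, 3, 4], [0, 0, 0, 0, 2, 1, 4, 3, 5, 0, 5, 2, 4], [0, 0, 0, 0, 2, 2, 0, 2, 2, 0, 4, 3, 5], [0, 0, 0, 0, 2, 2, 0, 3, 3, 0, 2, 0, 3], [0, 0, 0, 0, 2, 5, 3, 4, 1, 3, 5, 2, 4], [0, 0, 0, 0, 3, 1, 1, 4, 3, 4, 2, 5, 5], [0, 0, 0, 0, 3, 1, 1, 4, 4, 2, 5, 3, 5], [0, 0, 0, 0, 3, 1, 1, 4, 4, 3, 3, 5, 5], [0, 0, 0, 0, 3, 1, 1, 5, 2, 5, 2, 4, 4], [0, 0, 0, 0, 3, 3, 1, 4, 3, 4, 3, 5, 5], [0, 0, 0, 0, 3, 3, 1, 4, 4, 3, 5, 3, 5], [0, 0, 0, 0, 4, 2, 4, 3, 5, 5, 1, 1, 2], [0, 0, 0, 0, 4, 2, 5, 0, 3, 3, 0, 3, 3], [0, 0, 0, 0, 4, 4, 2, 2, 5, 5, 1, 1, 2], [0, 0, 0, 0, 4, 4, 3, 5, 2, 5, 1, 1, 2], [0, 0, 0, 0, 5, 2, 4,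 1, 3, 3, 1, 1, 3], [0, 0, 0, 0, 5, 3, 4, 0, 4, 2, 5, 1, 3], [0, 0, 0, 0, 5, 3, 4, 2, 1, 3, 5, 2, 4], [0, 0, 0, 0, 5, 3, 4, 2, 1, 5, 2, 4, 3], [0, 0, 0, 0, 5, 5, 3, 4, 3, 4, 1, 1, 2], [0, 0, 0, 2, 0, 2, 4, 3, 5, 0, 0, 2, 2], [0, 0, 0, 2, 0, 3, 5, 3, 4, 0, 2, 2, 2], [0, 0, 0, 2, 0, 4, 2, 2, 5, 0, 0, 2, 2], [0, 0, 0, 2, 0, 4, 3, 5, 0, 4, 3, 3, 5], [0, 0, 0, 2, 2, 1, 2, 2, 0, 0, 4, 3, 5], [0, 0, 0, 2, 2, 2, 1, 2, 2, 5, 2, 2, 4], [0, 0, 0, 2, 2, 2, 1, 2, 4, 2, 2, 5, 3], [0, 0, 0, 2, 2, 2, 1, 3, 5, 2, 2, 2, 4], [0, 0, 0, 2, 2, 2, 1, 3, 5, 5, 2, 4, 4], [0, 0, 0, 2, 2, 2, 1, 5, 0, 0, 3, 1, 4], [0, 0, 0, 2, 2, 2, 1, 5, 1, 1, 3, 0, 4], [0, 0, 0,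 2, 2, 2, 1, 5, 3, 5, 5, 5, 5], [0, 0, 0, 2, 4, 2, 5, 3, 1, 1, 4, 3, 5], [0, 0, 0, 2, 4, 2, 5, 3, 3, 1, 3, 3, 3], [0, 0, 0, 2, 4, 3, 3, 5, 1, 1, 4, 3, 5], [0, 0, 0, 2, 4, 3, 3, 5, 3, 1, 3, 3, 3], [0, 0, 0, 2, 4, 3, 3, 5, 3, 1, 5, 3, 4], [0, 0, 0, 3, 3, 0, 0, 4, 2, 5, 3, 0, 3], [0, 0, 0, 3, 3, 0, 0, 4, 3, 3, 5, 0, 3], [0, 0, 0, 3, 3, 3, 0, 5, 2, 4, 2, 0, 3], [0, 0, 0, 4, 2, 2, 5, 0, 4, 2, 5, 0, 3], [0, 0, 0, 4, 2, 5, 0, 0, 3, 3, 1, 3, 3], [0, 0, 0, 4, 2, 5, 1, 1, 2, 4, 3, 5, 3], [0, 0, 0, 4, 2, 5, 1, 1, 2, 5, 2, 2, 4], [0, 0, 0, 4, 2, 5, 1, 1, 4, 2, 2, 5, 3], [0, 0, 0, 4, 3, 5, 0, 5, 2, 4, 0, 0, 2], [0, 0, 0, 4, 4, 4, 4, 2, 4, 1, 3, 3, 3],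 [0, 0, 0, 4, 4, 4, 4, 2, 4, 1, 5, 3, 4], [0, 0, 0, 5, 0, 2, 1, 1, 4, 1, 3, 3, 3], [0, 0, 0, 5, 0, 2, 1, 1, 4, 1, 5, 3, 4], [0, 0, 0, 5, 1, 2, 0, 0, 4, 1, 3, 3, 3], [0, 0, 0, 5, 1, 2, 0, 0, 4, 1, 5, 3, 4], [0, 0, 0, 5, 2, 4, 1, 2, 4, 2, 2, 5, 3], [0, 0, 0, 5, 2, 4, 1, 3, 5, 2, 2, 2, 4], [0, 0, 0, 5, 2, 4, 1, 3, 5, 5, 2, 4, 4], [0, 0, 0, 5, 2, 4, 1, 5, 0, 0, 3, 1, 4], [0, 0, 0, 5, 2, 4, 1, 5, 1, 1, 3, 0, 4], [0, 0, 0, 5, 2, 4, 1, 5, 3, 5, 5, 5, 5], [0, 0, 0, 5, 3, 3, 3, 4, 2, 1, 3, 3, 3], [0, 0, 0, 5, 3, 3, 3, 4, 2, 1, 5, 3, 4], [0, 0, 0, 5, 3, 3, 4, 3, 1, 1, 4, 3, 5], [0, 0, 0, 5, 3, 3, 4, 3, 3, 1, 3, 3, 3], [0, 0, 0, 5, 5, 3, 4, 4, 2, 1,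 3, 3, 3], [0, 0, 0, 5, 5, 3, 4, 4, 2, 1, 5, 3, 4], [0, 0, 2, 0, 2, 2, 1, 2, 5, 3, 4, 0, 3], [0, 0, 2, 0, 2, 2, 1, 5, 3, 4, 2, 0, 3], [0, 0, 2, 0, 2, 4, 2, 5, 0, 2, 4, 2, 5], [0, 0, 2, 0, 2, 4, 2, 5, 0, 4, 2, 5, 2], [0, 0, 2, 0, 2, 4, 2, 5, 0, 5, 3, 3, 4], [0, 0, 2, 0, 2, 5, 3, 4, 1, 2, 2, 1, 3], [0, 0, 2, 0, 3, 0, 3, 3, 3, 0, 5, 2, 4], [0, 0, 2, 0, 3, 0, 5, 3, 4, 0, 2, 2, 2], [0, 0, 2, 0, 3, 1, 4, 2, 5, 1, 4, 3, 5], [0, 0, 2, 0, 3, 4, 3, 5, 0, 0, 4, 2, 5], [0, 0, 2, 0, 3, 5, 2, 4, 1, 3, 3, 0, 3], [0, 0, 2, 0, 4, 2, 5, 2, 0, 2, 4, 2, 5], [0, 0, 2, 0, 4, 2, 5, 2, 0, 5, 3, 3, 4], [0, 0, 2, 0, 4, 3, 5, 3, 0, 0, 4, 2, 5], [0, 0, 2, 0, 5, 2,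 2, 4, 0, 0, 4, 2, 5], [0, 0, 2, 0, 5, 2, 4, 3, 0, 3, 0, 3, 3], [0, 0, 2, 0, 5, 3, 3, 4, 0, 2, 4, 2, 5], [0, 0, 2, 0, 5, 3, 3, 4, 0, 4, 2, 5, 2], [0, 0, 2, 0, 5, 3, 3, 4, 0, 5, 3, 3, 4], [0, 0, 2, 0, 5, 3, 4, 2, 1, 2, 2, 1, 3], [0, 0, 2, 1, 2, 2, 2, 1, 2, 5, 2, 2, 4], [0, 0, 2, 1, 3, 3, 1, 3, 5, 2, 4, 0, 3], [0, 0, 2, 1, 3, 3, 1, 5, 2, 4, 3, 0, 3], [0, 0, 2, 1, 4, 2, 5, 1, 1, 4, 3, 5, 3], [0, 0, 2, 2, 0, 3, 4, 3, 5, 1, 2, 2, 2], [0, 0, 2, 2, 0, 3, 4, 3, 5, 1, 5, 2, 4], [0, 0, 2, 2, 0, 3, 5, 3, 4, 1, 1, 2, 2], [0, 0, 2, 2, 0, 4, 3, 5, 3, 1, 5, 2, 4], [0, 0, 2, 2, 0, 5, 2, 2, 4, 1, 2, 2, 2], [0, 0, 2, 2, 0, 5, 2, 2, 4, 1, 5, 2, 4], [0, 0,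 2, 2, 1, 1, 2, 2, 1, 3, 5, 3, 4], [0, 0, 2, 2, 1, 2, 2, 1, 3, 3, 1, 3, 3], [0, 0, 2, 2, 1, 2, 5, 2, 2, 4, 0, 2, 2], [0, 0, 2, 2, 1, 3, 4, 2, 2, 5, 0, 2, 2], [0, 0, 2, 2, 1, 3, 4, 3, 5, 2, 0, 2, 2], [0, 0, 2, 2, 1, 4, 3, 5, 0, 3, 5, 2, 4], [0, 0, 2, 2, 1, 5, 2, 2, 4, 2, 0, 2, 2], [0, 0, 2, 2, 2, 0, 2, 2, 0, 3, 4, 3, 5], [0, 0, 2, 2, 2, 0, 2, 2, 0, 4, 3, 5, 3], [0, 0, 2, 2, 2, 0, 2, 2, 0, 5, 2, 2, 4], [0, 0, 2, 2, 4, 0, 0, 3, 1, 5, 2, 1, 2], [0, 0, 2, 2, 4, 0, 2, 1, 1, 2, 5, 1, 2], [0, 0, 2, 2, 4, 1, 1, 3, 0, 5, 2, 1, 2], [0, 0, 2, 2, 4, 1, 2, 0, 0, 2, 5, 1, 2], [0, 0, 2, 2, 4, 2, 5, 1, 2, 1, 4, 2, 5], [0, 0, 2, 4, 0, 2, 1, 1, 2, 5, 2, 1,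 2], [0, 0, 2, 4, 1, 2, 0, 0, 2, 5, 2, 1, 2], [0, 0, 2, 4, 2, 0, 2, 1, 1, 5, 2, 1, 2], [0, 0, 2, 4, 2, 1, 2, 0, 0, 5, 2, 1, 2], [0, 0, 2, 4, 2, 5, 0, 3, 0, 0, 4, 3, 5], [0, 0, 2, 4, 2, 5, 0, 3, 3, 0, 3, 3, 3], [0, 0, 2, 4, 2, 5, 0, 3, 3, 0, 5, 3, 4], [0, 0, 2, 4, 2, 5, 1, 1, 4, 3, 5, 1, 3], [0, 0, 2, 4, 2, 5, 1, 2, 2, 0, 4, 2, 5], [0, 0, 2, 4, 2, 5, 2, 1, 2, 1, 4, 2, 5], [0, 0, 2, 5, 0, 2, 1, 1, 2, 2, 4, 1, 2], [0, 0, 2, 5, 2, 0, 2, 1, 1, 2, 4, 1, 2], [0, 0, 2, 5, 3, 4, 2, 1, 3, 3, 5, 2, 4], [0, 0, 2, 5, 3, 4, 2, 1, 4, 2, 2, 2, 5], [0, 0, 2, 5, 5, 0, 2, 1, 1, 4, 4, 1, 2], [0, 0, 2, 5, 5, 1, 2, 0, 0, 4, 4, 1, 2], [0, 0, 3, 0, 4, 2, 4, 3,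 5, 5, 1, 2, 2], [0, 0, 3, 0, 4, 3, 5, 2, 2, 2, 1, 2, 2], [0, 0, 3, 0, 4, 4, 2, 2, 5, 5, 1, 2, 2], [0, 0, 3, 0, 5, 3, 5, 3, 4, 4, 1, 2, 2], [0, 0, 3, 1, 3, 3, 4, 0, 0, 3, 1, 3, 5], [0, 0, 3, 1, 3, 3, 4, 1, 1, 3, 0, 3, 5], [0, 0, 3, 1, 3, 4, 0, 0, 3, 1, 3, 5, 3], [0, 0, 3, 1, 3, 4, 0, 2, 1, 1, 5, 3, 3], [0, 0, 3, 1, 3, 4, 1, 1, 3, 0, 3, 5, 3], [0, 0, 3, 1, 3, 4, 1, 2, 0, 0, 5, 3, 3], [0, 0, 3, 1, 3, 4, 3, 0, 0, 3, 1, 5, 3], [0, 0, 3, 1, 3, 5, 1, 1, 3, 0, 3, 3, 4], [0, 0, 3, 1, 3, 5, 5, 0, 0, 3, 1, 4, 4], [0, 0, 3, 1, 3, 5, 5, 1, 1, 3, 0, 4, 4], [0, 0, 3, 1, 4, 0, 3, 0, 4, 2, 5, 1, 5], [0, 0, 3, 1, 4, 1, 3, 1, 4, 2, 5, 0, 5], [0, 0, 3, 1,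 4, 3, 0, 0, 3, 1, 5, 3, 3], [0, 0, 3, 1, 4, 4, 0, 2, 1, 1, 5, 3, 5], [0, 0, 3, 1, 4, 4, 1, 1, 3, 0, 3, 5, 5], [0, 0, 3, 1, 4, 4, 1, 2, 0, 0, 5, 3, 5], [0, 0, 3, 1, 4, 4, 3, 0, 0, 3, 1, 5, 5], [0, 0, 3, 1, 5, 0, 2, 0, 2, 2, 2, 1, 4], [0, 0, 3, 1, 5, 0, 2, 0, 5, 2, 4, 1, 4], [0, 0, 3, 1, 5, 1, 2, 1, 2, 2, 2, 0, 4], [0, 0, 3, 1, 5, 1, 2, 1, 5, 2, 4, 0, 4], [0, 0, 3, 1, 5, 5, 1, 1, 3, 0, 4, 4, 3], [0, 0, 3, 1, 5, 5, 1, 2, 0, 0, 4, 2, 4], [0, 0, 3, 3, 0, 3, 4, 2, 5, 2, 1, 3, 3], [0, 0, 3, 3, 0, 3, 5, 3, 3, 4, 1, 3, 3], [0, 0, 3, 3, 0, 4, 3, 3, 5, 2, 1, 3, 3], [0, 0, 3, 3, 0, 5, 3, 3, 4, 3, 1, 3, 3], [0, 0, 3, 3, 1, 3, 3, 3, 4, 2, 5, 0, 2], [0,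 0, 3, 3, 1, 4, 4, 2, 5, 3, 5, 0, 2], [0, 0, 3, 3, 1, 4, 4, 3, 3, 5, 5, 0, 2], [0, 0, 3, 3, 1, 5, 3, 4, 4, 2, 5, 0, 2], [0, 0, 3, 3, 1, 5, 5, 2, 4, 2, 4, 0, 2], [0, 0, 3, 3, 3, 0, 4, 3, 5, 0, 4, 3, 5], [0, 0, 3, 3, 3, 0, 5, 2, 4, 0, 2, 0, 3], [0, 0, 3, 3, 3, 1, 4, 2, 5, 2, 0, 3, 3], [0, 0, 3, 3, 3, 1, 5, 3, 3, 4, 0, 3, 3], [0, 0, 3, 4, 3, 5, 0, 4, 3, 5, 3, 0, 3], [0, 0, 3, 4, 3, 5, 0, 5, 2, 2, 4, 0, 3], [0, 0, 3, 4, 3, 5, 1, 1, 2, 0, 4, 2, 5], [0, 0, 4, 0, 4, 3, 5, 1, 2, 1, 5, 1, 2], [0, 0, 4, 1, 4, 3, 5, 0, 2, 0, 5, 1, 2], [0, 0, 4, 2, 1, 2, 0, 0, 5, 2, 2, 1, 2], [0, 0, 4, 2, 4, 1, 1, 3, 0, 5, 5, 1, 2], [0, 0, 4, 2, 5, 0, 2, 0, 3, 0, 4,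 3, 5], [0, 0, 4, 2, 5, 0, 4, 2, 5, 0, 2, 2, 2], [0, 0, 4, 2, 5, 1, 4, 3, 5, 1, 2, 0, 3], [0, 0, 4, 2, 5, 2, 0, 3, 0, 0, 4, 3, 5], [0, 0, 4, 2, 5, 2, 0, 3, 3, 0, 3, 3, 3], [0, 0, 4, 2, 5, 2, 0, 3, 3, 0, 5, 3, 4], [0, 0, 4, 2, 5, 2, 1, 2, 2, 0, 4, 2, 5], [0, 0, 4, 2, 5, 2, 2, 1, 2, 1, 4, 2, 5], [0, 0, 4, 3, 3, 3, 5, 1, 3, 5, 2, 4, 3], [0, 0, 4, 3, 5, 0, 0, 5, 3, 3, 4, 0, 3], [0, 0, 4, 3, 5, 0, 3, 3, 1, 3, 4, 3, 5], [0, 0, 4, 3, 5, 0, 3, 3, 1, 4, 3, 5, 3], [0, 0, 4, 3, 5, 0, 3, 3, 1, 5, 2, 2, 4], [0, 0, 4, 3, 5, 1, 3, 1, 4, 3, 5, 3, 3], [0, 0, 4, 3, 5, 1, 3, 1, 4, 4, 2, 5, 5], [0, 0, 4, 3, 5, 3, 0, 3, 4, 3, 5, 0, 3], [0, 0, 4, 3, 5, 3, 0,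 4, 3, 5, 3, 0, 3], [0, 0, 4, 3, 5, 3, 0, 5, 2, 2, 4, 0, 3], [0, 0, 4, 4, 2, 1, 2, 0, 0, 5, 5, 1, 2], [0, 0, 4, 4, 3, 5, 5, 1, 2, 1, 4, 2, 5], [0, 0, 5, 0, 3, 3, 3, 1, 3, 1, 4, 1, 2], [0, 0, 5, 0, 5, 3, 4, 1, 3, 1, 4, 1, 2], [0, 0, 5, 1, 3, 3, 3, 0, 3, 0, 4, 1, 2], [0, 0, 5, 1, 5, 3, 4, 0, 3, 0, 4, 1, 2], [0, 0, 5, 2, 2, 4, 0, 3, 4, 3, 5, 0, 3], [0, 0, 5, 2, 2, 4, 0, 4, 3, 5, 3, 0, 3], [0, 0, 5, 2, 2, 4, 0, 5, 2, 2, 4, 0, 3], [0, 0, 5, 2, 2, 4, 1, 2, 1, 2, 5, 2, 4], [0, 0, 5, 2, 4, 0, 2, 2, 0, 3, 4, 3, 5], [0, 0, 5, 2, 4, 0, 2, 2, 0, 4, 3, 5, 3], [0, 0, 5, 2, 4, 0, 2, 2, 0, 5, 2, 2, 4], [0, 0, 5, 3, 3, 4, 0, 3, 3, 0, 3, 3, 3], [0, 0, 5,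 3, 3, 4, 0, 3, 3, 0, 5, 3, 4], [0, 0, 5, 3, 3, 4, 1, 2, 2, 0, 4, 2, 5], [0, 0, 5, 3, 3, 4, 2, 1, 2, 1, 4, 2, 5], [0, 0, 5, 3, 3, 4, 3, 1, 3, 3, 3, 1, 3], [0, 0, 5, 3, 4, 0, 2, 2, 2, 0, 2, 0, 3], [0, 0, 5, 3, 4, 1, 2, 4, 2, 5, 0, 3, 3], [0, 0, 5, 3, 4, 1, 4, 2, 5, 2, 0, 3, 3], [0, 0, 5, 3, 4, 1, 5, 3, 3, 4, 0, 3, 3], [0, 0, 5, 3, 4, 2, 0, 4, 2, 5, 1, 3, 3], [0, 0, 5, 3, 4, 2, 2, 1, 3, 5, 2, 4, 3], [0, 0, 5, 3, 4, 3, 1, 3, 1, 5, 3, 3, 4], [0, 2, 0, 2, 0, 2, 5, 2, 2, 4, 0, 2, 2], [0, 2, 0, 2, 0, 4, 3, 5, 0, 3, 5, 2, 4], [0, 2, 0, 2, 0, 5, 2, 2, 4, 2, 0, 2, 2], [0, 2, 0, 2, 1, 2, 4, 2, 5, 0, 4, 2, 5], [0, 2, 0, 2, 2, 0, 4, 2, 5, 1, 4, 2, 5],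 [0, 2, 0, 2, 2, 1, 5, 3, 4, 0, 2, 0, 3], [0, 2, 0, 2, 2, 2, 1, 2, 2, 2, 4, 2, 5], [0, 2, 0, 2, 2, 2, 1, 2, 4, 4, 3, 5, 5], [0, 2, 0, 2, 2, 2, 1, 4, 3, 4, 4, 4, 4], [0, 2, 0, 2, 2, 2, 1, 5, 5, 2, 2, 4, 4], [0, 2, 0, 2, 4, 2, 2, 5, 1, 2, 2, 0, 3], [0, 2, 0, 2, 4, 2, 5, 3, 3, 1, 4, 3, 5], [0, 2, 0, 2, 4, 3, 3, 5, 3, 1, 4, 3, 5], [0, 2, 0, 2, 5, 2, 2, 2, 4, 1, 2, 1, 3], [0, 2, 0, 2, 5, 2, 4, 3, 1, 3, 5, 3, 4], [0, 2, 0, 2, 5, 3, 3, 3, 4, 1, 4, 3, 5], [0, 2, 0, 2, 5, 5, 2, 4, 4, 1, 2, 1, 3], [0, 2, 0, 2, 5, 5, 3, 4, 4, 1, 4, 3, 5], [0, 2, 0, 3, 0, 5, 2, 4, 0, 3, 0, 3, 3], [0, 2, 0, 3, 1, 2, 1, 2, 5, 2, 2, 2, 4], [0, 2, 0, 3, 1, 2, 1, 2, 5, 5,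 2, 4, 4], [0, 2, 0, 3, 1, 2, 1, 4, 2, 4, 3, 5, 5], [0, 2, 0, 3, 1, 2, 1, 4, 4, 2, 2, 5, 5], [0, 2, 0, 3, 1, 2, 1, 5, 3, 5, 3, 4, 4], [0, 2, 0, 3, 3, 0, 3, 3, 0, 3, 4, 2, 5], [0, 2, 0, 3, 3, 0, 3, 3, 0, 4, 3, 3, 5], [0, 2, 0, 3, 3, 1, 4, 3, 3, 5, 3, 0, 3], [0, 2, 0, 3, 3, 1, 5, 3, 3, 3, 4, 0, 3], [0, 2, 0, 3, 3, 4, 2, 5, 2, 1, 4, 3, 5], [0, 2, 0, 3, 3, 5, 3, 3, 4, 1, 4, 3, 5], [0, 2, 0, 3, 4, 2, 5, 1, 2, 5, 2, 2, 4], [0, 2, 0, 3, 4, 2, 5, 1, 3, 4, 2, 2, 5], [0, 2, 0, 3, 5, 2, 4, 2, 1, 3, 5, 3, 4], [0, 2, 0, 4, 2, 4, 3, 5, 5, 1, 2, 1, 3], [0, 2, 0, 4, 2, 5, 3, 1, 3, 4, 2, 2, 5], [0, 2, 0, 4, 3, 3, 5, 1, 2, 5, 2, 2, 4], [0, 2, 0, 4, 4, 2,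 2, 5, 5, 1, 2, 1, 3], [0, 2, 0, 4, 4, 4, 4, 2, 4, 1, 4, 3, 5], [0, 2, 0, 5, 2, 2, 2, 4, 1, 2, 2, 0, 3], [0, 2, 0, 5, 2, 4, 1, 2, 2, 2, 4, 2, 5], [0, 2, 0, 5, 2, 4, 1, 2, 4, 4, 3, 5, 5], [0, 2, 0, 5, 2, 4, 1, 4, 3, 4, 4, 4, 4], [0, 2, 0, 5, 2, 4, 1, 5, 5, 2, 2, 4, 4], [0, 2, 0, 5, 2, 5, 5, 5, 5, 1, 4, 3, 5], [0, 2, 0, 5, 3, 3, 3, 4, 2, 1, 4, 3, 5], [0, 2, 0, 5, 3, 5, 3, 4, 4, 1, 2, 1, 3], [0, 2, 0, 5, 5, 3, 4, 4, 2, 1, 4, 3, 5], [0, 2, 1, 4, 2, 5, 1, 3, 3, 3, 0, 3, 3], [0, 2, 1, 4, 2, 5, 1, 5, 3, 4, 0, 3, 3], [0, 2, 2, 0, 2, 2, 0, 3, 0, 4, 2, 2, 5], [0, 2, 2, 0, 2, 2, 0, 3, 0, 4, 3, 5, 2], [0, 2, 2, 0, 2, 2, 2, 1, 4, 3, 5, 1, 3], [0, 2,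 2, 0, 2, 2, 5, 2, 4, 0, 4, 2, 5], [0, 2, 2, 0, 2, 4, 2, 5, 0, 2, 5, 2, 4], [0, 2, 2, 0, 2, 5, 2, 4, 2, 0, 4, 2, 5], [0, 2, 2, 0, 3, 3, 4, 3, 5, 0, 4, 2, 5], [0, 2, 2, 0, 3, 4, 3, 5, 3, 0, 4, 2, 5], [0, 2, 2, 0, 3, 5, 2, 2, 4, 0, 4, 2, 5], [0, 2, 2, 0, 4, 2, 5, 2, 0, 2, 2, 2, 2], [0, 2, 2, 0, 4, 2, 5, 2, 0, 2, 5, 2, 4], [0, 2, 2, 0, 4, 2, 5, 2, 0, 5, 2, 4, 2], [0, 2, 2, 0, 4, 3, 5, 3, 3, 0, 4, 2, 5], [0, 2, 2, 0, 4, 4, 2, 5, 5, 0, 4, 2, 5], [0, 2, 2, 0, 5, 2, 2, 4, 3, 0, 4, 2, 5], [0, 2, 2, 0, 5, 2, 4, 1, 4, 3, 5, 1, 3], [0, 2, 2, 0, 5, 3, 3, 4, 0, 2, 2, 2, 2], [0, 2, 2, 0, 5, 3, 3, 4, 0, 2, 5, 2, 4], [0, 2, 2, 0, 5, 3, 3, 4, 0, 5, 2, 4,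 2], [0, 2, 2, 1, 2, 2, 1, 2, 0, 3, 4, 3, 5], [0, 2, 2, 1, 2, 2, 2, 1, 2, 2, 4, 2, 5], [0, 2, 2, 1, 2, 2, 2, 1, 4, 4, 3, 5, 5], [0, 2, 2, 1, 3, 4, 2, 5, 1, 3, 4, 3, 5], [0, 2, 2, 1, 3, 4, 2, 5, 1, 4, 3, 5, 3], [0, 2, 2, 1, 4, 2, 5, 3, 1, 3, 4, 3, 5], [0, 2, 2, 1, 4, 2, 5, 3, 1, 4, 3, 5, 3], [0, 2, 2, 1, 4, 2, 5, 3, 1, 5, 2, 2, 4], [0, 2, 2, 1, 4, 3, 3, 5, 1, 3, 4, 3, 5], [0, 2, 2, 1, 4, 3, 3, 5, 1, 5, 2, 2, 4], [0, 2, 2, 1, 5, 2, 4, 1, 2, 2, 4, 2, 5], [0, 2, 2, 1, 5, 2, 4, 1, 2, 4, 2, 5, 2], [0, 2, 2, 1, 5, 2, 4, 1, 4, 2, 5, 2, 2], [0, 2, 2, 1, 5, 2, 4, 1, 4, 4, 3, 5, 5], [0, 2, 2, 1, 5, 2, 4, 1, 5, 3, 3, 4, 2], [0, 2, 2, 2, 0, 2, 2, 4,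 2, 5, 1, 2, 2], [0, 2, 2, 2, 0, 4, 4, 3, 5, 5, 1, 2, 2], [0, 2, 2, 2, 4, 2, 5, 1, 2, 1, 2, 2, 2], [0, 2, 2, 2, 4, 2, 5, 1, 2, 1, 5, 2, 4], [0, 2, 2, 4, 2, 5, 0, 3, 3, 0, 4, 3, 5], [0, 2, 2, 4, 2, 5, 1, 2, 2, 0, 5, 2, 4], [0, 2, 4, 2, 5, 1, 4, 2, 5, 1, 2, 1, 2], [0, 2, 4, 2, 5, 1, 4, 3, 5, 2, 1, 3, 3], [0, 2, 4, 2, 5, 2, 0, 3, 3, 0, 4, 3, 5], [0, 2, 4, 2, 5, 2, 2, 1, 2, 1, 5, 2, 4], [0, 2, 4, 4, 3, 5, 5, 1, 2, 1, 2, 2, 2], [0, 2, 4, 4, 3, 5, 5, 1, 2, 1, 5, 2, 4], [0, 2, 5, 2, 2, 4, 1, 2, 1, 3, 4, 2, 5], [0, 2, 5, 2, 2, 4, 1, 2, 1, 4, 3, 3, 5], [0, 2, 5, 3, 3, 4, 0, 3, 3, 0, 4, 3, 5], [0, 3, 0, 3, 0, 3, 3, 0, 3, 5, 3, 3, 4], [0, 3, 0, 3,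 0, 3, 3, 0, 5, 3, 3, 4, 3], [0, 3, 0, 3, 0, 5, 3, 4, 2, 0, 4, 2, 5], [0, 3, 0, 3, 3, 3, 4, 3, 5, 1, 5, 3, 4], [0, 3, 0, 3, 3, 5, 2, 2, 4, 1, 5, 3, 4], [0, 3, 0, 3, 4, 2, 5, 2, 1, 2, 4, 3, 5], [0, 3, 0, 3, 5, 3, 3, 4, 1, 2, 4, 3, 5], [0, 3, 0, 4, 2, 5, 1, 2, 2, 4, 3, 5, 3], [0, 3, 0, 4, 2, 5, 1, 2, 4, 2, 2, 5, 3], [0, 3, 0, 4, 2, 5, 1, 3, 4, 3, 5, 2, 2], [0, 3, 0, 4, 2, 5, 1, 3, 5, 2, 2, 2, 4], [0, 3, 0, 4, 2, 5, 1, 3, 5, 5, 2, 4, 4], [0, 3, 0, 4, 2, 5, 1, 4, 4, 4, 4, 3, 4], [0, 3, 0, 4, 2, 5, 1, 5, 2, 2, 2, 4, 3], [0, 3, 0, 4, 2, 5, 1, 5, 2, 2, 4, 2, 2], [0, 3, 0, 4, 2, 5, 1, 5, 3, 5, 5, 5, 5], [0, 3, 0, 4, 2, 5, 1, 5, 5, 2, 4, 4, 3], [0,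 3, 0, 4, 3, 3, 5, 2, 1, 2, 4, 3, 5], [0, 3, 0, 4, 3, 3, 5, 2, 1, 4, 3, 5, 2], [0, 3, 0, 4, 3, 5, 0, 3, 4, 3, 5, 1, 3], [0, 3, 0, 4, 3, 5, 1, 4, 3, 5, 0, 3, 3], [0, 3, 0, 5, 2, 4, 2, 1, 2, 5, 3, 4, 3], [0, 3, 0, 5, 2, 4, 2, 1, 3, 5, 3, 4, 2], [0, 3, 0, 5, 5, 3, 3, 4, 4, 1, 3, 3, 3], [0, 3, 0, 5, 5, 3, 3, 4, 4, 1, 5, 3, 4], [0, 3, 0, 5, 5, 5, 5, 2, 5, 1, 3, 3, 3], [0, 3, 0, 5, 5, 5, 5, 2, 5, 1, 5, 3, 4], [0, 3, 3, 0, 3, 3, 3, 3, 0, 3, 4, 3, 5], [0, 3, 3, 0, 3, 3, 3, 3, 0, 4, 3, 5, 3], [0, 3, 3, 0, 3, 3, 3, 3, 0, 5, 2, 2, 4], [0, 3, 3, 0, 3, 5, 3, 4, 0, 3, 4, 3, 5], [0, 3, 3, 0, 3, 5, 3, 4, 0, 5, 2, 2, 4], [0, 3, 3, 0, 4, 3, 5, 0, 3, 5, 3,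 4, 3], [0, 3, 3, 0, 4, 3, 5, 0, 4, 2, 5, 2, 2], [0, 3, 3, 0, 4, 3, 5, 0, 4, 4, 3, 5, 5], [0, 3, 3, 0, 4, 3, 5, 0, 5, 3, 3, 4, 2], [0, 3, 3, 0, 4, 3, 5, 0, 5, 3, 4, 3, 3], [0, 3, 3, 0, 5, 3, 4, 3, 0, 3, 4, 3, 5], [0, 3, 3, 0, 5, 3, 4, 3, 0, 4, 3, 5, 3], [0, 3, 3, 0, 5, 3, 4, 3, 0, 5, 2, 2, 4], [0, 3, 3, 4, 3, 5, 1, 5, 3, 4, 1, 3, 3], [0, 3, 4, 2, 5, 0, 3, 4, 3, 5, 1, 2, 2], [0, 3, 4, 3, 5, 1, 2, 2, 0, 4, 2, 5, 3], [0, 3, 4, 3, 5, 1, 2, 2, 0, 4, 3, 3, 5], [0, 4, 2, 5, 3, 0, 5, 2, 2, 4, 1, 2, 2], [0, 4, 3, 3, 5, 0, 5, 2, 2, 4, 1, 2, 2], [0, 4, 4, 2, 5, 5, 1, 5, 3, 4, 1, 3, 3]]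

/-- the power relator of `c` -/
def exactC : List (List ℕ) := [[6, 6, 6, 6, 6, 6, 6, 6, 6, 6, 6, 6, 6, 6, 6, 6, 6, 6, 6, 6, 6, 6, 6]]

/-- the conjugation relators `x k x⁻¹ = h` as triples `(x, k, h)`, `k h` words in `s d u`, `k` of order `7` or `11` -/
def loopT : List (List ℕ × List ℕ × List ℕ) := [([6], [1, 1, 1, 1, 5], [4, 4, 1, 5, 5, 1, 1, 1, 1, 4]), ([6], [4, 0, 0, 0, 0], [5, 0, 0, 0, 0, 4, 4, 0, 5, 5]), ([6], [2, 5, 0, 0, 5, 3], [1, 4, 4, 3, 4, 1, 5, 5, 3, 0, 5]), ([6], [2, 4, 1, 1, 4, 3], [0, 0, 2, 4, 0, 5, 0, 2, 4, 1, 4]), ([6], [0, 0, 0, 0, 0, 4, 1], [2, 0, 4, 2, 0, 4, 1, 5, 0, 5, 1]), ([6], [0, 3, 5, 0, 4, 1, 2], [0, 4, 4, 2,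 1, 3, 3, 4, 1, 5, 1, 3]), ([6], [0, 5, 1, 1, 1, 1, 1], [0, 4, 1, 4, 0, 5, 1, 3, 5, 1, 3]), ([6], [1, 2, 5, 1, 4, 4, 2], [0, 4, 4, 1, 3, 4, 4, 0, 5, 2, 1]), ([6], [2, 4, 1, 3, 5, 1, 5], [3, 5, 0, 0, 4, 1, 1, 2, 4, 3, 0, 3]), ([6], [3, 0, 0, 4, 0, 4, 2], [2, 0, 5, 1, 2, 4, 4, 1, 5, 1, 3]), ([6], [3, 0, 5, 1, 4, 2, 1], [0, 5, 2, 1, 4, 1, 2, 5, 5, 0, 2, 2]), ([6], [3, 1, 4, 4, 0, 4, 4], [0, 0, 2, 4, 0, 2, 4, 0, 2, 5, 2]), ([6], [3, 3, 1, 1, 5, 0, 5], [1, 5, 2, 0, 5, 2, 0, 5, 2, 2, 1, 5]), ([6], [3, 5, 1, 5, 1, 1, 2], [2, 0, 4, 0, 5, 5, 3, 0, 4, 1, 3]), ([6], [3, 5, 5, 0, 4, 3, 0], [0, 3, 4, 1, 5, 5, 2, 0, 5, 5, 1]), ([6], [4, 0, 4, 2, 0, 5,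 3], [2, 1, 2, 5, 3, 0, 0, 5, 1, 1, 4, 2]), ([6], [4, 1, 4, 0, 0, 2, 2], [0, 5, 0, 0, 5, 2, 0, 3, 5, 1, 4, 4]), ([6], [5, 5, 1, 5, 5, 0, 2], [2, 4, 1, 2, 1, 5, 1, 5, 3, 1, 1]), ([6], [1, 4, 0, 5, 5, 1, 1, 1], [4, 2, 0, 3, 4, 3, 1, 4, 1, 1, 2]), ([6], [1, 4, 4, 0, 5, 3, 5, 1], [4, 4, 1, 2, 4, 4, 0, 4, 0, 0, 5]), ([6], [1, 5, 1, 1, 1, 4, 4, 1], [4, 0, 5, 0, 0, 2, 4, 0, 0, 0]), ([6], [2, 2, 1, 4, 4, 1, 1, 1], [2, 5, 1, 4, 3, 0, 4, 0, 5, 0, 0, 4]), ([6], [3, 0, 3, 4, 1, 4, 4, 0], [0, 5, 3, 1, 1, 5, 0, 0, 4, 1, 2]), ([6], [3, 0, 4, 4, 1, 4, 3, 0], [2, 4, 0, 5, 5, 1, 3, 5, 0, 3]), ([6], [3, 1, 5, 0, 4, 1, 3, 3], [2, 1, 3, 5, 5, 1, 3, 4, 0, 3,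 5]), ([6], [4, 0, 4, 3, 0, 3, 4, 1], [2, 4, 3, 4, 0, 4, 4, 1, 4, 3, 4]), ([6], [4, 0, 4, 4, 1, 5, 0, 2], [0, 0, 0, 5, 5, 3, 1, 5, 3, 1, 4, 3]), ([6], [4, 1, 4, 4, 3, 1, 5, 1], [4, 4, 1, 3, 5, 5, 1, 4, 1]), ([6], [4, 3, 5, 0, 4, 0, 3, 0], [3, 3, 1, 4, 2, 0, 5, 1, 1, 4, 3]), ([6], [5, 0, 5, 2, 0, 2, 4, 2], [5, 0, 0, 2, 0, 4, 1, 5, 5, 1, 2]), ([6], [5, 1, 1, 1, 1, 2, 4, 1], [1, 2, 4, 0, 3, 4, 4, 0, 2]), ([6], [5, 2, 0, 5, 1, 5, 2, 5], [0, 2, 0, 4, 3, 1, 5, 0, 0, 5, 0]), ([6], [5, 3, 3, 0, 3, 4, 1, 2], [0, 4, 4, 0, 0, 4, 4, 0, 4, 0, 5, 5]), ([6], [5, 5, 3, 1, 5, 0, 0, 5], [5, 3, 5, 1, 3, 5, 5, 0, 4, 4, 2]), ([6], [0, 0, 0, 4, 4, 1, 5, 0], [3,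 0, 0, 5, 0, 2, 5, 2, 1, 3, 5]), ([6], [0, 0, 0, 5, 5, 0, 3, 3], [0, 4, 2, 1, 4, 4, 0, 4, 1, 2, 4, 4]), ([6], [0, 2, 2, 5, 0, 2, 2, 4], [1, 1, 5, 3, 5, 1, 5, 3, 0]), ([6], [0, 4, 0, 2, 5, 5, 0, 5], [0, 5, 0, 4, 4, 2, 0, 5, 5]), ([6], [0, 4, 2, 4, 1, 5, 5, 0], [4, 1, 1, 5, 1, 5, 5, 3, 0, 5, 5]), ([6], [0, 5, 2, 1, 2, 5, 1, 5], [5, 2, 5, 0, 5, 5, 1, 4, 4, 2, 4]), ([6], [0, 5, 5, 0, 0, 0, 4, 0], [1, 1, 1, 5, 3, 1, 1, 4, 1, 5]), ([6], [1, 2, 1, 5, 1, 4, 2, 5], [2, 5, 0, 0, 4, 1, 3, 5, 0, 2, 2]), ([6], [1, 2, 5, 0, 5, 5, 1, 2], [2, 1, 4, 2, 0, 4, 4, 1, 5, 3]), ([6], [1, 5, 5, 0, 5, 2, 1, 2], [3, 0, 5, 1, 1, 4, 0, 0, 2, 4, 1]), ([6], [2, 2, 0,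 5, 1, 4, 0, 2], [4, 2, 1, 5, 2, 0, 4, 4, 2, 0, 3]), ([6], [3, 0, 5, 2, 1, 2, 2, 4], [0, 4, 3, 4, 1, 5, 5, 0, 2, 2, 5, 0]), ([6], [3, 1, 4, 0, 5, 5, 1, 5], [2, 5, 0, 2, 4, 0, 2, 4, 4, 1, 1, 1]), ([6], [3, 5, 3, 1, 3, 4, 1, 4], [3, 0, 4, 4, 0, 5, 1, 3, 1, 1, 4]), ([6], [4, 1, 1, 4, 0, 2, 4, 4], [3, 5, 5, 1, 4, 4, 2, 0, 4, 2, 4]), ([6], [4, 3, 4, 0, 4, 1, 3, 4], [1, 4, 1, 1, 4, 0, 2, 5, 1, 3, 1]), ([6], [0, 0, 0, 2, 5, 0, 4, 0, 0], [0, 2, 4, 4, 0, 0, 4, 0, 0, 5]), ([6], [0, 0, 2, 4, 1, 5, 5, 2, 0], [0, 0, 4, 3, 0, 0, 4, 4, 1]), ([6], [0, 0, 4, 1, 5, 3, 5, 1, 2], [2, 5, 0, 5, 5, 3, 1, 4, 0, 4, 2]), ([6], [0, 2, 0, 5, 1, 4, 4, 1, 5], [4, 0,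 4, 3, 0, 5, 5, 1, 2, 5, 0, 5]), ([6], [0, 2, 2, 4, 4, 1, 3, 4, 0], [2, 2, 0, 3, 5, 0, 0, 4, 2, 1, 3]), ([6], [0, 2, 4, 4, 1, 4, 3, 0, 5], [0, 5, 0, 3, 5, 0, 2, 4, 4, 0, 3, 3]), ([6], [0, 2, 5, 2, 5, 1, 5, 2, 1], [0, 3, 4, 1, 4, 4, 0, 3, 0, 5, 0, 5]), ([6], [0, 2, 5, 3, 1, 5, 3, 0, 0], [5, 5, 1, 3, 1, 5, 0, 2, 2]), ([6], [0, 2, 5, 5, 1, 5, 0, 2, 5], [3, 5, 0, 4, 2, 4, 0, 5, 0, 5, 1, 2]), ([6], [0, 3, 0, 5, 0, 5, 5, 2, 0], [1, 4, 4, 3, 1, 4, 1, 5, 3, 3]), ([6, 3, 6], [1, 4, 0, 5, 5, 1, 1, 1], [1, 1, 1, 4, 3, 0, 5, 5, 1, 2, 2]), ([6, 3, 6], [4, 1, 4, 0, 4, 3, 0, 3], [4, 4, 2, 0, 5, 3, 0, 4, 2, 0, 4]), ([6, 3, 6], [0, 0, 0, 4, 4, 1, 5, 0],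 [3, 3, 0, 4, 4, 1, 2, 5, 0, 0, 0]), ([6, 3, 6], [2, 1, 2, 5, 1, 5, 0, 5], [3, 5, 1, 1, 4, 0, 5, 2, 5, 1, 4]), ([6, 3, 6], [0, 0, 0, 2, 5, 0, 4, 0, 0], [5, 1, 4, 4, 1, 5, 5, 0, 4, 1]), ([6, 3, 6], [1, 1, 4, 0, 5, 5, 0, 3, 3], [1, 1, 2, 5, 5, 1, 5, 0, 2, 5, 5, 1, 5]), ([6, 3, 6], [1, 1, 5, 1, 4, 3, 1, 1, 1], [0, 5, 1, 4, 4, 0, 5, 5, 0, 4]), ([6, 3, 6], [1, 5, 0, 0, 5, 3, 0, 0, 5], [0, 3, 5, 1, 5, 0, 0, 0, 5, 3, 0, 5]), ([6, 3, 6], [1, 5, 5, 0, 5, 3, 5, 0, 2], [5, 1, 3, 1, 4, 0, 0, 2, 4, 4]), ([6, 3, 6], [2, 2, 1, 4, 4, 1, 5, 0, 0], [0, 3, 4, 1, 1, 4, 1, 2, 2, 1, 5, 1, 3]), ([6, 3, 6], [3, 1, 4, 2, 4, 1, 4, 4, 0], [5, 5, 3, 1, 1, 5, 0, 2,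 0, 4]), ([6, 3, 6], [4, 1, 1, 2, 4, 1, 1, 4, 0], [4, 1, 2, 4, 1, 1, 1, 4, 0, 4, 2, 1]), ([6, 3, 6], [0, 5, 3, 0, 4, 4, 1, 5, 1, 1], [1, 3, 4, 1, 5, 5, 1, 1, 2, 5, 2, 5, 1]), ([6, 3, 6], [1, 2, 2, 0, 5, 1, 5, 3, 5, 1], [3, 1, 4, 1, 5, 0, 0, 4, 1, 1]), ([6, 3, 6], [1, 2, 4, 1, 4, 0, 0, 4, 2, 1], [3, 4, 0, 4, 0, 5, 0, 2, 5, 2]), ([6, 3, 6], [1, 5, 0, 4, 4, 0, 3, 5, 2, 0], [0, 0, 5, 3, 3, 0, 3, 4, 1, 1, 1]), ([6, 3, 6], [1, 5, 1, 4, 3, 5, 1, 5, 1, 1], [3, 1, 1, 4, 2, 1, 5, 1, 4, 0, 0, 4]), ([6, 3, 6], [2, 0, 2, 4, 1, 5, 1, 4, 3, 1], [3, 4, 1, 1, 4, 1, 4, 0, 2, 2, 1]), ([6, 3, 6], [2, 1, 2, 4, 1, 5, 3, 5, 2, 0], [4, 0, 4, 4, 1, 4, 1, 5, 1, 5,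 0, 4]), ([6, 3, 6], [2, 4, 0, 5, 1, 4, 0, 2, 4, 0], [2, 5, 5, 1, 2, 1, 4, 0, 4, 2, 0]), ([6, 3, 6], [2, 5, 5, 1, 3, 5, 3, 1, 5, 1], [0, 2, 4, 4, 1, 3, 4, 0, 4, 4, 0, 4]), ([6, 3, 6], [3, 0, 0, 4, 1, 4, 4, 1, 5, 1], [1, 2, 1, 5, 0, 4, 3, 1, 1, 4]), ([6, 3, 6], [3, 0, 4, 1, 1, 1, 1, 4, 3, 0], [5, 1, 1, 5, 0, 4, 0, 3, 5, 0, 0, 2]), ([6, 3, 6], [3, 3, 0, 5, 0, 4, 0, 5, 0, 0], [0, 4, 3, 0, 3, 0, 5, 1, 3, 1, 5, 0]), ([6, 3, 6], [3, 4, 0, 4, 4, 3, 4, 0, 4, 1], [2, 2, 0, 5, 0, 5, 1, 1, 1, 4, 1, 5]), ([6, 3, 6], [3, 5, 0, 5, 0, 0, 5, 2, 5, 1], [0, 0, 0, 5, 3, 3, 1, 5, 0, 5, 2, 0]), ([6, 3, 6], [4, 1, 1, 4, 3, 0, 4, 1, 1, 5], [1, 4, 0, 2, 4, 4, 0,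 2, 4, 1, 2, 5]), ([6, 3, 6], [4, 1, 5, 1, 4, 4, 1, 5, 3, 0], [0, 5, 0, 3, 4, 0, 5, 1, 2, 4, 0]), ([6, 3, 6], [4, 1, 5, 3, 5, 1, 5, 1, 2, 1], [2, 1, 2, 5, 0, 4, 0, 2, 5, 0, 3]), ([6, 3, 6], [4, 2, 4, 0, 5, 5, 0, 2, 5, 2], [3, 1, 4, 0, 4, 2, 1, 4, 1, 5, 0, 4]), ([6, 3, 6], [4, 4, 1, 2, 4, 4, 1, 2, 5, 2], [5, 3, 1, 3, 5, 0, 5, 0, 4, 0, 3, 0]), ([6, 3, 6], [4, 4, 2, 0, 5, 0, 0, 0, 0, 0], [3, 0, 3, 4, 0, 3, 5, 0, 3, 4, 0, 5]), ([6, 3, 6], [5, 1, 4, 4, 1, 5, 2, 0, 4, 1], [2, 5, 1, 5, 2, 0, 2]), ([6, 3, 6], [5, 1, 5, 0, 2, 0, 5, 0, 3, 5], [1, 4, 1, 2, 5, 5, 0, 4, 0, 4, 1]), ([6, 3, 6], [5, 1, 5, 1, 4, 0, 3, 4, 1, 5], [2, 4, 1, 4, 1, 1, 4, 1, 5,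 1]), ([6, 3, 6], [5, 2, 1, 5, 5, 1, 1, 5, 1, 3], [2, 1, 5, 1, 4, 3, 1, 4, 0, 2, 0, 4]), ([6, 3, 6], [5, 3, 1, 5, 1, 5, 0, 4, 1, 1], [2, 4, 1, 5, 1, 5, 2, 1, 4]), ([6, 3, 6], [5, 5, 0, 2, 4, 2, 0, 4, 3, 3], [2, 1, 5, 1, 3, 5, 1, 5, 5, 0, 5, 1]), ([6, 3, 6], [5, 5, 1, 5, 0, 5, 5, 0, 0, 0], [1, 2, 5, 5, 1, 3, 5, 5, 1, 5, 5, 3]), ([6, 3, 6], [0, 0, 4, 0, 5, 5, 1, 2, 4, 1], [0, 0, 5, 0, 2, 4, 3, 0, 3, 4, 1, 1, 5]), ([6, 3, 6], [0, 0, 5, 1, 4, 0, 4, 0, 2, 4], [5, 0, 3, 4, 0, 4, 0, 5, 3]), ([6, 3, 6], [0, 4, 2, 4, 0, 4, 1, 3, 3, 0], [0, 0, 5, 1, 1, 4, 0, 5, 0, 2]), ([6, 3, 6], [0, 4, 3, 4, 1, 1, 4, 1, 4, 2], [1, 1, 5, 0, 4, 4, 2, 1, 4, 3, 0, 5]),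 ([6, 3, 6], [0, 2, 5, 0, 4, 0, 5, 3, 1, 3], [0, 3, 3, 1, 5, 0, 5, 0, 0, 5, 2]), ([6, 3, 6], [0, 3, 0, 4, 0, 4, 2, 4, 0, 5], [2, 1, 4, 3, 1, 5, 1, 4, 3, 0, 3]), ([6, 3, 6], [0, 3, 5, 1, 1, 5, 0, 5, 3, 0], [3, 4, 3, 1, 4, 1, 5, 1, 5, 2]), ([6, 3, 6], [0, 4, 0, 2, 4, 2, 0, 4, 4, 3], [1, 2, 2, 4, 0, 5, 1, 1, 2, 1, 5, 0]), ([6, 3, 6], [0, 4, 0, 5, 5, 0, 5, 1, 1, 2], [5, 0, 0, 2, 5, 1, 4, 0, 3, 0]), ([6, 3, 6], [1, 1, 1, 4, 4, 1, 4, 0, 4, 4], [1, 4, 0, 3, 5, 1, 5, 2, 1, 5, 1, 4]), ([6, 3, 6], [0, 5, 1, 3, 4, 2, 4, 1, 5, 2], [1, 4, 4, 1, 2, 5, 0, 4, 2, 0, 4, 4]), ([6, 3, 6], [0, 5, 1, 3, 4, 0, 5, 5, 0, 4], [3, 1, 3, 4, 0, 4, 3]), ([6, 3, 6], [3,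 4, 3, 1, 4, 4, 1, 5, 3, 5], [0, 5, 3, 1, 5, 1, 3, 5, 1, 5, 0, 4]), ([6, 3, 6], [1, 1, 1, 1, 1, 4, 1, 3, 5, 5], [2, 5, 2, 0, 4, 3, 0, 5, 3, 0, 0, 5]), ([6, 3, 6], [1, 1, 4, 1, 5, 1, 4, 1, 2, 2], [1, 4, 0, 2, 0, 4, 1, 2, 1, 2, 5, 1]), ([6, 3, 6], [1, 2, 4, 0, 5, 5, 0, 4, 0, 5], [1, 5, 3, 0, 4, 1, 5, 2, 1, 4, 1]), ([6, 3, 6], [2, 0, 4, 0, 0, 4, 4, 0, 3, 4], [1, 5, 2, 1, 3, 4, 3, 0, 5, 1, 1, 5]), ([6, 3, 6], [1, 3, 4, 2, 1, 5, 5, 1, 4, 0], [0, 0, 0, 5, 2, 1, 2, 2, 4, 1, 1]), ([6, 3, 6], [1, 3, 4, 2, 4, 0, 5, 3, 0, 3], [3, 4, 4, 1, 5, 5, 3, 1, 3, 4, 1, 5]), ([6, 3, 6], [1, 5, 3, 1, 5, 0, 4, 1, 5, 3], [1, 3, 5, 1, 2, 5, 0, 0, 2, 4, 4]), ([6,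 3, 6], [2, 2, 5, 1, 3, 5, 3, 1, 4, 4], [0, 4, 1, 4, 4, 0, 4, 2, 0, 4, 0, 3]), ([6, 6, 0, 6], [2, 1, 4, 0, 2, 2, 4, 1], [0, 2, 4, 1, 5, 0, 4, 0, 2, 2, 2, 1]), ([6, 6, 0, 6], [0, 5, 3, 3, 1, 5, 0, 3], [0, 3, 3, 3, 1, 5, 1, 4, 0, 5, 3, 1]), ([6, 6, 0, 6], [0, 0, 2, 5, 2, 0, 4, 1, 3], [5, 0, 3, 4, 3, 0, 4, 3, 1, 3, 1]), ([6, 6, 0, 6], [2, 0, 5, 1, 2, 2, 4, 1, 2], [0, 2, 0, 2, 5, 1, 2, 5, 2, 1, 4]), ([6, 6, 0, 6], [2, 1, 5, 2, 0, 4, 0, 5, 2], [1, 1, 1, 5, 3, 0, 5, 2, 1, 3, 5, 1, 1]), ([6, 6, 0, 6], [3, 4, 1, 5, 1, 3, 4, 0, 3], [0, 0, 4, 2, 0, 3, 4, 1, 2, 4, 0, 0, 0]), ([6, 6, 0, 6], [3, 4, 3, 0, 4, 4, 1, 5, 5], [0, 5, 0, 4, 3, 1, 4, 4, 0, 0,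 2]), ([6, 6, 0, 6], [4, 2, 0, 4, 4, 0, 0, 4, 4], [0, 2, 4, 0, 5, 3, 1, 4, 0, 5, 1, 2]), ([6, 6, 0, 6], [4, 4, 0, 5, 5, 1, 2, 5, 2], [3, 1, 1, 5, 5, 0, 2, 5, 1, 4, 1]), ([6, 6, 0, 6], [5, 5, 1, 1, 5, 5, 1, 3, 5], [2, 1, 5, 3, 5, 1, 5, 5, 0, 4, 0, 0]), ([6, 6, 0, 6], [0, 5, 1, 2, 4, 3, 4, 1, 3, 1], [1, 5, 1, 5, 3, 1, 5, 1, 1, 5, 0, 2]), ([6, 6, 0, 6], [3, 1, 4, 0, 5, 5, 1, 1, 4, 1], [1, 4, 2, 1, 5, 1, 5, 0, 5, 1, 2, 4]), ([6, 6, 0, 6], [4, 0, 0, 4, 0, 5, 0, 3, 3, 0], [4, 4, 0, 5, 1, 4, 2, 1, 3, 3, 4]), ([6, 6, 0, 6], [4, 0, 0, 4, 2, 1, 5, 5, 2, 0], [0, 3, 3, 4, 1, 4, 0, 0, 4, 0, 5, 3]), ([6, 6, 0, 6], [4, 2, 1, 3, 5, 3, 0, 4, 1, 1], [1, 5,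 5, 0, 3, 5, 5, 0, 5, 5, 1, 5]), ([6, 6, 0, 6], [4, 3, 1, 3, 1, 5, 1, 5, 1, 1], [0, 5, 0, 2, 4, 1, 2, 4, 4, 0, 0, 5]), ([6, 6, 0, 6], [4, 3, 4, 0, 0, 2, 4, 1, 5, 3], [3, 0, 4, 2, 0, 4, 2, 1, 4, 4, 1, 4]), ([6, 6, 0, 6], [4, 3, 4, 1, 3, 4, 4, 1, 1, 5], [2, 2, 0, 5, 1, 1, 1, 1, 4, 0, 4, 1]), ([6, 6, 0, 6], [4, 4, 0, 0, 4, 1, 4, 0, 4, 1], [0, 4, 0, 3, 4, 3, 1, 5, 0, 0, 2, 4]), ([6, 6, 0, 6], [5, 0, 0, 2, 4, 3, 0, 4, 3, 3], [5, 1, 3, 4, 2, 0, 4, 1, 1, 5, 1]), ([6, 6, 0, 6], [5, 1, 5, 3, 5, 1, 5, 1, 3, 5], [3, 0, 5, 3, 1, 5, 0, 3, 4, 0, 2]), ([6, 6, 0, 6], [5, 3, 5, 0, 5, 5, 1, 4, 4, 1], [4, 0, 5, 5, 1, 3, 1, 4, 0, 5, 1]), ([6, 6, 0, 6], [0,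 0, 5, 1, 2, 4, 2, 0, 3, 5], [0, 0, 4, 1, 2, 1, 5, 5, 1, 5, 3, 3]), ([6, 6, 0, 6], [0, 5, 0, 0, 4, 4, 1, 5, 0, 2], [5, 0, 5, 1, 1, 1, 5, 1, 5, 1, 3, 4]), ([6, 6, 0, 6], [0, 2, 0, 4, 4, 2, 4, 0, 4, 1], [0, 0, 4, 0, 0, 2, 4, 0, 3, 3, 4, 4]), ([6, 6, 0, 6], [1, 3, 4, 4, 0, 3, 5, 1, 1, 5], [2, 4, 1, 5, 1, 1, 5, 0, 5, 2, 2, 1]), ([6, 6, 0, 6], [1, 2, 2, 1, 4, 1, 5, 1, 1, 5], [5, 2, 2, 0, 3, 5, 0, 4, 1, 5, 5]), ([6, 6, 0, 6], [0, 5, 1, 5, 0, 5, 1, 1, 5, 5], [0, 0, 4, 1, 1, 4, 1, 5, 5, 0, 4, 0]), ([6, 6, 0, 6], [0, 5, 5, 0, 4, 4, 1, 4, 2, 4], [0, 4, 1, 5, 0, 2, 0, 4, 4, 1, 5]), ([6, 6, 0, 6], [2, 2, 5, 1, 2, 5, 3, 1, 1, 4], [0, 4, 0, 0, 5, 1, 2,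 2, 5, 0, 4])]

/-- the exact relators -/
def exactL : List (List ℕ) := exactH ++ (exactC ++ loopT.map fun t => t.1 ++ (t.2.1 ++ (Cfsg.Agent.Lib.H12.Co3M.invW t.1 ++ Cfsg.Agent.Lib.H12.Co3M.invW t.2.2)))

/-- the inverse pair words -/
def pairL : List (List ℕ) := [[0, 1], [1, 0], [2, 3], [3, 2], [4, 5], [5, 4], [6, 7], [7, 6]]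

/-- the symbol relators -/
def symL : List (List ℕ) := [[6, 3, 4, 1, 5, 5, 7, 4, 4, 1, 4, 4, 0, 4, 3, 0, 3, 5], [6, 0, 6, 1, 4, 0, 0, 5, 3, 3, 7, 1, 7, 0, 0, 5, 2, 0, 4, 0, 2, 5, 0, 2], [6, 0, 6, 4, 0, 4, 0, 5, 2, 2, 0, 7, 1, 7, 4, 0, 5, 3, 0, 4, 1, 1, 2, 4, 4], [6, 2, 1, 4, 1, 4, 0, 4, 2, 5, 7, 4, 4, 1, 5, 1, 5, 2, 1, 4, 3, 3, 1], [6, 4, 0, 5, 5, 1, 1, 2, 5, 1, 1, 7, 0, 4, 2, 4, 0, 3, 5, 1, 1, 5, 3], [6, 1, 5, 0, 0, 6, 2, 2, 1, 5, 2, 5, 1, 5, 1, 3, 1]]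

/-- the other central relators -/
def cenL : List (List ℕ) := [[6, 3, 4, 4, 0, 4, 7, 4, 4, 1, 4, 0, 5, 3, 5, 0, 0, 4, 1], [6, 2, 4, 2, 0, 3, 5, 0, 7, 3, 1, 5, 3, 5, 1, 2], [6, 2, 4, 0, 2, 1, 3, 5, 0, 7, 3, 1, 5, 3, 5, 1, 2], [6, 2, 1, 3, 5, 3, 5, 7, 3, 5, 3, 0, 5, 0, 5, 1, 5, 1, 1, 2], [6, 2, 1, 2, 5, 0, 2, 2, 7, 0, 2, 0, 4, 3, 0, 4, 0, 2, 0, 4, 0], [6, 2, 1, 5, 3, 3, 5, 3, 7, 3, 5, 3, 0, 5, 0, 5, 1, 5, 1, 1, 2], [6, 0, 0, 5, 0, 0, 7, 4, 3, 5, 1, 5, 1, 4, 1, 4, 0, 2, 0], [6, 4, 0, 5, 2, 1, 4, 4, 7, 1, 3, 4, 4, 0, 3, 4, 1, 4, 0], [6, 5, 5, 0, 3, 4, 1, 5, 7, 1, 5, 0, 5, 2, 1, 5, 5, 2, 0], [6, 1, 2, 2, 1, 5, 1, 5, 7, 4, 0, 3, 4, 0, 5, 3,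 5, 2, 1, 4, 0], [6, 2, 0, 2, 4, 0, 2, 5, 7, 0, 2, 4, 1, 5, 3, 1, 5, 5, 3, 0], [6, 3, 0, 4, 1, 5, 3, 1, 7, 4, 1, 1, 4, 3, 0, 4, 3, 1, 3, 1], [6, 0, 4, 0, 0, 4, 4, 0, 7, 1, 4, 2, 4, 0, 5, 0, 0, 4, 3, 1, 1], [6, 5, 3, 1, 3, 4, 0, 5, 1, 7, 3, 0, 4, 2, 4, 2, 0, 5, 2, 0, 4, 1], [6, 0, 5, 0, 5, 5, 1, 4, 0, 0, 7, 1, 4, 4, 0, 5, 3, 0, 4, 0, 4, 0], [6, 1, 4, 3, 0, 3, 5, 3, 0, 5, 7, 1, 2, 5, 5, 1, 4, 3, 0, 4, 0, 5], [6, 4, 2, 1, 5, 2, 0, 0, 5, 2, 1, 7, 3, 0, 5, 3, 3, 1, 5, 5, 1, 2, 5, 5], [6, 0, 2, 4, 2, 0, 2, 0, 4, 4, 2, 1, 7, 0, 3, 4, 1, 4, 4, 0, 3, 0, 5, 0, 5], [6, 0, 4, 1, 2, 1, 3, 3, 1, 4, 4, 1, 7, 0, 3, 4, 1, 4, 4, 0, 3, 0, 5, 0, 5], [6, 3,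 0, 0, 5, 2, 2, 0, 4, 2, 7, 3, 5, 1, 4, 0, 3, 4, 3, 0, 3, 0], [6, 3, 0, 0, 5, 1, 1, 4, 3, 5, 1, 7, 5, 1, 1, 4, 0, 2, 4, 0, 5, 3, 5, 1], [6, 2, 0, 4, 4, 0, 4, 0, 0, 7, 1, 1, 1, 5, 5, 2, 1, 3, 3, 4, 1], [6, 0, 2, 5, 1, 3, 1, 1, 5, 0, 7, 1, 2, 4, 3, 0, 5, 1, 1, 4, 0, 5], [6, 0, 5, 0, 4, 4, 0, 5, 5, 0, 7, 5, 0, 0, 0, 0, 5, 0, 5, 0, 5, 5], [6, 0, 5, 0, 3, 5, 0, 3, 0, 5, 1, 7, 1, 2, 5, 5, 1, 5, 2, 0, 2, 5, 3, 1], [6, 0, 5, 0, 5, 0, 0, 5, 2, 2, 1, 7, 1, 2, 5, 5, 1, 5, 2, 0, 2, 5, 3, 1], [6, 0, 5, 0, 5, 3, 0, 3, 5, 3, 1, 7, 1, 2, 5, 5, 1, 5, 2, 0, 2, 5, 3, 1], [6, 5, 1, 1, 5, 1, 4, 2, 7, 5, 3, 5, 5, 1, 4, 4, 2, 1, 5, 0, 5], [6, 5, 2, 5, 0, 3, 5,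 1, 7, 2, 0, 5, 2, 1, 2, 5, 0, 2, 4, 0, 0], [6, 5, 2, 5, 1, 3, 0, 5, 1, 7, 2, 0, 5, 2, 1, 2, 5, 0, 2, 4, 0, 0], [6, 0, 4, 0, 3, 4, 0, 4, 2, 0, 7, 2, 1, 2, 1, 4, 4, 2, 1, 4, 1, 4, 4], [6, 6, 0, 0, 0, 2, 4, 1, 4, 3, 3, 7, 7, 1, 5, 2, 0, 4, 1, 5, 0, 5, 5, 1, 4], [6, 4, 4, 2, 0, 5, 0, 5, 7, 2, 1, 4, 1, 1, 5, 1, 3, 4, 1, 4], [6, 6, 5, 2, 0, 2, 5, 3, 0, 4, 1, 7, 7, 5, 1, 3, 4, 0, 0, 5, 3], [6, 6, 1, 2, 1, 4, 1, 3, 4, 4, 1, 7, 7, 0, 5, 2, 0, 5, 1, 5, 1, 3, 3, 1], [6, 6, 0, 2, 0, 7, 3, 0, 4, 4, 1, 6, 1, 3, 1, 7, 7, 1, 1, 1, 5, 0, 4, 1, 2, 5, 1, 3, 3], [6, 6, 0, 5, 1, 1, 1, 4, 0, 5, 3, 1, 7, 7, 0, 2, 5, 2, 1, 3, 5, 1], [6, 1, 5, 2, 1, 3, 4, 4, 0,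 5, 0, 7, 4, 0, 2, 2, 4, 1, 1], [6, 0, 6, 3, 0, 5, 1, 5, 3, 1, 5, 7, 1, 7, 1, 2, 1, 4, 1, 4, 0, 4, 4, 0], [6, 4, 1, 5, 2, 5, 0, 5, 2, 2, 1, 7, 2, 0, 3, 5, 5, 0, 3, 5, 0, 4, 1, 3], [6, 3, 0, 4, 2, 0, 5, 3, 0, 4, 3, 7, 0, 0, 2, 4, 1, 4, 0, 5, 2, 1, 5], [6, 2, 0, 4, 3, 0, 4, 4, 3, 1, 3, 7, 5, 2, 5, 0, 3, 4, 4, 0, 4, 2, 4, 1], [6, 0, 2, 4, 2, 1, 4, 3, 1, 4, 3, 3, 7, 3, 0, 0, 0, 4, 4, 1, 3, 5, 0, 5, 5], [6, 6, 0, 2, 0, 7, 1, 3, 1, 5, 5, 6, 1, 3, 1, 7, 7, 4, 0, 3, 5, 2, 1, 4, 1, 3], [6, 6, 0, 2, 0, 7, 4, 4, 1, 4, 2, 4, 6, 1, 3, 1, 7, 7, 1, 3, 5, 3, 1, 5, 1, 4, 4, 1], [6, 6, 0, 2, 0, 7, 0, 4, 2, 4, 0, 4, 2, 6, 1, 3, 1, 7, 7, 0, 4, 3, 1, 5, 0, 5,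 0, 3, 4, 3], [6, 1, 2, 2, 4, 0, 2, 4, 7, 4, 0, 3, 4, 0, 4, 1, 3, 4, 4], [6, 1, 3, 4, 3, 0, 0, 4, 7, 4, 0, 3, 4, 0, 4, 1, 3, 4, 4], [6, 1, 2, 4, 0, 3, 0, 2, 4, 2, 7, 4, 0, 3, 4, 0, 4, 1, 3, 4, 4], [6, 2, 5, 2, 0, 2, 4, 3, 4, 1, 3, 7, 5, 5, 0, 5, 0, 0, 5, 5, 3, 1, 3, 1], [6, 3, 5, 3, 0, 0, 4, 3, 4, 1, 3, 7, 5, 5, 0, 5, 0, 0, 5, 5, 3, 1, 3, 1], [6, 0, 3, 5, 3, 0, 0, 5, 1, 3, 1, 7, 5, 0, 4, 1, 2, 5, 1], [6, 3, 4, 0, 5, 2, 1, 5, 2, 7, 2, 0, 4, 4, 1, 2, 1, 4, 2, 4], [6, 0, 6, 5, 5, 0, 4, 0, 4, 3, 7, 1, 7, 3, 1, 5, 5, 0, 5, 5, 1, 2], [6, 4, 2, 0, 3, 0, 5, 2, 0, 7, 3, 1, 5, 3, 5, 1, 2], [6, 1, 4, 0, 3, 3, 1, 3, 7, 5, 1, 3, 4, 3, 1, 4, 4, 1, 2],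 [6, 2, 0, 2, 2, 1, 5, 0, 7, 3, 0, 5, 5, 0, 2, 5, 2, 0, 4]]

/-- the unit vectors -/
def unitL : List (List ℤ) := [[(1 : ℤ), (0 : ℤ), (0 : ℤ), (0 : ℤ), (0 : ℤ), (0 : ℤ)], [(0 : ℤ), (1 : ℤ), (0 : ℤ), (0 : ℤ), (0 : ℤ), (0 : ℤ)], [(0 : ℤ), (0 : ℤ), (1 : ℤ), (0 : ℤ), (0 : ℤ), (0 : ℤ)], [(0 : ℤ), (0 : ℤ), (0 : ℤ), (1 : ℤ), (0 : ℤ), (0 : ℤ)], [(0 : ℤ), (0 : ℤ), (0 : ℤ), (0 : ℤ), (1 : ℤ), (0 : ℤ)], [(0 : ℤ), (0 : ℤ), (0 : ℤ), (0 : ℤ), (0 : ℤ), (1 : ℤ)]]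

theorem exactH_lt : ∀ w ∈ exactH, ∀ x ∈ w, x < 6 := by
  decide +kernel

theorem loopT_lt : ∀ t ∈ loopT, (∀ x ∈ t.1, x < 8) ∧ (∀ x ∈ t.2.1, x < 6) ∧ (∀ x ∈ t.2.2, x < 6) := by
  decide +kernel

end Cfsg.Agent.Lib.H12.Co3M.Ct
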