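import Cfsg.Agent.Lib.H12.Co3M.Ct.Data
import Cfsg.Agent.Lib.H12.Co3M.Ct.Words
import Cfsg.Agent.Lib.H12.J3M.MonoWide

set_option autoImplicit false
set_option maxRecDepth 100000

/-! # Lattice certificates of the monomial certificate (generated) -/

namespace Cfsg.Agent.Lib.H12.Co3M.Ct

open Cfsg.Agent.Lib.H17.CosetCert (BT WT)
open Cfsg.Agent.Lib.H17.MonoCert
open Cfsg.Agent.Lib.H12.J3M

theorem seed_cases : ∀ p ∈ seedL, (p.2 = List.replicate 6 0 ∧ p.1 ∈ exactL ++ pairL) ∨
    p ∈ List.zip symL unitL := by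
  decide +kernel

theorem rel_cases : ∀ w ∈ relL, w ∈ exactL ++ pairL ∨ w ∈ symL ++ cenL := by
  decide +kernel

/-- the pairs of words giving the relations, with the difference of their twists -/
def relPairs : List (ℕ × ℕ × List ℤ) := [(6, 860, [(.ofNat 1), (.ofNat 0), (.negSucc 0), (.ofNat 0), (.ofNat 0), (.ofNat 0)]), (7, 861, [(.negSucc 0), (.negSucc 0), (.ofNat 0), (.ofNat 0), (.ofNat 0), (.ofNat 0)]), (6, 862, [(.ofNat 1565995), (.negSucc 2622104), (.ofNat 2437073), (.ofNat 0), (.ofNat 16), (.ofNat 0)]), (10, 863, [(.ofNat 3200033), (.ofNat 2529234), (.ofNat 3337486), (.negSucc 0), (.negSucc 2), (.ofNat 0)]), (8, 864, [(.ofNat 589489), (.ofNat 3484477), (.negSucc 269700), (.ofNat 0), (.negSucc 1), (.ofNat 0)]), (9, 865, [(.ofNat 2830452), (.ofNat 3581095), (.ofNat 3805855), (.ofNat 1), (.negSucc 11), (.ofNat 0)]), (638, 866, [(.ofNat 1610649), (.ofNat 66367319), (.negSucc 602144), (.ofNat 0), (.ofNat 0), (.negSucc 22)])]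

/-- check of a relation pair: same relator word, twists differing by `v` -/
noncomputable def relChk (p : ℕ × ℕ × List ℤ) : Bool :=
  match WT.get words p.1, WT.get words p.2.1 with
  | some (wd1, true), some (wd2, true) => decide (wd1 = wd2) && decide (Ev p.2.1 = ladd (Ev p.1) p.2.2) &&
      decide (p.1 < 867) && decide (p.2.1 < 867)
  | _, _ => false

theorem rel_chk : ∀ p ∈ relPairs, relChk p = true := by
  decide +kernel

/-- the relation vectors -/
def relV : List (List ℤ) := [[(.ofNat 1), (.ofNat 0), (.negSucc 0), (.ofNat 0), (.ofNat 0), (.ofNat 0)], [(.negSucc 0), (.negSucc 0), (.ofNat 0), (.ofNat 0), (.ofNat 0), (.ofNat 0)], [(.ofNat 1565995), (.negSucc 2622104), (.ofNat 2437073), (.ofNat 0), (.ofNat 16), (.ofNat 0)], [(.ofNat 3200033), (.ofNat 2529234), (.ofNat 3337486), (.negSucc 0), (.negSucc 2), (.ofNat 0)], [(.ofNat 589489), (.ofNat 3484477), (.negSucc 269700), (.ofNat 0), (.negSucc 1), (.ofNat 0)], [(.ofNat 2830452), (.ofNat 3581095), (.ofNat 3805855), (.ofNat 1), (.negSucc 11), (.ofNat 0)],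 [(.ofNat 1610649), (.ofNat 66367319), (.negSucc 602144), (.ofNat 0), (.ofNat 0), (.negSucc 22)]]

theorem relV_eq : relPairs.map (fun p => p.2.2) = relV := by
  decide +kernel

theorem pow_cert0 : lsmul (.ofNat 23) [(.ofNat 1), (.ofNat 0), (.ofNat 0), (.ofNat 0), (.ofNat 0), (.ofNat 0)] = lcomb [(.negSucc 124023746523971216554093695604), (.negSucc 278107478407501785287829723026), (.negSucc 21227646599783219887656), (.negSucc 12883492607783213218599), (.negSucc 73194978239891659961755), (.negSucc 12883492607783213218599), (.ofNat 0)] relV := by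
  decide +kernel

theorem pow_cert1 : lsmul (.ofNat 23) [(.ofNat 0), (.ofNat 1), (.ofNat 0), (.ofNat 0), (.ofNat 0), (.ofNat 0)] = lcomb [(.ofNat 124023746523971216554093695605), (.ofNat 278107478407501785287829723004), (.ofNat 21227646599783219887657), (.ofNat 12883492607783213218600), (.ofNat 73194978239891659961756), (.ofNat 12883492607783213218600), (.ofNat 0)] relV := by
  decide +kernel

theorem pow_cert2 : lsmul (.ofNat 23) [(.ofNat 0), (.ofNat 0), (.ofNat 1), (.ofNat 0), (.ofNat 0), (.ofNat 0)] = lcomb [(.negSucc 124023746523971216554093695627), (.negSucc 278107478407501785287829723026), (.negSucc 21227646599783219887656), (.negSucc 12883492607783213218599), (.negSucc 73194978239891659961755), (.negSucc 12883492607783213218599), (.ofNat 0)] relV := by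
  decide +kernel

theorem pow_cert3 : lsmul (.ofNat 23) [(.ofNat 0), (.ofNat 0), (.ofNat 0), (.ofNat 1), (.ofNat 0), (.ofNat 0)] = lcomb [(.negSucc 3524066498298365149601994), (.negSucc 7902270936418502453450154), (.negSucc 603171895033460261), (.negSucc 366077351738347487), (.negSucc 2079795022230076073), (.negSucc 366077351738347464), (.ofNat 0)] relV := by
  decide +kernel

theorem pow_cert4 : lsmul (.ofNat 23) [(.ofNat 0), (.ofNat 0), (.ofNat 0), (.ofNat 0), (.ofNat 1), (.ofNat 0)] = lcomb [(.negSucc 56398632571664692543), (.negSucc 126466760840071774889), (.negSucc 9653072693709), (.negSucc 5858647123562), (.negSucc 33284728122968), (.negSucc 5858647123562), (.ofNat 0)] relV := by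
  decide +kernel

theorem pow_cert5 : lsmul (.ofNat 23) [(.ofNat 0), (.ofNat 0), (.ofNat 0), (.ofNat 0), (.ofNat 0), (.ofNat 1)] = lcomb [(.negSucc 159778139855921), (.negSucc 358282139866667), (.negSucc 27347290), (.negSucc 16597631), (.negSucc 94296087), (.negSucc 16597631), (.negSucc 0)] relV := by
  decide +kernel

end Cfsg.Agent.Lib.H12.Co3M.Ct
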