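import Cfsg.Agent.Lib.H12.Co3M.Ct.Steps00
import Cfsg.Agent.Lib.H12.Co3M.Ct.Steps01
import Cfsg.Agent.Lib.H12.Co3M.Ct.Steps02
import Cfsg.Agent.Lib.H12.Co3M.Ct.Steps03
import Cfsg.Agent.Lib.H12.Co3M.Ct.Steps04
import Cfsg.Agent.Lib.H12.Co3M.Ct.Steps05
import Cfsg.Agent.Lib.H12.Co3M.Ct.Steps06
import Cfsg.Agent.Lib.H12.Co3M.Ct.Steps07
import Cfsg.Agent.Lib.H12.Co3M.Ct.Steps08
import Cfsg.Agent.Lib.H12.Co3M.Ct.Steps09
import Cfsg.Agent.Lib.H12.Co3M.Ct.Steps10
import Cfsg.Agent.Lib.H12.Co3M.Ct.Steps11
import Cfsg.Agent.Lib.H12.Co3M.Ct.Steps12
import Cfsg.Agent.Lib.H12.Co3M.Ct.Steps13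
import Cfsg.Agent.Lib.H12.Co3M.Ct.Steps14
import Cfsg.Agent.Lib.H12.Co3M.Ct.Steps15
import Cfsg.Agent.Lib.H12.Co3M.Ct.Steps16
import Cfsg.Agent.Lib.H12.Co3M.Ct.Steps17
import Cfsg.Agent.Lib.H12.Co3M.Ct.Steps18
import Cfsg.Agent.Lib.H12.Co3M.Ct.Steps19
import Cfsg.Agent.Lib.H12.Co3M.Ct.Steps20
import Cfsg.Agent.Lib.H12.Co3M.Ct.Steps21
import Cfsg.Agent.Lib.H12.Co3M.Ct.Steps22
import Cfsg.Agent.Lib.H12.Co3M.Ct.Steps23
import Cfsg.Agent.Lib.H12.Co3M.Ct.Steps24
import Cfsg.Agent.Lib.H12.Co3M.Ct.Steps25
import Cfsg.Agent.Lib.H12.Co3M.Ct.Steps26
import Cfsg.Agent.Lib.H12.Co3M.Ct.Steps27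
import Cfsg.Agent.Lib.H12.Co3M.Ct.Steps28
import Cfsg.Agent.Lib.H12.Co3M.Ct.Steps29
import Cfsg.Agent.Lib.H12.Co3M.Ct.Steps30
import Cfsg.Agent.Lib.H12.Co3M.Ct.Steps31
import Cfsg.Agent.Lib.H12.Co3M.Ct.Steps32
import Cfsg.Agent.Lib.H12.Co3M.Ct.Rows

set_option autoImplicit false
set_option maxRecDepth 100000

/-! # Running the monomial certificate (generated) -/

namespace Cfsg.Agent.Lib.H12.Co3M.Ct

open Cfsg.Agent.Lib.H17.CosetCert (BT WT)
open Cfsg.Agent.Lib.H17.MonoCert
open Cfsg.Agent.Lib.H12.J3M

variable {G Q A : Type*} [Group G] [MulAction G Q] [Group A] [MulAction A Q]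
  [SMulCommClass G A Q] (tw : List ℤ → A) (γ : ℕ → G)

theorem run (hfree : ∀ (α β : A) (q : Q), α • q = β • q → α = β)
    (htw : TwOK ladd (List.replicate 6 0) leq tw) (q0 : Q) (hw : WordsOK Ev tw γ q0 words 803) :
    Inv F Ev tw γ q0 words 388800 48600 867 := by
  have h0 := inv_zero F Ev tw γ q0 words 803 hw
  have h1 := checkSteps_sound ladd (List.replicate 6 0) leq F Ev 8 524288 tw γ hfree htw q0 words 803 hw steps0 0 1 803 500 160 803 h0 chk0
  have h2 := checkSteps_sound ladd (List.replicate 6 0) leq F Ev 8 524288 tw γ hfree htw q0 words 803 hw steps1 500 160 803 1000 275 803 h1 chk1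
  have h3 := checkSteps_sound ladd (List.replicate 6 0) leq F Ev 8 524288 tw γ hfree htw q0 words 803 hw steps2 1000 275 803 1500 371 803 h2 chk2
  have h4 := checkSteps_sound ladd (List.replicate 6 0) leq F Ev 8 524288 tw γ hfree htw q0 words 803 hw steps3 1500 371 803 2000 402 803 h3 chk3
  have h5 := checkSteps_sound ladd (List.replicate 6 0) leq F Ev 8 524288 tw γ hfree htw q0 words 803 hw steps4 2000 402 803 2500 455 803 h4 chk4
  have h6 := checkSteps_sound ladd (List.replicate 6 0) leq F Ev 8 524288 tw γ hfree htw q0 words 803 hw steps5 2500 455 803 3000 504 803 h5 chk5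
  have h7 := checkSteps_sound ladd (List.replicate 6 0) leq F Ev 8 524288 tw γ hfree htw q0 words 803 hw steps6 3000 504 803 3500 676 803 h6 chk6
  have h8 := checkSteps_sound ladd (List.replicate 6 0) leq F Ev 8 524288 tw γ hfree htw q0 words 803 hw steps7 3500 676 803 4000 844 803 h7 chk7
  have h9 := checkSteps_sound ladd (List.replicate 6 0) leq F Ev 8 524288 tw γ hfree htw q0 words 803 hw steps8 4000 844 803 4500 1025 803 h8 chk8
  have h10 := checkSteps_sound ladd (List.replicate 6 0) leq F Ev 8 524288 tw γ hfree htw q0 words 803 hw steps9 4500 1025 803 5000 1219 803 h9 chk9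
  have h11 := checkSteps_sound ladd (List.replicate 6 0) leq F Ev 8 524288 tw γ hfree htw q0 words 803 hw steps10 5000 1219 803 5500 1384 803 h10 chk10
  have h12 := checkSteps_sound ladd (List.replicate 6 0) leq F Ev 8 524288 tw γ hfree htw q0 words 803 hw steps11 5500 1384 803 6000 1574 803 h11 chk11
  have h13 := checkSteps_sound ladd (List.replicate 6 0) leq F Ev 8 524288 tw γ hfree htw q0 words 803 hw steps12 6000 1574 803 6500 1731 803 h12 chk12
  have h14 := checkSteps_sound ladd (List.replicate 6 0) leq F Ev 8 524288 tw γ hfree htw q0 words 803 hw steps13 6500 1731 803 7000 1917 803 h13 chk13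
  have h15 := checkSteps_sound ladd (List.replicate 6 0) leq F Ev 8 524288 tw γ hfree htw q0 words 803 hw steps14 7000 1917 803 7500 2068 803 h14 chk14
  have h16 := checkSteps_sound ladd (List.replicate 6 0) leq F Ev 8 524288 tw γ hfree htw q0 words 803 hw steps15 7500 2068 803 8000 2246 803 h15 chk15
  have h17 := checkSteps_sound ladd (List.replicate 6 0) leq F Ev 8 524288 tw γ hfree htw q0 words 803 hw steps16 8000 2246 803 8500 2420 803 h16 chk16
  have h18 := checkSteps_sound ladd (List.replicate 6 0) leq F Ev 8 524288 tw γ hfree htw q0 words 803 hw steps17 8500 2420 803 9000 2591 803 h17 chk17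
  have h19 := checkSteps_sound ladd (List.replicate 6 0) leq F Ev 8 524288 tw γ hfree htw q0 words 803 hw steps18 9000 2591 803 9500 2768 803 h18 chk18
  have h20 := checkSteps_sound ladd (List.replicate 6 0) leq F Ev 8 524288 tw γ hfree htw q0 words 803 hw steps19 9500 2768 803 10000 2934 803 h19 chk19
  have h21 := checkSteps_sound ladd (List.replicate 6 0) leq F Ev 8 524288 tw γ hfree htw q0 words 803 hw steps20 10000 2934 803 10500 3118 803 h20 chk20
  have h22 := checkSteps_sound ladd (List.replicate 6 0) leq F Ev 8 524288 tw γ hfree htw q0 words 803 hw steps21 10500 3118 803 11000 3309 803 h21 chk21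
  have h23 := checkSteps_sound ladd (List.replicate 6 0) leq F Ev 8 524288 tw γ hfree htw q0 words 803 hw steps22 11000 3309 803 11500 3484 803 h22 chk22
  have h24 := checkSteps_sound ladd (List.replicate 6 0) leq F Ev 8 524288 tw γ hfree htw q0 words 803 hw steps23 11500 3484 803 12000 3666 803 h23 chk23
  have h25 := checkSteps_sound ladd (List.replicate 6 0) leq F Ev 8 524288 tw γ hfree htw q0 words 803 hw steps24 12000 3666 803 12500 3834 803 h24 chk24
  have h26 := checkSteps_sound ladd (List.replicate 6 0) leq F Ev 8 524288 tw γ hfree htw q0 words 803 hw steps25 12500 3834 803 13000 4015 803 h25 chk25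
  have h27 := checkSteps_sound ladd (List.replicate 6 0) leq F Ev 8 524288 tw γ hfree htw q0 words 803 hw steps26 13000 4015 803 13500 4188 803 h26 chk26
  have h28 := checkSteps_sound ladd (List.replicate 6 0) leq F Ev 8 524288 tw γ hfree htw q0 words 803 hw steps27 13500 4188 803 14000 4366 803 h27 chk27
  have h29 := checkSteps_sound ladd (List.replicate 6 0) leq F Ev 8 524288 tw γ hfree htw q0 words 803 hw steps28 14000 4366 803 14500 4533 803 h28 chk28
  have h30 := checkSteps_sound ladd (List.replicate 6 0) leq F Ev 8 524288 tw γ hfree htw q0 words 803 hw steps29 14500 4533 803 15000 4715 803 h29 chk29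
  have h31 := checkSteps_sound ladd (List.replicate 6 0) leq F Ev 8 524288 tw γ hfree htw q0 words 803 hw steps30 15000 4715 803 15500 4888 803 h30 chk30
  have h32 := checkSteps_sound ladd (List.replicate 6 0) leq F Ev 8 524288 tw γ hfree htw q0 words 803 hw steps31 15500 4888 803 16000 5060 803 h31 chk31
  have h33 := checkSteps_sound ladd (List.replicate 6 0) leq F Ev 8 524288 tw γ hfree htw q0 words 803 hw steps32 16000 5060 803 16500 5228 803 h32 chk32
  have h34 := checkSteps_sound ladd (List.replicate 6 0) leq F Ev 8 524288 tw γ hfree htw q0 words 803 hw steps33 16500 5228 803 17000 5414 803 h33 chk33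
  have h35 := checkSteps_sound ladd (List.replicate 6 0) leq F Ev 8 524288 tw γ hfree htw q0 words 803 hw steps34 17000 5414 803 17500 5600 803 h34 chk34
  have h36 := checkSteps_sound ladd (List.replicate 6 0) leq F Ev 8 524288 tw γ hfree htw q0 words 803 hw steps35 17500 5600 803 18000 5757 803 h35 chk35
  have h37 := checkSteps_sound ladd (List.replicate 6 0) leq F Ev 8 524288 tw γ hfree htw q0 words 803 hw steps36 18000 5757 803 18500 5914 803 h36 chk36
  have h38 := checkSteps_sound ladd (List.replicate 6 0) leq F Ev 8 524288 tw γ hfree htw q0 words 803 hw steps37 18500 5914 803 19000 6095 803 h37 chk37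
  have h39 := checkSteps_sound ladd (List.replicate 6 0) leq F Ev 8 524288 tw γ hfree htw q0 words 803 hw steps38 19000 6095 803 19500 6277 803 h38 chk38
  have h40 := checkSteps_sound ladd (List.replicate 6 0) leq F Ev 8 524288 tw γ hfree htw q0 words 803 hw steps39 19500 6277 803 20000 6468 803 h39 chk39
  have h41 := checkSteps_sound ladd (List.replicate 6 0) leq F Ev 8 524288 tw γ hfree htw q0 words 803 hw steps40 20000 6468 803 20500 6634 803 h40 chk40
  have h42 := checkSteps_sound ladd (List.replicate 6 0) leq F Ev 8 524288 tw γ hfree htw q0 words 803 hw steps41 20500 6634 803 21000 6795 803 h41 chk41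
  have h43 := checkSteps_sound ladd (List.replicate 6 0) leq F Ev 8 524288 tw γ hfree htw q0 words 803 hw steps42 21000 6795 803 21500 6970 803 h42 chk42
  have h44 := checkSteps_sound ladd (List.replicate 6 0) leq F Ev 8 524288 tw γ hfree htw q0 words 803 hw steps43 21500 6970 803 22000 7151 803 h43 chk43
  have h45 := checkSteps_sound ladd (List.replicate 6 0) leq F Ev 8 524288 tw γ hfree htw q0 words 803 hw steps44 22000 7151 803 22500 7314 803 h44 chk44
  have h46 := checkSteps_sound ladd (List.replicate 6 0) leq F Ev 8 524288 tw γ hfree htw q0 words 803 hw steps45 22500 7314 803 23000 7490 803 h45 chk45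
  have h47 := checkSteps_sound ladd (List.replicate 6 0) leq F Ev 8 524288 tw γ hfree htw q0 words 803 hw steps46 23000 7490 803 23500 7669 803 h46 chk46
  have h48 := checkSteps_sound ladd (List.replicate 6 0) leq F Ev 8 524288 tw γ hfree htw q0 words 803 hw steps47 23500 7669 803 24000 7859 803 h47 chk47
  have h49 := checkSteps_sound ladd (List.replicate 6 0) leq F Ev 8 524288 tw γ hfree htw q0 words 803 hw steps48 24000 7859 803 24500 8033 803 h48 chk48
  have h50 := checkSteps_sound ladd (List.replicate 6 0) leq F Ev 8 524288 tw γ hfree htw q0 words 803 hw steps49 24500 8033 803 25000 8211 803 h49 chk49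
  have h51 := checkSteps_sound ladd (List.replicate 6 0) leq F Ev 8 524288 tw γ hfree htw q0 words 803 hw steps50 25000 8211 803 25500 8394 803 h50 chk50
  have h52 := checkSteps_sound ladd (List.replicate 6 0) leq F Ev 8 524288 tw γ hfree htw q0 words 803 hw steps51 25500 8394 803 26000 8597 803 h51 chk51
  have h53 := checkSteps_sound ladd (List.replicate 6 0) leq F Ev 8 524288 tw γ hfree htw q0 words 803 hw steps52 26000 8597 803 26500 8783 803 h52 chk52
  have h54 := checkSteps_sound ladd (List.replicate 6 0) leq F Ev 8 524288 tw γ hfree htw q0 words 803 hw steps53 26500 8783 803 27000 8957 803 h53 chk53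
  have h55 := checkSteps_sound ladd (List.replicate 6 0) leq F Ev 8 524288 tw γ hfree htw q0 words 803 hw steps54 27000 8957 803 27500 9152 803 h54 chk54
  have h56 := checkSteps_sound ladd (List.replicate 6 0) leq F Ev 8 524288 tw γ hfree htw q0 words 803 hw steps55 27500 9152 803 28000 9322 803 h55 chk55
  have h57 := checkSteps_sound ladd (List.replicate 6 0) leq F Ev 8 524288 tw γ hfree htw q0 words 803 hw steps56 28000 9322 803 28500 9498 803 h56 chk56
  have h58 := checkSteps_sound ladd (List.replicate 6 0) leq F Ev 8 524288 tw γ hfree htw q0 words 803 hw steps57 28500 9498 803 29000 9682 803 h57 chk57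
  have h59 := checkSteps_sound ladd (List.replicate 6 0) leq F Ev 8 524288 tw γ hfree htw q0 words 803 hw steps58 29000 9682 803 29500 9863 803 h58 chk58
  have h60 := checkSteps_sound ladd (List.replicate 6 0) leq F Ev 8 524288 tw γ hfree htw q0 words 803 hw steps59 29500 9863 803 30000 10063 803 h59 chk59
  have h61 := checkSteps_sound ladd (List.replicate 6 0) leq F Ev 8 524288 tw γ hfree htw q0 words 803 hw steps60 30000 10063 803 30500 10259 803 h60 chk60
  have h62 := checkSteps_sound ladd (List.replicate 6 0) leq F Ev 8 524288 tw γ hfree htw q0 words 803 hw steps61 30500 10259 803 31000 10460 803 h61 chk61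
  have h63 := checkSteps_sound ladd (List.replicate 6 0) leq F Ev 8 524288 tw γ hfree htw q0 words 803 hw steps62 31000 10460 803 31500 10665 803 h62 chk62
  have h64 := checkSteps_sound ladd (List.replicate 6 0) leq F Ev 8 524288 tw γ hfree htw q0 words 803 hw steps63 31500 10665 803 32000 10841 803 h63 chk63
  have h65 := checkSteps_sound ladd (List.replicate 6 0) leq F Ev 8 524288 tw γ hfree htw q0 words 803 hw steps64 32000 10841 803 32500 11027 803 h64 chk64
  have h66 := checkSteps_sound ladd (List.replicate 6 0) leq F Ev 8 524288 tw γ hfree htw q0 words 803 hw steps65 32500 11027 803 33000 11200 803 h65 chk65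
  have h67 := checkSteps_sound ladd (List.replicate 6 0) leq F Ev 8 524288 tw γ hfree htw q0 words 803 hw steps66 33000 11200 803 33500 11384 803 h66 chk66
  have h68 := checkSteps_sound ladd (List.replicate 6 0) leq F Ev 8 524288 tw γ hfree htw q0 words 803 hw steps67 33500 11384 803 34000 11581 803 h67 chk67
  have h69 := checkSteps_sound ladd (List.replicate 6 0) leq F Ev 8 524288 tw γ hfree htw q0 words 803 hw steps68 34000 11581 803 34500 11776 803 h68 chk68
  have h70 := checkSteps_sound ladd (List.replicate 6 0) leq F Ev 8 524288 tw γ hfree htw q0 words 803 hw steps69 34500 11776 803 35000 11990 803 h69 chk69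
  have h71 := checkSteps_sound ladd (List.replicate 6 0) leq F Ev 8 524288 tw γ hfree htw q0 words 803 hw steps70 35000 11990 803 35500 12203 803 h70 chk70
  have h72 := checkSteps_sound ladd (List.replicate 6 0) leq F Ev 8 524288 tw γ hfree htw q0 words 803 hw steps71 35500 12203 803 36000 12381 803 h71 chk71
  have h73 := checkSteps_sound ladd (List.replicate 6 0) leq F Ev 8 524288 tw γ hfree htw q0 words 803 hw steps72 36000 12381 803 36500 12570 803 h72 chk72
  have h74 := checkSteps_sound ladd (List.replicate 6 0) leq F Ev 8 524288 tw γ hfree htw q0 words 803 hw steps73 36500 12570 803 37000 12765 803 h73 chk73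
  have h75 := checkSteps_sound ladd (List.replicate 6 0) leq F Ev 8 524288 tw γ hfree htw q0 words 803 hw steps74 37000 12765 803 37500 12963 803 h74 chk74
  have h76 := checkSteps_sound ladd (List.replicate 6 0) leq F Ev 8 524288 tw γ hfree htw q0 words 803 hw steps75 37500 12963 803 38000 13167 803 h75 chk75
  have h77 := checkSteps_sound ladd (List.replicate 6 0) leq F Ev 8 524288 tw γ hfree htw q0 words 803 hw steps76 38000 13167 803 38500 13378 803 h76 chk76
  have h78 := checkSteps_sound ladd (List.replicate 6 0) leq F Ev 8 524288 tw γ hfree htw q0 words 803 hw steps77 38500 13378 803 39000 13579 803 h77 chk77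
  have h79 := checkSteps_sound ladd (List.replicate 6 0) leq F Ev 8 524288 tw γ hfree htw q0 words 803 hw steps78 39000 13579 803 39500 13788 803 h78 chk78
  have h80 := checkSteps_sound ladd (List.replicate 6 0) leq F Ev 8 524288 tw γ hfree htw q0 words 803 hw steps79 39500 13788 803 40000 13985 803 h79 chk79
  have h81 := checkSteps_sound ladd (List.replicate 6 0) leq F Ev 8 524288 tw γ hfree htw q0 words 803 hw steps80 40000 13985 803 40500 14205 803 h80 chk80
  have h82 := checkSteps_sound ladd (List.replicate 6 0) leq F Ev 8 524288 tw γ hfree htw q0 words 803 hw steps81 40500 14205 803 41000 14427 803 h81 chk81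
  have h83 := checkSteps_sound ladd (List.replicate 6 0) leq F Ev 8 524288 tw γ hfree htw q0 words 803 hw steps82 41000 14427 803 41500 14654 803 h82 chk82
  have h84 := checkSteps_sound ladd (List.replicate 6 0) leq F Ev 8 524288 tw γ hfree htw q0 words 803 hw steps83 41500 14654 803 42000 14841 803 h83 chk83
  have h85 := checkSteps_sound ladd (List.replicate 6 0) leq F Ev 8 524288 tw γ hfree htw q0 words 803 hw steps84 42000 14841 803 42500 15009 803 h84 chk84
  have h86 := checkSteps_sound ladd (List.replicate 6 0) leq F Ev 8 524288 tw γ hfree htw q0 words 803 hw steps85 42500 15009 803 43000 15192 803 h85 chk85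
  have h87 := checkSteps_sound ladd (List.replicate 6 0) leq F Ev 8 524288 tw γ hfree htw q0 words 803 hw steps86 43000 15192 803 43500 15377 803 h86 chk86
  have h88 := checkSteps_sound ladd (List.replicate 6 0) leq F Ev 8 524288 tw γ hfree htw q0 words 803 hw steps87 43500 15377 803 44000 15562 803 h87 chk87
  have h89 := checkSteps_sound ladd (List.replicate 6 0) leq F Ev 8 524288 tw γ hfree htw q0 words 803 hw steps88 44000 15562 803 44500 15731 803 h88 chk88
  have h90 := checkSteps_sound ladd (List.replicate 6 0) leq F Ev 8 524288 tw γ hfree htw q0 words 803 hw steps89 44500 15731 803 45000 15921 803 h89 chk89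
  have h91 := checkSteps_sound ladd (List.replicate 6 0) leq F Ev 8 524288 tw γ hfree htw q0 words 803 hw steps90 45000 15921 803 45500 16113 803 h90 chk90
  have h92 := checkSteps_sound ladd (List.replicate 6 0) leq F Ev 8 524288 tw γ hfree htw q0 words 803 hw steps91 45500 16113 803 46000 16308 803 h91 chk91
  have h93 := checkSteps_sound ladd (List.replicate 6 0) leq F Ev 8 524288 tw γ hfree htw q0 words 803 hw steps92 46000 16308 803 46500 16521 803 h92 chk92
  have h94 := checkSteps_sound ladd (List.replicate 6 0) leq F Ev 8 524288 tw γ hfree htw q0 words 803 hw steps93 46500 16521 803 47000 16687 803 h93 chk93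
  have h95 := checkSteps_sound ladd (List.replicate 6 0) leq F Ev 8 524288 tw γ hfree htw q0 words 803 hw steps94 47000 16687 803 47500 16863 803 h94 chk94
  have h96 := checkSteps_sound ladd (List.replicate 6 0) leq F Ev 8 524288 tw γ hfree htw q0 words 803 hw steps95 47500 16863 803 48000 17044 803 h95 chk95
  have h97 := checkSteps_sound ladd (List.replicate 6 0) leq F Ev 8 524288 tw γ hfree htw q0 words 803 hw steps96 48000 17044 803 48500 17218 803 h96 chk96
  have h98 := checkSteps_sound ladd (List.replicate 6 0) leq F Ev 8 524288 tw γ hfree htw q0 words 803 hw steps97 48500 17218 803 49000 17388 803 h97 chk97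
  have h99 := checkSteps_sound ladd (List.replicate 6 0) leq F Ev 8 524288 tw γ hfree htw q0 words 803 hw steps98 49000 17388 803 49500 17548 803 h98 chk98
  have h100 := checkSteps_sound ladd (List.replicate 6 0) leq F Ev 8 524288 tw γ hfree htw q0 words 803 hw steps99 49500 17548 803 50000 17706 803 h99 chk99
  have h101 := checkSteps_sound ladd (List.replicate 6 0) leq F Ev 8 524288 tw γ hfree htw q0 words 803 hw steps100 50000 17706 803 50500 17862 803 h100 chk100
  have h102 := checkSteps_sound ladd (List.replicate 6 0) leq F Ev 8 524288 tw γ hfree htw q0 words 803 hw steps101 50500 17862 803 51000 18021 803 h101 chk101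
  have h103 := checkSteps_sound ladd (List.replicate 6 0) leq F Ev 8 524288 tw γ hfree htw q0 words 803 hw steps102 51000 18021 803 51500 18188 803 h102 chk102
  have h104 := checkSteps_sound ladd (List.replicate 6 0) leq F Ev 8 524288 tw γ hfree htw q0 words 803 hw steps103 51500 18188 803 52000 18361 803 h103 chk103
  have h105 := checkSteps_sound ladd (List.replicate 6 0) leq F Ev 8 524288 tw γ hfree htw q0 words 803 hw steps104 52000 18361 803 52500 18515 803 h104 chk104
  have h106 := checkSteps_sound ladd (List.replicate 6 0) leq F Ev 8 524288 tw γ hfree htw q0 words 803 hw steps105 52500 18515 803 53000 18685 803 h105 chk105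
  have h107 := checkSteps_sound ladd (List.replicate 6 0) leq F Ev 8 524288 tw γ hfree htw q0 words 803 hw steps106 53000 18685 803 53500 18869 803 h106 chk106
  have h108 := checkSteps_sound ladd (List.replicate 6 0) leq F Ev 8 524288 tw γ hfree htw q0 words 803 hw steps107 53500 18869 803 54000 19037 803 h107 chk107
  have h109 := checkSteps_sound ladd (List.replicate 6 0) leq F Ev 8 524288 tw γ hfree htw q0 words 803 hw steps108 54000 19037 803 54500 19213 803 h108 chk108
  have h110 := checkSteps_sound ladd (List.replicate 6 0) leq F Ev 8 524288 tw γ hfree htw q0 words 803 hw steps109 54500 19213 803 55000 19387 803 h109 chk109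
  have h111 := checkSteps_sound ladd (List.replicate 6 0) leq F Ev 8 524288 tw γ hfree htw q0 words 803 hw steps110 55000 19387 803 55500 19557 803 h110 chk110
  have h112 := checkSteps_sound ladd (List.replicate 6 0) leq F Ev 8 524288 tw γ hfree htw q0 words 803 hw steps111 55500 19557 803 56000 19707 803 h111 chk111
  have h113 := checkSteps_sound ladd (List.replicate 6 0) leq F Ev 8 524288 tw γ hfree htw q0 words 803 hw steps112 56000 19707 803 56500 19859 803 h112 chk112
  have h114 := checkSteps_sound ladd (List.replicate 6 0) leq F Ev 8 524288 tw γ hfree htw q0 words 803 hw steps113 56500 19859 803 57000 20028 803 h113 chk113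
  have h115 := checkSteps_sound ladd (List.replicate 6 0) leq F Ev 8 524288 tw γ hfree htw q0 words 803 hw steps114 57000 20028 803 57500 20199 803 h114 chk114
  have h116 := checkSteps_sound ladd (List.replicate 6 0) leq F Ev 8 524288 tw γ hfree htw q0 words 803 hw steps115 57500 20199 803 58000 20357 803 h115 chk115
  have h117 := checkSteps_sound ladd (List.replicate 6 0) leq F Ev 8 524288 tw γ hfree htw q0 words 803 hw steps116 58000 20357 803 58500 20510 803 h116 chk116
  have h118 := checkSteps_sound ladd (List.replicate 6 0) leq F Ev 8 524288 tw γ hfree htw q0 words 803 hw steps117 58500 20510 803 59000 20691 803 h117 chk117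
  have h119 := checkSteps_sound ladd (List.replicate 6 0) leq F Ev 8 524288 tw γ hfree htw q0 words 803 hw steps118 59000 20691 803 59500 20857 803 h118 chk118
  have h120 := checkSteps_sound ladd (List.replicate 6 0) leq F Ev 8 524288 tw γ hfree htw q0 words 803 hw steps119 59500 20857 803 60000 21016 803 h119 chk119
  have h121 := checkSteps_sound ladd (List.replicate 6 0) leq F Ev 8 524288 tw γ hfree htw q0 words 803 hw steps120 60000 21016 803 60500 21195 803 h120 chk120
  have h122 := checkSteps_sound ladd (List.replicate 6 0) leq F Ev 8 524288 tw γ hfree htw q0 words 803 hw steps121 60500 21195 803 61000 21372 803 h121 chk121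
  have h123 := checkSteps_sound ladd (List.replicate 6 0) leq F Ev 8 524288 tw γ hfree htw q0 words 803 hw steps122 61000 21372 803 61500 21544 803 h122 chk122
  have h124 := checkSteps_sound ladd (List.replicate 6 0) leq F Ev 8 524288 tw γ hfree htw q0 words 803 hw steps123 61500 21544 803 62000 21698 803 h123 chk123
  have h125 := checkSteps_sound ladd (List.replicate 6 0) leq F Ev 8 524288 tw γ hfree htw q0 words 803 hw steps124 62000 21698 803 62500 21838 803 h124 chk124
  have h126 := checkSteps_sound ladd (List.replicate 6 0) leq F Ev 8 524288 tw γ hfree htw q0 words 803 hw steps125 62500 21838 803 63000 22009 803 h125 chk125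
  have h127 := checkSteps_sound ladd (List.replicate 6 0) leq F Ev 8 524288 tw γ hfree htw q0 words 803 hw steps126 63000 22009 803 63500 22192 803 h126 chk126
  have h128 := checkSteps_sound ladd (List.replicate 6 0) leq F Ev 8 524288 tw γ hfree htw q0 words 803 hw steps127 63500 22192 803 64000 22377 803 h127 chk127
  have h129 := checkSteps_sound ladd (List.replicate 6 0) leq F Ev 8 524288 tw γ hfree htw q0 words 803 hw steps128 64000 22377 803 64500 22568 803 h128 chk128
  have h130 := checkSteps_sound ladd (List.replicate 6 0) leq F Ev 8 524288 tw γ hfree htw q0 words 803 hw steps129 64500 22568 803 65000 22736 803 h129 chk129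
  have h131 := checkSteps_sound ladd (List.replicate 6 0) leq F Ev 8 524288 tw γ hfree htw q0 words 803 hw steps130 65000 22736 803 65500 22811 803 h130 chk130
  have h132 := checkSteps_sound ladd (List.replicate 6 0) leq F Ev 8 524288 tw γ hfree htw q0 words 803 hw steps131 65500 22811 803 66000 22834 803 h131 chk131
  have h133 := checkSteps_sound ladd (List.replicate 6 0) leq F Ev 8 524288 tw γ hfree htw q0 words 803 hw steps132 66000 22834 803 66500 23012 803 h132 chk132
  have h134 := checkSteps_sound ladd (List.replicate 6 0) leq F Ev 8 524288 tw γ hfree htw q0 words 803 hw steps133 66500 23012 803 67000 23205 803 h133 chk133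
  have h135 := checkSteps_sound ladd (List.replicate 6 0) leq F Ev 8 524288 tw γ hfree htw q0 words 803 hw steps134 67000 23205 803 67500 23387 803 h134 chk134
  have h136 := checkSteps_sound ladd (List.replicate 6 0) leq F Ev 8 524288 tw γ hfree htw q0 words 803 hw steps135 67500 23387 803 68000 23569 803 h135 chk135
  have h137 := checkSteps_sound ladd (List.replicate 6 0) leq F Ev 8 524288 tw γ hfree htw q0 words 803 hw steps136 68000 23569 803 68500 23752 803 h136 chk136
  have h138 := checkSteps_sound ladd (List.replicate 6 0) leq F Ev 8 524288 tw γ hfree htw q0 words 803 hw steps137 68500 23752 803 69000 23949 803 h137 chk137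
  have h139 := checkSteps_sound ladd (List.replicate 6 0) leq F Ev 8 524288 tw γ hfree htw q0 words 803 hw steps138 69000 23949 803 69500 24154 803 h138 chk138
  have h140 := checkSteps_sound ladd (List.replicate 6 0) leq F Ev 8 524288 tw γ hfree htw q0 words 803 hw steps139 69500 24154 803 70000 24320 803 h139 chk139
  have h141 := checkSteps_sound ladd (List.replicate 6 0) leq F Ev 8 524288 tw γ hfree htw q0 words 803 hw steps140 70000 24320 803 70500 24496 803 h140 chk140
  have h142 := checkSteps_sound ladd (List.replicate 6 0) leq F Ev 8 524288 tw γ hfree htw q0 words 803 hw steps141 70500 24496 803 71000 24692 803 h141 chk141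
  have h143 := checkSteps_sound ladd (List.replicate 6 0) leq F Ev 8 524288 tw γ hfree htw q0 words 803 hw steps142 71000 24692 803 71500 24860 803 h142 chk142
  have h144 := checkSteps_sound ladd (List.replicate 6 0) leq F Ev 8 524288 tw γ hfree htw q0 words 803 hw steps143 71500 24860 803 72000 25044 803 h143 chk143
  have h145 := checkSteps_sound ladd (List.replicate 6 0) leq F Ev 8 524288 tw γ hfree htw q0 words 803 hw steps144 72000 25044 803 72500 25206 803 h144 chk144
  have h146 := checkSteps_sound ladd (List.replicate 6 0) leq F Ev 8 524288 tw γ hfree htw q0 words 803 hw steps145 72500 25206 803 73000 25389 803 h145 chk145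
  have h147 := checkSteps_sound ladd (List.replicate 6 0) leq F Ev 8 524288 tw γ hfree htw q0 words 803 hw steps146 73000 25389 803 73500 25556 803 h146 chk146
  have h148 := checkSteps_sound ladd (List.replicate 6 0) leq F Ev 8 524288 tw γ hfree htw q0 words 803 hw steps147 73500 25556 803 74000 25729 803 h147 chk147
  have h149 := checkSteps_sound ladd (List.replicate 6 0) leq F Ev 8 524288 tw γ hfree htw q0 words 803 hw steps148 74000 25729 803 74500 25916 803 h148 chk148
  have h150 := checkSteps_sound ladd (List.replicate 6 0) leq F Ev 8 524288 tw γ hfree htw q0 words 803 hw steps149 74500 25916 803 75000 26081 803 h149 chk149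
  have h151 := checkSteps_sound ladd (List.replicate 6 0) leq F Ev 8 524288 tw γ hfree htw q0 words 803 hw steps150 75000 26081 803 75500 26250 803 h150 chk150
  have h152 := checkSteps_sound ladd (List.replicate 6 0) leq F Ev 8 524288 tw γ hfree htw q0 words 803 hw steps151 75500 26250 803 76000 26427 803 h151 chk151
  have h153 := checkSteps_sound ladd (List.replicate 6 0) leq F Ev 8 524288 tw γ hfree htw q0 words 803 hw steps152 76000 26427 803 76500 26602 803 h152 chk152
  have h154 := checkSteps_sound ladd (List.replicate 6 0) leq F Ev 8 524288 tw γ hfree htw q0 words 803 hw steps153 76500 26602 803 77000 26788 803 h153 chk153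
  have h155 := checkSteps_sound ladd (List.replicate 6 0) leq F Ev 8 524288 tw γ hfree htw q0 words 803 hw steps154 77000 26788 803 77500 26965 803 h154 chk154
  have h156 := checkSteps_sound ladd (List.replicate 6 0) leq F Ev 8 524288 tw γ hfree htw q0 words 803 hw steps155 77500 26965 803 78000 27143 803 h155 chk155
  have h157 := checkSteps_sound ladd (List.replicate 6 0) leq F Ev 8 524288 tw γ hfree htw q0 words 803 hw steps156 78000 27143 803 78500 27322 803 h156 chk156
  have h158 := checkSteps_sound ladd (List.replicate 6 0) leq F Ev 8 524288 tw γ hfree htw q0 words 803 hw steps157 78500 27322 803 79000 27517 803 h157 chk157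
  have h159 := checkSteps_sound ladd (List.replicate 6 0) leq F Ev 8 524288 tw γ hfree htw q0 words 803 hw steps158 79000 27517 803 79500 27689 803 h158 chk158
  have h160 := checkSteps_sound ladd (List.replicate 6 0) leq F Ev 8 524288 tw γ hfree htw q0 words 803 hw steps159 79500 27689 803 80000 27860 803 h159 chk159
  have h161 := checkSteps_sound ladd (List.replicate 6 0) leq F Ev 8 524288 tw γ hfree htw q0 words 803 hw steps160 80000 27860 803 80500 28045 803 h160 chk160
  have h162 := checkSteps_sound ladd (List.replicate 6 0) leq F Ev 8 524288 tw γ hfree htw q0 words 803 hw steps161 80500 28045 803 81000 28234 803 h161 chk161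
  have h163 := checkSteps_sound ladd (List.replicate 6 0) leq F Ev 8 524288 tw γ hfree htw q0 words 803 hw steps162 81000 28234 803 81500 28434 803 h162 chk162
  have h164 := checkSteps_sound ladd (List.replicate 6 0) leq F Ev 8 524288 tw γ hfree htw q0 words 803 hw steps163 81500 28434 803 82000 28596 803 h163 chk163
  have h165 := checkSteps_sound ladd (List.replicate 6 0) leq F Ev 8 524288 tw γ hfree htw q0 words 803 hw steps164 82000 28596 803 82500 28755 803 h164 chk164
  have h166 := checkSteps_sound ladd (List.replicate 6 0) leq F Ev 8 524288 tw γ hfree htw q0 words 803 hw steps165 82500 28755 803 83000 28930 803 h165 chk165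
  have h167 := checkSteps_sound ladd (List.replicate 6 0) leq F Ev 8 524288 tw γ hfree htw q0 words 803 hw steps166 83000 28930 803 83500 29124 803 h166 chk166
  have h168 := checkSteps_sound ladd (List.replicate 6 0) leq F Ev 8 524288 tw γ hfree htw q0 words 803 hw steps167 83500 29124 803 84000 29281 803 h167 chk167
  have h169 := checkSteps_sound ladd (List.replicate 6 0) leq F Ev 8 524288 tw γ hfree htw q0 words 803 hw steps168 84000 29281 803 84500 29454 803 h168 chk168
  have h170 := checkSteps_sound ladd (List.replicate 6 0) leq F Ev 8 524288 tw γ hfree htw q0 words 803 hw steps169 84500 29454 803 85000 29630 803 h169 chk169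
  have h171 := checkSteps_sound ladd (List.replicate 6 0) leq F Ev 8 524288 tw γ hfree htw q0 words 803 hw steps170 85000 29630 803 85500 29814 803 h170 chk170
  have h172 := checkSteps_sound ladd (List.replicate 6 0) leq F Ev 8 524288 tw γ hfree htw q0 words 803 hw steps171 85500 29814 803 86000 29986 803 h171 chk171
  have h173 := checkSteps_sound ladd (List.replicate 6 0) leq F Ev 8 524288 tw γ hfree htw q0 words 803 hw steps172 86000 29986 803 86500 30159 803 h172 chk172
  have h174 := checkSteps_sound ladd (List.replicate 6 0) leq F Ev 8 524288 tw γ hfree htw q0 words 803 hw steps173 86500 30159 803 87000 30354 803 h173 chk173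
  have h175 := checkSteps_sound ladd (List.replicate 6 0) leq F Ev 8 524288 tw γ hfree htw q0 words 803 hw steps174 87000 30354 803 87500 30552 803 h174 chk174
  have h176 := checkSteps_sound ladd (List.replicate 6 0) leq F Ev 8 524288 tw γ hfree htw q0 words 803 hw steps175 87500 30552 803 88000 30752 803 h175 chk175
  have h177 := checkSteps_sound ladd (List.replicate 6 0) leq F Ev 8 524288 tw γ hfree htw q0 words 803 hw steps176 88000 30752 803 88500 30951 803 h176 chk176
  have h178 := checkSteps_sound ladd (List.replicate 6 0) leq F Ev 8 524288 tw γ hfree htw q0 words 803 hw steps177 88500 30951 803 89000 31147 803 h177 chk177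
  have h179 := checkSteps_sound ladd (List.replicate 6 0) leq F Ev 8 524288 tw γ hfree htw q0 words 803 hw steps178 89000 31147 803 89500 31327 803 h178 chk178
  have h180 := checkSteps_sound ladd (List.replicate 6 0) leq F Ev 8 524288 tw γ hfree htw q0 words 803 hw steps179 89500 31327 803 90000 31526 803 h179 chk179
  have h181 := checkSteps_sound ladd (List.replicate 6 0) leq F Ev 8 524288 tw γ hfree htw q0 words 803 hw steps180 90000 31526 803 90500 31721 803 h180 chk180
  have h182 := checkSteps_sound ladd (List.replicate 6 0) leq F Ev 8 524288 tw γ hfree htw q0 words 803 hw steps181 90500 31721 803 91000 31904 803 h181 chk181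
  have h183 := checkSteps_sound ladd (List.replicate 6 0) leq F Ev 8 524288 tw γ hfree htw q0 words 803 hw steps182 91000 31904 803 91500 32098 803 h182 chk182
  have h184 := checkSteps_sound ladd (List.replicate 6 0) leq F Ev 8 524288 tw γ hfree htw q0 words 803 hw steps183 91500 32098 803 92000 32309 803 h183 chk183
  have h185 := checkSteps_sound ladd (List.replicate 6 0) leq F Ev 8 524288 tw γ hfree htw q0 words 803 hw steps184 92000 32309 803 92500 32524 803 h184 chk184
  have h186 := checkSteps_sound ladd (List.replicate 6 0) leq F Ev 8 524288 tw γ hfree htw q0 words 803 hw steps185 92500 32524 803 93000 32752 803 h185 chk185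
  have h187 := checkSteps_sound ladd (List.replicate 6 0) leq F Ev 8 524288 tw γ hfree htw q0 words 803 hw steps186 93000 32752 803 93500 32973 803 h186 chk186
  have h188 := checkSteps_sound ladd (List.replicate 6 0) leq F Ev 8 524288 tw γ hfree htw q0 words 803 hw steps187 93500 32973 803 94000 33137 803 h187 chk187
  have h189 := checkSteps_sound ladd (List.replicate 6 0) leq F Ev 8 524288 tw γ hfree htw q0 words 803 hw steps188 94000 33137 803 94500 33313 803 h188 chk188
  have h190 := checkSteps_sound ladd (List.replicate 6 0) leq F Ev 8 524288 tw γ hfree htw q0 words 803 hw steps189 94500 33313 803 95000 33494 803 h189 chk189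
  have h191 := checkSteps_sound ladd (List.replicate 6 0) leq F Ev 8 524288 tw γ hfree htw q0 words 803 hw steps190 95000 33494 803 95500 33672 803 h190 chk190
  have h192 := checkSteps_sound ladd (List.replicate 6 0) leq F Ev 8 524288 tw γ hfree htw q0 words 803 hw steps191 95500 33672 803 96000 33850 803 h191 chk191
  have h193 := checkSteps_sound ladd (List.replicate 6 0) leq F Ev 8 524288 tw γ hfree htw q0 words 803 hw steps192 96000 33850 803 96500 34011 803 h192 chk192
  have h194 := checkSteps_sound ladd (List.replicate 6 0) leq F Ev 8 524288 tw γ hfree htw q0 words 803 hw steps193 96500 34011 803 97000 34182 803 h193 chk193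
  have h195 := checkSteps_sound ladd (List.replicate 6 0) leq F Ev 8 524288 tw γ hfree htw q0 words 803 hw steps194 97000 34182 803 97500 34347 803 h194 chk194
  have h196 := checkSteps_sound ladd (List.replicate 6 0) leq F Ev 8 524288 tw γ hfree htw q0 words 803 hw steps195 97500 34347 803 98000 34506 803 h195 chk195
  have h197 := checkSteps_sound ladd (List.replicate 6 0) leq F Ev 8 524288 tw γ hfree htw q0 words 803 hw steps196 98000 34506 803 98500 34672 803 h196 chk196
  have h198 := checkSteps_sound ladd (List.replicate 6 0) leq F Ev 8 524288 tw γ hfree htw q0 words 803 hw steps197 98500 34672 803 99000 34855 803 h197 chk197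
  have h199 := checkSteps_sound ladd (List.replicate 6 0) leq F Ev 8 524288 tw γ hfree htw q0 words 803 hw steps198 99000 34855 803 99500 35011 803 h198 chk198
  have h200 := checkSteps_sound ladd (List.replicate 6 0) leq F Ev 8 524288 tw γ hfree htw q0 words 803 hw steps199 99500 35011 803 100000 35174 803 h199 chk199
  have h201 := checkSteps_sound ladd (List.replicate 6 0) leq F Ev 8 524288 tw γ hfree htw q0 words 803 hw steps200 100000 35174 803 100500 35342 803 h200 chk200
  have h202 := checkSteps_sound ladd (List.replicate 6 0) leq F Ev 8 524288 tw γ hfree htw q0 words 803 hw steps201 100500 35342 803 101000 35514 803 h201 chk201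
  have h203 := checkSteps_sound ladd (List.replicate 6 0) leq F Ev 8 524288 tw γ hfree htw q0 words 803 hw steps202 101000 35514 803 101500 35697 803 h202 chk202
  have h204 := checkSteps_sound ladd (List.replicate 6 0) leq F Ev 8 524288 tw γ hfree htw q0 words 803 hw steps203 101500 35697 803 102000 35876 803 h203 chk203
  have h205 := checkSteps_sound ladd (List.replicate 6 0) leq F Ev 8 524288 tw γ hfree htw q0 words 803 hw steps204 102000 35876 803 102500 36058 803 h204 chk204
  have h206 := checkSteps_sound ladd (List.replicate 6 0) leq F Ev 8 524288 tw γ hfree htw q0 words 803 hw steps205 102500 36058 803 103000 36220 803 h205 chk205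
  have h207 := checkSteps_sound ladd (List.replicate 6 0) leq F Ev 8 524288 tw γ hfree htw q0 words 803 hw steps206 103000 36220 803 103500 36397 803 h206 chk206
  have h208 := checkSteps_sound ladd (List.replicate 6 0) leq F Ev 8 524288 tw γ hfree htw q0 words 803 hw steps207 103500 36397 803 104000 36555 803 h207 chk207
  have h209 := checkSteps_sound ladd (List.replicate 6 0) leq F Ev 8 524288 tw γ hfree htw q0 words 803 hw steps208 104000 36555 803 104500 36733 803 h208 chk208
  have h210 := checkSteps_sound ladd (List.replicate 6 0) leq F Ev 8 524288 tw γ hfree htw q0 words 803 hw steps209 104500 36733 803 105000 36904 803 h209 chk209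
  have h211 := checkSteps_sound ladd (List.replicate 6 0) leq F Ev 8 524288 tw γ hfree htw q0 words 803 hw steps210 105000 36904 803 105500 37079 803 h210 chk210
  have h212 := checkSteps_sound ladd (List.replicate 6 0) leq F Ev 8 524288 tw γ hfree htw q0 words 803 hw steps211 105500 37079 803 106000 37253 803 h211 chk211
  have h213 := checkSteps_sound ladd (List.replicate 6 0) leq F Ev 8 524288 tw γ hfree htw q0 words 803 hw steps212 106000 37253 803 106500 37429 803 h212 chk212
  have h214 := checkSteps_sound ladd (List.replicate 6 0) leq F Ev 8 524288 tw γ hfree htw q0 words 803 hw steps213 106500 37429 803 107000 37605 803 h213 chk213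
  have h215 := checkSteps_sound ladd (List.replicate 6 0) leq F Ev 8 524288 tw γ hfree htw q0 words 803 hw steps214 107000 37605 803 107500 37790 803 h214 chk214
  have h216 := checkSteps_sound ladd (List.replicate 6 0) leq F Ev 8 524288 tw γ hfree htw q0 words 803 hw steps215 107500 37790 803 108000 37958 803 h215 chk215
  have h217 := checkSteps_sound ladd (List.replicate 6 0) leq F Ev 8 524288 tw γ hfree htw q0 words 803 hw steps216 108000 37958 803 108500 38114 803 h216 chk216
  have h218 := checkSteps_sound ladd (List.replicate 6 0) leq F Ev 8 524288 tw γ hfree htw q0 words 803 hw steps217 108500 38114 803 109000 38257 803 h217 chk217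
  have h219 := checkSteps_sound ladd (List.replicate 6 0) leq F Ev 8 524288 tw γ hfree htw q0 words 803 hw steps218 109000 38257 803 109500 38426 803 h218 chk218
  have h220 := checkSteps_sound ladd (List.replicate 6 0) leq F Ev 8 524288 tw γ hfree htw q0 words 803 hw steps219 109500 38426 803 110000 38613 803 h219 chk219
  have h221 := checkSteps_sound ladd (List.replicate 6 0) leq F Ev 8 524288 tw γ hfree htw q0 words 803 hw steps220 110000 38613 803 110500 38795 803 h220 chk220
  have h222 := checkSteps_sound ladd (List.replicate 6 0) leq F Ev 8 524288 tw γ hfree htw q0 words 803 hw steps221 110500 38795 803 111000 38943 803 h221 chk221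
  have h223 := checkSteps_sound ladd (List.replicate 6 0) leq F Ev 8 524288 tw γ hfree htw q0 words 803 hw steps222 111000 38943 803 111500 39114 803 h222 chk222
  have h224 := checkSteps_sound ladd (List.replicate 6 0) leq F Ev 8 524288 tw γ hfree htw q0 words 803 hw steps223 111500 39114 803 112000 39268 803 h223 chk223
  have h225 := checkSteps_sound ladd (List.replicate 6 0) leq F Ev 8 524288 tw γ hfree htw q0 words 803 hw steps224 112000 39268 803 112500 39427 803 h224 chk224
  have h226 := checkSteps_sound ladd (List.replicate 6 0) leq F Ev 8 524288 tw γ hfree htw q0 words 803 hw steps225 112500 39427 803 113000 39588 803 h225 chk225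
  have h227 := checkSteps_sound ladd (List.replicate 6 0) leq F Ev 8 524288 tw γ hfree htw q0 words 803 hw steps226 113000 39588 803 113500 39741 803 h226 chk226
  have h228 := checkSteps_sound ladd (List.replicate 6 0) leq F Ev 8 524288 tw γ hfree htw q0 words 803 hw steps227 113500 39741 803 114000 39921 803 h227 chk227
  have h229 := checkSteps_sound ladd (List.replicate 6 0) leq F Ev 8 524288 tw γ hfree htw q0 words 803 hw steps228 114000 39921 803 114500 40098 803 h228 chk228
  have h230 := checkSteps_sound ladd (List.replicate 6 0) leq F Ev 8 524288 tw γ hfree htw q0 words 803 hw steps229 114500 40098 803 115000 40272 803 h229 chk229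
  have h231 := checkSteps_sound ladd (List.replicate 6 0) leq F Ev 8 524288 tw γ hfree htw q0 words 803 hw steps230 115000 40272 803 115500 40440 803 h230 chk230
  have h232 := checkSteps_sound ladd (List.replicate 6 0) leq F Ev 8 524288 tw γ hfree htw q0 words 803 hw steps231 115500 40440 803 116000 40609 803 h231 chk231
  have h233 := checkSteps_sound ladd (List.replicate 6 0) leq F Ev 8 524288 tw γ hfree htw q0 words 803 hw steps232 116000 40609 803 116500 40798 803 h232 chk232
  have h234 := checkSteps_sound ladd (List.replicate 6 0) leq F Ev 8 524288 tw γ hfree htw q0 words 803 hw steps233 116500 40798 803 117000 40979 803 h233 chk233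
  have h235 := checkSteps_sound ladd (List.replicate 6 0) leq F Ev 8 524288 tw γ hfree htw q0 words 803 hw steps234 117000 40979 803 117500 41176 803 h234 chk234
  have h236 := checkSteps_sound ladd (List.replicate 6 0) leq F Ev 8 524288 tw γ hfree htw q0 words 803 hw steps235 117500 41176 803 118000 41342 803 h235 chk235
  have h237 := checkSteps_sound ladd (List.replicate 6 0) leq F Ev 8 524288 tw γ hfree htw q0 words 803 hw steps236 118000 41342 803 118500 41515 803 h236 chk236
  have h238 := checkSteps_sound ladd (List.replicate 6 0) leq F Ev 8 524288 tw γ hfree htw q0 words 803 hw steps237 118500 41515 803 119000 41693 803 h237 chk237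
  have h239 := checkSteps_sound ladd (List.replicate 6 0) leq F Ev 8 524288 tw γ hfree htw q0 words 803 hw steps238 119000 41693 803 119500 41871 803 h238 chk238
  have h240 := checkSteps_sound ladd (List.replicate 6 0) leq F Ev 8 524288 tw γ hfree htw q0 words 803 hw steps239 119500 41871 803 120000 42058 803 h239 chk239
  have h241 := checkSteps_sound ladd (List.replicate 6 0) leq F Ev 8 524288 tw γ hfree htw q0 words 803 hw steps240 120000 42058 803 120500 42237 803 h240 chk240
  have h242 := checkSteps_sound ladd (List.replicate 6 0) leq F Ev 8 524288 tw γ hfree htw q0 words 803 hw steps241 120500 42237 803 121000 42416 803 h241 chk241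
  have h243 := checkSteps_sound ladd (List.replicate 6 0) leq F Ev 8 524288 tw γ hfree htw q0 words 803 hw steps242 121000 42416 803 121500 42593 803 h242 chk242
  have h244 := checkSteps_sound ladd (List.replicate 6 0) leq F Ev 8 524288 tw γ hfree htw q0 words 803 hw steps243 121500 42593 803 122000 42777 803 h243 chk243
  have h245 := checkSteps_sound ladd (List.replicate 6 0) leq F Ev 8 524288 tw γ hfree htw q0 words 803 hw steps244 122000 42777 803 122500 42957 803 h244 chk244
  have h246 := checkSteps_sound ladd (List.replicate 6 0) leq F Ev 8 524288 tw γ hfree htw q0 words 803 hw steps245 122500 42957 803 123000 43160 803 h245 chk245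
  have h247 := checkSteps_sound ladd (List.replicate 6 0) leq F Ev 8 524288 tw γ hfree htw q0 words 803 hw steps246 123000 43160 803 123500 43356 803 h246 chk246
  have h248 := checkSteps_sound ladd (List.replicate 6 0) leq F Ev 8 524288 tw γ hfree htw q0 words 803 hw steps247 123500 43356 803 124000 43543 803 h247 chk247
  have h249 := checkSteps_sound ladd (List.replicate 6 0) leq F Ev 8 524288 tw γ hfree htw q0 words 803 hw steps248 124000 43543 803 124500 43725 803 h248 chk248
  have h250 := checkSteps_sound ladd (List.replicate 6 0) leq F Ev 8 524288 tw γ hfree htw q0 words 803 hw steps249 124500 43725 803 125000 43889 803 h249 chk249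
  have h251 := checkSteps_sound ladd (List.replicate 6 0) leq F Ev 8 524288 tw γ hfree htw q0 words 803 hw steps250 125000 43889 803 125500 44074 803 h250 chk250
  have h252 := checkSteps_sound ladd (List.replicate 6 0) leq F Ev 8 524288 tw γ hfree htw q0 words 803 hw steps251 125500 44074 803 126000 44267 803 h251 chk251
  have h253 := checkSteps_sound ladd (List.replicate 6 0) leq F Ev 8 524288 tw γ hfree htw q0 words 803 hw steps252 126000 44267 803 126500 44461 803 h252 chk252
  have h254 := checkSteps_sound ladd (List.replicate 6 0) leq F Ev 8 524288 tw γ hfree htw q0 words 803 hw steps253 126500 44461 803 127000 44656 803 h253 chk253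
  have h255 := checkSteps_sound ladd (List.replicate 6 0) leq F Ev 8 524288 tw γ hfree htw q0 words 803 hw steps254 127000 44656 803 127500 44840 803 h254 chk254
  have h256 := checkSteps_sound ladd (List.replicate 6 0) leq F Ev 8 524288 tw γ hfree htw q0 words 803 hw steps255 127500 44840 803 128000 45043 803 h255 chk255
  have h257 := checkSteps_sound ladd (List.replicate 6 0) leq F Ev 8 524288 tw γ hfree htw q0 words 803 hw steps256 128000 45043 803 128500 45218 803 h256 chk256
  have h258 := checkSteps_sound ladd (List.replicate 6 0) leq F Ev 8 524288 tw γ hfree htw q0 words 803 hw steps257 128500 45218 803 129000 45390 803 h257 chk257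
  have h259 := checkSteps_sound ladd (List.replicate 6 0) leq F Ev 8 524288 tw γ hfree htw q0 words 803 hw steps258 129000 45390 803 129500 45572 803 h258 chk258
  have h260 := checkSteps_sound ladd (List.replicate 6 0) leq F Ev 8 524288 tw γ hfree htw q0 words 803 hw steps259 129500 45572 803 130000 45766 803 h259 chk259
  have h261 := checkSteps_sound ladd (List.replicate 6 0) leq F Ev 8 524288 tw γ hfree htw q0 words 803 hw steps260 130000 45766 803 130500 45959 803 h260 chk260
  have h262 := checkSteps_sound ladd (List.replicate 6 0) leq F Ev 8 524288 tw γ hfree htw q0 words 803 hw steps261 130500 45959 803 131000 46138 803 h261 chk261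
  have h263 := checkSteps_sound ladd (List.replicate 6 0) leq F Ev 8 524288 tw γ hfree htw q0 words 803 hw steps262 131000 46138 803 131500 46339 803 h262 chk262
  have h264 := checkSteps_sound ladd (List.replicate 6 0) leq F Ev 8 524288 tw γ hfree htw q0 words 803 hw steps263 131500 46339 803 132000 46537 803 h263 chk263
  have h265 := checkSteps_sound ladd (List.replicate 6 0) leq F Ev 8 524288 tw γ hfree htw q0 words 803 hw steps264 132000 46537 803 132500 46756 803 h264 chk264
  have h266 := checkSteps_sound ladd (List.replicate 6 0) leq F Ev 8 524288 tw γ hfree htw q0 words 803 hw steps265 132500 46756 803 133000 46949 803 h265 chk265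
  have h267 := checkSteps_sound ladd (List.replicate 6 0) leq F Ev 8 524288 tw γ hfree htw q0 words 803 hw steps266 133000 46949 803 133500 47134 803 h266 chk266
  have h268 := checkSteps_sound ladd (List.replicate 6 0) leq F Ev 8 524288 tw γ hfree htw q0 words 803 hw steps267 133500 47134 803 134000 47350 803 h267 chk267
  have h269 := checkSteps_sound ladd (List.replicate 6 0) leq F Ev 8 524288 tw γ hfree htw q0 words 803 hw steps268 134000 47350 803 134500 47555 803 h268 chk268
  have h270 := checkSteps_sound ladd (List.replicate 6 0) leq F Ev 8 524288 tw γ hfree htw q0 words 803 hw steps269 134500 47555 803 135000 47764 803 h269 chk269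
  have h271 := checkSteps_sound ladd (List.replicate 6 0) leq F Ev 8 524288 tw γ hfree htw q0 words 803 hw steps270 135000 47764 803 135500 47976 803 h270 chk270
  have h272 := checkSteps_sound ladd (List.replicate 6 0) leq F Ev 8 524288 tw γ hfree htw q0 words 803 hw steps271 135500 47976 803 136000 48187 803 h271 chk271
  have h273 := checkSteps_sound ladd (List.replicate 6 0) leq F Ev 8 524288 tw γ hfree htw q0 words 803 hw steps272 136000 48187 803 136500 48404 803 h272 chk272
  have h274 := checkSteps_sound ladd (List.replicate 6 0) leq F Ev 8 524288 tw γ hfree htw q0 words 803 hw steps273 136500 48404 803 137000 48586 803 h273 chk273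
  have h275 := checkSteps_sound ladd (List.replicate 6 0) leq F Ev 8 524288 tw γ hfree htw q0 words 803 hw steps274 137000 48586 803 137498 48600 805 h274 chk274
  have h276 := checkSteps_sound ladd (List.replicate 6 0) leq F Ev 8 524288 tw γ hfree htw q0 words 803 hw steps275 137498 48600 805 137996 48600 807 h275 chk275
  have h277 := checkSteps_sound ladd (List.replicate 6 0) leq F Ev 8 524288 tw γ hfree htw q0 words 803 hw steps276 137996 48600 807 138496 48600 807 h276 chk276
  have h278 := checkSteps_sound ladd (List.replicate 6 0) leq F Ev 8 524288 tw γ hfree htw q0 words 803 hw steps277 138496 48600 807 138996 48600 807 h277 chk277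
  have h279 := checkSteps_sound ladd (List.replicate 6 0) leq F Ev 8 524288 tw γ hfree htw q0 words 803 hw steps278 138996 48600 807 139496 48600 807 h278 chk278
  have h280 := checkSteps_sound ladd (List.replicate 6 0) leq F Ev 8 524288 tw γ hfree htw q0 words 803 hw steps279 139496 48600 807 139996 48600 807 h279 chk279
  have h281 := checkSteps_sound ladd (List.replicate 6 0) leq F Ev 8 524288 tw γ hfree htw q0 words 803 hw steps280 139996 48600 807 140496 48600 807 h280 chk280
  have h282 := checkSteps_sound ladd (List.replicate 6 0) leq F Ev 8 524288 tw γ hfree htw q0 words 803 hw steps281 140496 48600 807 140996 48600 807 h281 chk281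
  have h283 := checkSteps_sound ladd (List.replicate 6 0) leq F Ev 8 524288 tw γ hfree htw q0 words 803 hw steps282 140996 48600 807 141496 48600 807 h282 chk282
  have h284 := checkSteps_sound ladd (List.replicate 6 0) leq F Ev 8 524288 tw γ hfree htw q0 words 803 hw steps283 141496 48600 807 141996 48600 807 h283 chk283
  have h285 := checkSteps_sound ladd (List.replicate 6 0) leq F Ev 8 524288 tw γ hfree htw q0 words 803 hw steps284 141996 48600 807 142496 48600 807 h284 chk284
  have h286 := checkSteps_sound ladd (List.replicate 6 0) leq F Ev 8 524288 tw γ hfree htw q0 words 803 hw steps285 142496 48600 807 142996 48600 807 h285 chk285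
  have h287 := checkSteps_sound ladd (List.replicate 6 0) leq F Ev 8 524288 tw γ hfree htw q0 words 803 hw steps286 142996 48600 807 143493 48600 810 h286 chk286
  have h288 := checkSteps_sound ladd (List.replicate 6 0) leq F Ev 8 524288 tw γ hfree htw q0 words 803 hw steps287 143493 48600 810 143992 48600 811 h287 chk287
  have h289 := checkSteps_sound ladd (List.replicate 6 0) leq F Ev 8 524288 tw γ hfree htw q0 words 803 hw steps288 143992 48600 811 144492 48600 811 h288 chk288
  have h290 := checkSteps_sound ladd (List.replicate 6 0) leq F Ev 8 524288 tw γ hfree htw q0 words 803 hw steps289 144492 48600 811 144992 48600 811 h289 chk289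
  have h291 := checkSteps_sound ladd (List.replicate 6 0) leq F Ev 8 524288 tw γ hfree htw q0 words 803 hw steps290 144992 48600 811 145492 48600 811 h290 chk290
  have h292 := checkSteps_sound ladd (List.replicate 6 0) leq F Ev 8 524288 tw γ hfree htw q0 words 803 hw steps291 145492 48600 811 145992 48600 811 h291 chk291
  have h293 := checkSteps_sound ladd (List.replicate 6 0) leq F Ev 8 524288 tw γ hfree htw q0 words 803 hw steps292 145992 48600 811 146492 48600 811 h292 chk292
  have h294 := checkSteps_sound ladd (List.replicate 6 0) leq F Ev 8 524288 tw γ hfree htw q0 words 803 hw steps293 146492 48600 811 146992 48600 811 h293 chk293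
  have h295 := checkSteps_sound ladd (List.replicate 6 0) leq F Ev 8 524288 tw γ hfree htw q0 words 803 hw steps294 146992 48600 811 147492 48600 811 h294 chk294
  have h296 := checkSteps_sound ladd (List.replicate 6 0) leq F Ev 8 524288 tw γ hfree htw q0 words 803 hw steps295 147492 48600 811 147992 48600 811 h295 chk295
  have h297 := checkSteps_sound ladd (List.replicate 6 0) leq F Ev 8 524288 tw γ hfree htw q0 words 803 hw steps296 147992 48600 811 148492 48600 811 h296 chk296
  have h298 := checkSteps_sound ladd (List.replicate 6 0) leq F Ev 8 524288 tw γ hfree htw q0 words 803 hw steps297 148492 48600 811 148992 48600 811 h297 chk297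
  have h299 := checkSteps_sound ladd (List.replicate 6 0) leq F Ev 8 524288 tw γ hfree htw q0 words 803 hw steps298 148992 48600 811 149492 48600 811 h298 chk298
  have h300 := checkSteps_sound ladd (List.replicate 6 0) leq F Ev 8 524288 tw γ hfree htw q0 words 803 hw steps299 149492 48600 811 149992 48600 811 h299 chk299
  have h301 := checkSteps_sound ladd (List.replicate 6 0) leq F Ev 8 524288 tw γ hfree htw q0 words 803 hw steps300 149992 48600 811 150492 48600 811 h300 chk300
  have h302 := checkSteps_sound ladd (List.replicate 6 0) leq F Ev 8 524288 tw γ hfree htw q0 words 803 hw steps301 150492 48600 811 150992 48600 811 h301 chk301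
  have h303 := checkSteps_sound ladd (List.replicate 6 0) leq F Ev 8 524288 tw γ hfree htw q0 words 803 hw steps302 150992 48600 811 151492 48600 811 h302 chk302
  have h304 := checkSteps_sound ladd (List.replicate 6 0) leq F Ev 8 524288 tw γ hfree htw q0 words 803 hw steps303 151492 48600 811 151992 48600 811 h303 chk303
  have h305 := checkSteps_sound ladd (List.replicate 6 0) leq F Ev 8 524288 tw γ hfree htw q0 words 803 hw steps304 151992 48600 811 152492 48600 811 h304 chk304
  have h306 := checkSteps_sound ladd (List.replicate 6 0) leq F Ev 8 524288 tw γ hfree htw q0 words 803 hw steps305 152492 48600 811 152992 48600 811 h305 chk305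
  have h307 := checkSteps_sound ladd (List.replicate 6 0) leq F Ev 8 524288 tw γ hfree htw q0 words 803 hw steps306 152992 48600 811 153492 48600 811 h306 chk306
  have h308 := checkSteps_sound ladd (List.replicate 6 0) leq F Ev 8 524288 tw γ hfree htw q0 words 803 hw steps307 153492 48600 811 153992 48600 811 h307 chk307
  have h309 := checkSteps_sound ladd (List.replicate 6 0) leq F Ev 8 524288 tw γ hfree htw q0 words 803 hw steps308 153992 48600 811 154492 48600 811 h308 chk308
  have h310 := checkSteps_sound ladd (List.replicate 6 0) leq F Ev 8 524288 tw γ hfree htw q0 words 803 hw steps309 154492 48600 811 154992 48600 811 h309 chk309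
  have h311 := checkSteps_sound ladd (List.replicate 6 0) leq F Ev 8 524288 tw γ hfree htw q0 words 803 hw steps310 154992 48600 811 155492 48600 811 h310 chk310
  have h312 := checkSteps_sound ladd (List.replicate 6 0) leq F Ev 8 524288 tw γ hfree htw q0 words 803 hw steps311 155492 48600 811 155992 48600 811 h311 chk311
  have h313 := checkSteps_sound ladd (List.replicate 6 0) leq F Ev 8 524288 tw γ hfree htw q0 words 803 hw steps312 155992 48600 811 156492 48600 811 h312 chk312
  have h314 := checkSteps_sound ladd (List.replicate 6 0) leq F Ev 8 524288 tw γ hfree htw q0 words 803 hw steps313 156492 48600 811 156992 48600 811 h313 chk313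
  have h315 := checkSteps_sound ladd (List.replicate 6 0) leq F Ev 8 524288 tw γ hfree htw q0 words 803 hw steps314 156992 48600 811 157492 48600 811 h314 chk314
  have h316 := checkSteps_sound ladd (List.replicate 6 0) leq F Ev 8 524288 tw γ hfree htw q0 words 803 hw steps315 157492 48600 811 157992 48600 811 h315 chk315
  have h317 := checkSteps_sound ladd (List.replicate 6 0) leq F Ev 8 524288 tw γ hfree htw q0 words 803 hw steps316 157992 48600 811 158492 48600 811 h316 chk316
  have h318 := checkSteps_sound ladd (List.replicate 6 0) leq F Ev 8 524288 tw γ hfree htw q0 words 803 hw steps317 158492 48600 811 158992 48600 811 h317 chk317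
  have h319 := checkSteps_sound ladd (List.replicate 6 0) leq F Ev 8 524288 tw γ hfree htw q0 words 803 hw steps318 158992 48600 811 159492 48600 811 h318 chk318
  have h320 := checkSteps_sound ladd (List.replicate 6 0) leq F Ev 8 524288 tw γ hfree htw q0 words 803 hw steps319 159492 48600 811 159969 48600 834 h319 chk319
  have h321 := checkSteps_sound ladd (List.replicate 6 0) leq F Ev 8 524288 tw γ hfree htw q0 words 803 hw steps320 159969 48600 834 160469 48600 834 h320 chk320
  have h322 := checkSteps_sound ladd (List.replicate 6 0) leq F Ev 8 524288 tw γ hfree htw q0 words 803 hw steps321 160469 48600 834 160969 48600 834 h321 chk321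
  have h323 := checkSteps_sound ladd (List.replicate 6 0) leq F Ev 8 524288 tw γ hfree htw q0 words 803 hw steps322 160969 48600 834 161469 48600 834 h322 chk322
  have h324 := checkSteps_sound ladd (List.replicate 6 0) leq F Ev 8 524288 tw γ hfree htw q0 words 803 hw steps323 161469 48600 834 161969 48600 834 h323 chk323
  have h325 := checkSteps_sound ladd (List.replicate 6 0) leq F Ev 8 524288 tw γ hfree htw q0 words 803 hw steps324 161969 48600 834 162469 48600 834 h324 chk324
  have h326 := checkSteps_sound ladd (List.replicate 6 0) leq F Ev 8 524288 tw γ hfree htw q0 words 803 hw steps325 162469 48600 834 162969 48600 834 h325 chk325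
  have h327 := checkSteps_sound ladd (List.replicate 6 0) leq F Ev 8 524288 tw γ hfree htw q0 words 803 hw steps326 162969 48600 834 163469 48600 834 h326 chk326
  have h328 := checkSteps_sound ladd (List.replicate 6 0) leq F Ev 8 524288 tw γ hfree htw q0 words 803 hw steps327 163469 48600 834 163969 48600 834 h327 chk327
  have h329 := checkSteps_sound ladd (List.replicate 6 0) leq F Ev 8 524288 tw γ hfree htw q0 words 803 hw steps328 163969 48600 834 164469 48600 834 h328 chk328
  have h330 := checkSteps_sound ladd (List.replicate 6 0) leq F Ev 8 524288 tw γ hfree htw q0 words 803 hw steps329 164469 48600 834 164969 48600 834 h329 chk329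
  have h331 := checkSteps_sound ladd (List.replicate 6 0) leq F Ev 8 524288 tw γ hfree htw q0 words 803 hw steps330 164969 48600 834 165469 48600 834 h330 chk330
  have h332 := checkSteps_sound ladd (List.replicate 6 0) leq F Ev 8 524288 tw γ hfree htw q0 words 803 hw steps331 165469 48600 834 165969 48600 834 h331 chk331
  have h333 := checkSteps_sound ladd (List.replicate 6 0) leq F Ev 8 524288 tw γ hfree htw q0 words 803 hw steps332 165969 48600 834 166469 48600 834 h332 chk332
  have h334 := checkSteps_sound ladd (List.replicate 6 0) leq F Ev 8 524288 tw γ hfree htw q0 words 803 hw steps333 166469 48600 834 166969 48600 834 h333 chk333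
  have h335 := checkSteps_sound ladd (List.replicate 6 0) leq F Ev 8 524288 tw γ hfree htw q0 words 803 hw steps334 166969 48600 834 167469 48600 834 h334 chk334
  have h336 := checkSteps_sound ladd (List.replicate 6 0) leq F Ev 8 524288 tw γ hfree htw q0 words 803 hw steps335 167469 48600 834 167969 48600 834 h335 chk335
  have h337 := checkSteps_sound ladd (List.replicate 6 0) leq F Ev 8 524288 tw γ hfree htw q0 words 803 hw steps336 167969 48600 834 168469 48600 834 h336 chk336
  have h338 := checkSteps_sound ladd (List.replicate 6 0) leq F Ev 8 524288 tw γ hfree htw q0 words 803 hw steps337 168469 48600 834 168969 48600 834 h337 chk337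
  have h339 := checkSteps_sound ladd (List.replicate 6 0) leq F Ev 8 524288 tw γ hfree htw q0 words 803 hw steps338 168969 48600 834 169469 48600 834 h338 chk338
  have h340 := checkSteps_sound ladd (List.replicate 6 0) leq F Ev 8 524288 tw γ hfree htw q0 words 803 hw steps339 169469 48600 834 169969 48600 834 h339 chk339
  have h341 := checkSteps_sound ladd (List.replicate 6 0) leq F Ev 8 524288 tw γ hfree htw q0 words 803 hw steps340 169969 48600 834 170469 48600 834 h340 chk340
  have h342 := checkSteps_sound ladd (List.replicate 6 0) leq F Ev 8 524288 tw γ hfree htw q0 words 803 hw steps341 170469 48600 834 170969 48600 834 h341 chk341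
  have h343 := checkSteps_sound ladd (List.replicate 6 0) leq F Ev 8 524288 tw γ hfree htw q0 words 803 hw steps342 170969 48600 834 171469 48600 834 h342 chk342
  have h344 := checkSteps_sound ladd (List.replicate 6 0) leq F Ev 8 524288 tw γ hfree htw q0 words 803 hw steps343 171469 48600 834 171969 48600 834 h343 chk343
  have h345 := checkSteps_sound ladd (List.replicate 6 0) leq F Ev 8 524288 tw γ hfree htw q0 words 803 hw steps344 171969 48600 834 172469 48600 834 h344 chk344
  have h346 := checkSteps_sound ladd (List.replicate 6 0) leq F Ev 8 524288 tw γ hfree htw q0 words 803 hw steps345 172469 48600 834 172969 48600 834 h345 chk345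
  have h347 := checkSteps_sound ladd (List.replicate 6 0) leq F Ev 8 524288 tw γ hfree htw q0 words 803 hw steps346 172969 48600 834 173469 48600 834 h346 chk346
  have h348 := checkSteps_sound ladd (List.replicate 6 0) leq F Ev 8 524288 tw γ hfree htw q0 words 803 hw steps347 173469 48600 834 173969 48600 834 h347 chk347
  have h349 := checkSteps_sound ladd (List.replicate 6 0) leq F Ev 8 524288 tw γ hfree htw q0 words 803 hw steps348 173969 48600 834 174469 48600 834 h348 chk348
  have h350 := checkSteps_sound ladd (List.replicate 6 0) leq F Ev 8 524288 tw γ hfree htw q0 words 803 hw steps349 174469 48600 834 174969 48600 834 h349 chk349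
  have h351 := checkSteps_sound ladd (List.replicate 6 0) leq F Ev 8 524288 tw γ hfree htw q0 words 803 hw steps350 174969 48600 834 175469 48600 834 h350 chk350
  have h352 := checkSteps_sound ladd (List.replicate 6 0) leq F Ev 8 524288 tw γ hfree htw q0 words 803 hw steps351 175469 48600 834 175969 48600 834 h351 chk351
  have h353 := checkSteps_sound ladd (List.replicate 6 0) leq F Ev 8 524288 tw γ hfree htw q0 words 803 hw steps352 175969 48600 834 176469 48600 834 h352 chk352
  have h354 := checkSteps_sound ladd (List.replicate 6 0) leq F Ev 8 524288 tw γ hfree htw q0 words 803 hw steps353 176469 48600 834 176969 48600 834 h353 chk353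
  have h355 := checkSteps_sound ladd (List.replicate 6 0) leq F Ev 8 524288 tw γ hfree htw q0 words 803 hw steps354 176969 48600 834 177469 48600 834 h354 chk354
  have h356 := checkSteps_sound ladd (List.replicate 6 0) leq F Ev 8 524288 tw γ hfree htw q0 words 803 hw steps355 177469 48600 834 177969 48600 834 h355 chk355
  have h357 := checkSteps_sound ladd (List.replicate 6 0) leq F Ev 8 524288 tw γ hfree htw q0 words 803 hw steps356 177969 48600 834 178469 48600 834 h356 chk356
  have h358 := checkSteps_sound ladd (List.replicate 6 0) leq F Ev 8 524288 tw γ hfree htw q0 words 803 hw steps357 178469 48600 834 178969 48600 834 h357 chk357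
  have h359 := checkSteps_sound ladd (List.replicate 6 0) leq F Ev 8 524288 tw γ hfree htw q0 words 803 hw steps358 178969 48600 834 179469 48600 834 h358 chk358
  have h360 := checkSteps_sound ladd (List.replicate 6 0) leq F Ev 8 524288 tw γ hfree htw q0 words 803 hw steps359 179469 48600 834 179969 48600 834 h359 chk359
  have h361 := checkSteps_sound ladd (List.replicate 6 0) leq F Ev 8 524288 tw γ hfree htw q0 words 803 hw steps360 179969 48600 834 180469 48600 834 h360 chk360
  have h362 := checkSteps_sound ladd (List.replicate 6 0) leq F Ev 8 524288 tw γ hfree htw q0 words 803 hw steps361 180469 48600 834 180969 48600 834 h361 chk361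
  have h363 := checkSteps_sound ladd (List.replicate 6 0) leq F Ev 8 524288 tw γ hfree htw q0 words 803 hw steps362 180969 48600 834 181469 48600 834 h362 chk362
  have h364 := checkSteps_sound ladd (List.replicate 6 0) leq F Ev 8 524288 tw γ hfree htw q0 words 803 hw steps363 181469 48600 834 181969 48600 834 h363 chk363
  have h365 := checkSteps_sound ladd (List.replicate 6 0) leq F Ev 8 524288 tw γ hfree htw q0 words 803 hw steps364 181969 48600 834 182469 48600 834 h364 chk364
  have h366 := checkSteps_sound ladd (List.replicate 6 0) leq F Ev 8 524288 tw γ hfree htw q0 words 803 hw steps365 182469 48600 834 182969 48600 834 h365 chk365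
  have h367 := checkSteps_sound ladd (List.replicate 6 0) leq F Ev 8 524288 tw γ hfree htw q0 words 803 hw steps366 182969 48600 834 183469 48600 834 h366 chk366
  have h368 := checkSteps_sound ladd (List.replicate 6 0) leq F Ev 8 524288 tw γ hfree htw q0 words 803 hw steps367 183469 48600 834 183969 48600 834 h367 chk367
  have h369 := checkSteps_sound ladd (List.replicate 6 0) leq F Ev 8 524288 tw γ hfree htw q0 words 803 hw steps368 183969 48600 834 184469 48600 834 h368 chk368
  have h370 := checkSteps_sound ladd (List.replicate 6 0) leq F Ev 8 524288 tw γ hfree htw q0 words 803 hw steps369 184469 48600 834 184969 48600 834 h369 chk369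
  have h371 := checkSteps_sound ladd (List.replicate 6 0) leq F Ev 8 524288 tw γ hfree htw q0 words 803 hw steps370 184969 48600 834 185469 48600 834 h370 chk370
  have h372 := checkSteps_sound ladd (List.replicate 6 0) leq F Ev 8 524288 tw γ hfree htw q0 words 803 hw steps371 185469 48600 834 185969 48600 834 h371 chk371
  have h373 := checkSteps_sound ladd (List.replicate 6 0) leq F Ev 8 524288 tw γ hfree htw q0 words 803 hw steps372 185969 48600 834 186469 48600 834 h372 chk372
  have h374 := checkSteps_sound ladd (List.replicate 6 0) leq F Ev 8 524288 tw γ hfree htw q0 words 803 hw steps373 186469 48600 834 186969 48600 834 h373 chk373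
  have h375 := checkSteps_sound ladd (List.replicate 6 0) leq F Ev 8 524288 tw γ hfree htw q0 words 803 hw steps374 186969 48600 834 187469 48600 834 h374 chk374
  have h376 := checkSteps_sound ladd (List.replicate 6 0) leq F Ev 8 524288 tw γ hfree htw q0 words 803 hw steps375 187469 48600 834 187969 48600 834 h375 chk375
  have h377 := checkSteps_sound ladd (List.replicate 6 0) leq F Ev 8 524288 tw γ hfree htw q0 words 803 hw steps376 187969 48600 834 188469 48600 834 h376 chk376
  have h378 := checkSteps_sound ladd (List.replicate 6 0) leq F Ev 8 524288 tw γ hfree htw q0 words 803 hw steps377 188469 48600 834 188969 48600 834 h377 chk377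
  have h379 := checkSteps_sound ladd (List.replicate 6 0) leq F Ev 8 524288 tw γ hfree htw q0 words 803 hw steps378 188969 48600 834 189469 48600 834 h378 chk378
  have h380 := checkSteps_sound ladd (List.replicate 6 0) leq F Ev 8 524288 tw γ hfree htw q0 words 803 hw steps379 189469 48600 834 189969 48600 834 h379 chk379
  have h381 := checkSteps_sound ladd (List.replicate 6 0) leq F Ev 8 524288 tw γ hfree htw q0 words 803 hw steps380 189969 48600 834 190469 48600 834 h380 chk380
  have h382 := checkSteps_sound ladd (List.replicate 6 0) leq F Ev 8 524288 tw γ hfree htw q0 words 803 hw steps381 190469 48600 834 190969 48600 834 h381 chk381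
  have h383 := checkSteps_sound ladd (List.replicate 6 0) leq F Ev 8 524288 tw γ hfree htw q0 words 803 hw steps382 190969 48600 834 191469 48600 834 h382 chk382
  have h384 := checkSteps_sound ladd (List.replicate 6 0) leq F Ev 8 524288 tw γ hfree htw q0 words 803 hw steps383 191469 48600 834 191969 48600 834 h383 chk383
  have h385 := checkSteps_sound ladd (List.replicate 6 0) leq F Ev 8 524288 tw γ hfree htw q0 words 803 hw steps384 191969 48600 834 192469 48600 834 h384 chk384
  have h386 := checkSteps_sound ladd (List.replicate 6 0) leq F Ev 8 524288 tw γ hfree htw q0 words 803 hw steps385 192469 48600 834 192969 48600 834 h385 chk385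
  have h387 := checkSteps_sound ladd (List.replicate 6 0) leq F Ev 8 524288 tw γ hfree htw q0 words 803 hw steps386 192969 48600 834 193469 48600 834 h386 chk386
  have h388 := checkSteps_sound ladd (List.replicate 6 0) leq F Ev 8 524288 tw γ hfree htw q0 words 803 hw steps387 193469 48600 834 193969 48600 834 h387 chk387
  have h389 := checkSteps_sound ladd (List.replicate 6 0) leq F Ev 8 524288 tw γ hfree htw q0 words 803 hw steps388 193969 48600 834 194469 48600 834 h388 chk388
  have h390 := checkSteps_sound ladd (List.replicate 6 0) leq F Ev 8 524288 tw γ hfree htw q0 words 803 hw steps389 194469 48600 834 194969 48600 834 h389 chk389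
  have h391 := checkSteps_sound ladd (List.replicate 6 0) leq F Ev 8 524288 tw γ hfree htw q0 words 803 hw steps390 194969 48600 834 195469 48600 834 h390 chk390
  have h392 := checkSteps_sound ladd (List.replicate 6 0) leq F Ev 8 524288 tw γ hfree htw q0 words 803 hw steps391 195469 48600 834 195969 48600 834 h391 chk391
  have h393 := checkSteps_sound ladd (List.replicate 6 0) leq F Ev 8 524288 tw γ hfree htw q0 words 803 hw steps392 195969 48600 834 196469 48600 834 h392 chk392
  have h394 := checkSteps_sound ladd (List.replicate 6 0) leq F Ev 8 524288 tw γ hfree htw q0 words 803 hw steps393 196469 48600 834 196969 48600 834 h393 chk393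
  have h395 := checkSteps_sound ladd (List.replicate 6 0) leq F Ev 8 524288 tw γ hfree htw q0 words 803 hw steps394 196969 48600 834 197469 48600 834 h394 chk394
  have h396 := checkSteps_sound ladd (List.replicate 6 0) leq F Ev 8 524288 tw γ hfree htw q0 words 803 hw steps395 197469 48600 834 197969 48600 834 h395 chk395
  have h397 := checkSteps_sound ladd (List.replicate 6 0) leq F Ev 8 524288 tw γ hfree htw q0 words 803 hw steps396 197969 48600 834 198469 48600 834 h396 chk396
  have h398 := checkSteps_sound ladd (List.replicate 6 0) leq F Ev 8 524288 tw γ hfree htw q0 words 803 hw steps397 198469 48600 834 198969 48600 834 h397 chk397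
  have h399 := checkSteps_sound ladd (List.replicate 6 0) leq F Ev 8 524288 tw γ hfree htw q0 words 803 hw steps398 198969 48600 834 199469 48600 834 h398 chk398
  have h400 := checkSteps_sound ladd (List.replicate 6 0) leq F Ev 8 524288 tw γ hfree htw q0 words 803 hw steps399 199469 48600 834 199969 48600 834 h399 chk399
  have h401 := checkSteps_sound ladd (List.replicate 6 0) leq F Ev 8 524288 tw γ hfree htw q0 words 803 hw steps400 199969 48600 834 200469 48600 834 h400 chk400
  have h402 := checkSteps_sound ladd (List.replicate 6 0) leq F Ev 8 524288 tw γ hfree htw q0 words 803 hw steps401 200469 48600 834 200969 48600 834 h401 chk401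
  have h403 := checkSteps_sound ladd (List.replicate 6 0) leq F Ev 8 524288 tw γ hfree htw q0 words 803 hw steps402 200969 48600 834 201469 48600 834 h402 chk402
  have h404 := checkSteps_sound ladd (List.replicate 6 0) leq F Ev 8 524288 tw γ hfree htw q0 words 803 hw steps403 201469 48600 834 201969 48600 834 h403 chk403
  have h405 := checkSteps_sound ladd (List.replicate 6 0) leq F Ev 8 524288 tw γ hfree htw q0 words 803 hw steps404 201969 48600 834 202469 48600 834 h404 chk404
  have h406 := checkSteps_sound ladd (List.replicate 6 0) leq F Ev 8 524288 tw γ hfree htw q0 words 803 hw steps405 202469 48600 834 202969 48600 834 h405 chk405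
  have h407 := checkSteps_sound ladd (List.replicate 6 0) leq F Ev 8 524288 tw γ hfree htw q0 words 803 hw steps406 202969 48600 834 203469 48600 834 h406 chk406
  have h408 := checkSteps_sound ladd (List.replicate 6 0) leq F Ev 8 524288 tw γ hfree htw q0 words 803 hw steps407 203469 48600 834 203969 48600 834 h407 chk407
  have h409 := checkSteps_sound ladd (List.replicate 6 0) leq F Ev 8 524288 tw γ hfree htw q0 words 803 hw steps408 203969 48600 834 204469 48600 834 h408 chk408
  have h410 := checkSteps_sound ladd (List.replicate 6 0) leq F Ev 8 524288 tw γ hfree htw q0 words 803 hw steps409 204469 48600 834 204969 48600 834 h409 chk409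
  have h411 := checkSteps_sound ladd (List.replicate 6 0) leq F Ev 8 524288 tw γ hfree htw q0 words 803 hw steps410 204969 48600 834 205469 48600 834 h410 chk410
  have h412 := checkSteps_sound ladd (List.replicate 6 0) leq F Ev 8 524288 tw γ hfree htw q0 words 803 hw steps411 205469 48600 834 205969 48600 834 h411 chk411
  have h413 := checkSteps_sound ladd (List.replicate 6 0) leq F Ev 8 524288 tw γ hfree htw q0 words 803 hw steps412 205969 48600 834 206469 48600 834 h412 chk412
  have h414 := checkSteps_sound ladd (List.replicate 6 0) leq F Ev 8 524288 tw γ hfree htw q0 words 803 hw steps413 206469 48600 834 206969 48600 834 h413 chk413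
  have h415 := checkSteps_sound ladd (List.replicate 6 0) leq F Ev 8 524288 tw γ hfree htw q0 words 803 hw steps414 206969 48600 834 207469 48600 834 h414 chk414
  have h416 := checkSteps_sound ladd (List.replicate 6 0) leq F Ev 8 524288 tw γ hfree htw q0 words 803 hw steps415 207469 48600 834 207969 48600 834 h415 chk415
  have h417 := checkSteps_sound ladd (List.replicate 6 0) leq F Ev 8 524288 tw γ hfree htw q0 words 803 hw steps416 207969 48600 834 208469 48600 834 h416 chk416
  have h418 := checkSteps_sound ladd (List.replicate 6 0) leq F Ev 8 524288 tw γ hfree htw q0 words 803 hw steps417 208469 48600 834 208969 48600 834 h417 chk417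
  have h419 := checkSteps_sound ladd (List.replicate 6 0) leq F Ev 8 524288 tw γ hfree htw q0 words 803 hw steps418 208969 48600 834 209469 48600 834 h418 chk418
  have h420 := checkSteps_sound ladd (List.replicate 6 0) leq F Ev 8 524288 tw γ hfree htw q0 words 803 hw steps419 209469 48600 834 209969 48600 834 h419 chk419
  have h421 := checkSteps_sound ladd (List.replicate 6 0) leq F Ev 8 524288 tw γ hfree htw q0 words 803 hw steps420 209969 48600 834 210469 48600 834 h420 chk420
  have h422 := checkSteps_sound ladd (List.replicate 6 0) leq F Ev 8 524288 tw γ hfree htw q0 words 803 hw steps421 210469 48600 834 210969 48600 834 h421 chk421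
  have h423 := checkSteps_sound ladd (List.replicate 6 0) leq F Ev 8 524288 tw γ hfree htw q0 words 803 hw steps422 210969 48600 834 211469 48600 834 h422 chk422
  have h424 := checkSteps_sound ladd (List.replicate 6 0) leq F Ev 8 524288 tw γ hfree htw q0 words 803 hw steps423 211469 48600 834 211969 48600 834 h423 chk423
  have h425 := checkSteps_sound ladd (List.replicate 6 0) leq F Ev 8 524288 tw γ hfree htw q0 words 803 hw steps424 211969 48600 834 212469 48600 834 h424 chk424
  have h426 := checkSteps_sound ladd (List.replicate 6 0) leq F Ev 8 524288 tw γ hfree htw q0 words 803 hw steps425 212469 48600 834 212969 48600 834 h425 chk425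
  have h427 := checkSteps_sound ladd (List.replicate 6 0) leq F Ev 8 524288 tw γ hfree htw q0 words 803 hw steps426 212969 48600 834 213469 48600 834 h426 chk426
  have h428 := checkSteps_sound ladd (List.replicate 6 0) leq F Ev 8 524288 tw γ hfree htw q0 words 803 hw steps427 213469 48600 834 213969 48600 834 h427 chk427
  have h429 := checkSteps_sound ladd (List.replicate 6 0) leq F Ev 8 524288 tw γ hfree htw q0 words 803 hw steps428 213969 48600 834 214469 48600 834 h428 chk428
  have h430 := checkSteps_sound ladd (List.replicate 6 0) leq F Ev 8 524288 tw γ hfree htw q0 words 803 hw steps429 214469 48600 834 214969 48600 834 h429 chk429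
  have h431 := checkSteps_sound ladd (List.replicate 6 0) leq F Ev 8 524288 tw γ hfree htw q0 words 803 hw steps430 214969 48600 834 215469 48600 834 h430 chk430
  have h432 := checkSteps_sound ladd (List.replicate 6 0) leq F Ev 8 524288 tw γ hfree htw q0 words 803 hw steps431 215469 48600 834 215969 48600 834 h431 chk431
  have h433 := checkSteps_sound ladd (List.replicate 6 0) leq F Ev 8 524288 tw γ hfree htw q0 words 803 hw steps432 215969 48600 834 216469 48600 834 h432 chk432
  have h434 := checkSteps_sound ladd (List.replicate 6 0) leq F Ev 8 524288 tw γ hfree htw q0 words 803 hw steps433 216469 48600 834 216969 48600 834 h433 chk433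
  have h435 := checkSteps_sound ladd (List.replicate 6 0) leq F Ev 8 524288 tw γ hfree htw q0 words 803 hw steps434 216969 48600 834 217469 48600 834 h434 chk434
  have h436 := checkSteps_sound ladd (List.replicate 6 0) leq F Ev 8 524288 tw γ hfree htw q0 words 803 hw steps435 217469 48600 834 217969 48600 834 h435 chk435
  have h437 := checkSteps_sound ladd (List.replicate 6 0) leq F Ev 8 524288 tw γ hfree htw q0 words 803 hw steps436 217969 48600 834 218469 48600 834 h436 chk436
  have h438 := checkSteps_sound ladd (List.replicate 6 0) leq F Ev 8 524288 tw γ hfree htw q0 words 803 hw steps437 218469 48600 834 218969 48600 834 h437 chk437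
  have h439 := checkSteps_sound ladd (List.replicate 6 0) leq F Ev 8 524288 tw γ hfree htw q0 words 803 hw steps438 218969 48600 834 219469 48600 834 h438 chk438
  have h440 := checkSteps_sound ladd (List.replicate 6 0) leq F Ev 8 524288 tw γ hfree htw q0 words 803 hw steps439 219469 48600 834 219968 48600 835 h439 chk439
  have h441 := checkSteps_sound ladd (List.replicate 6 0) leq F Ev 8 524288 tw γ hfree htw q0 words 803 hw steps440 219968 48600 835 220468 48600 835 h440 chk440
  have h442 := checkSteps_sound ladd (List.replicate 6 0) leq F Ev 8 524288 tw γ hfree htw q0 words 803 hw steps441 220468 48600 835 220968 48600 835 h441 chk441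
  have h443 := checkSteps_sound ladd (List.replicate 6 0) leq F Ev 8 524288 tw γ hfree htw q0 words 803 hw steps442 220968 48600 835 221468 48600 835 h442 chk442
  have h444 := checkSteps_sound ladd (List.replicate 6 0) leq F Ev 8 524288 tw γ hfree htw q0 words 803 hw steps443 221468 48600 835 221968 48600 835 h443 chk443
  have h445 := checkSteps_sound ladd (List.replicate 6 0) leq F Ev 8 524288 tw γ hfree htw q0 words 803 hw steps444 221968 48600 835 222468 48600 835 h444 chk444
  have h446 := checkSteps_sound ladd (List.replicate 6 0) leq F Ev 8 524288 tw γ hfree htw q0 words 803 hw steps445 222468 48600 835 222968 48600 835 h445 chk445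
  have h447 := checkSteps_sound ladd (List.replicate 6 0) leq F Ev 8 524288 tw γ hfree htw q0 words 803 hw steps446 222968 48600 835 223466 48600 837 h446 chk446
  have h448 := checkSteps_sound ladd (List.replicate 6 0) leq F Ev 8 524288 tw γ hfree htw q0 words 803 hw steps447 223466 48600 837 223957 48600 846 h447 chk447
  have h449 := checkSteps_sound ladd (List.replicate 6 0) leq F Ev 8 524288 tw γ hfree htw q0 words 803 hw steps448 223957 48600 846 224457 48600 846 h448 chk448
  have h450 := checkSteps_sound ladd (List.replicate 6 0) leq F Ev 8 524288 tw γ hfree htw q0 words 803 hw steps449 224457 48600 846 224957 48600 846 h449 chk449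
  have h451 := checkSteps_sound ladd (List.replicate 6 0) leq F Ev 8 524288 tw γ hfree htw q0 words 803 hw steps450 224957 48600 846 225457 48600 846 h450 chk450
  have h452 := checkSteps_sound ladd (List.replicate 6 0) leq F Ev 8 524288 tw γ hfree htw q0 words 803 hw steps451 225457 48600 846 225957 48600 846 h451 chk451
  have h453 := checkSteps_sound ladd (List.replicate 6 0) leq F Ev 8 524288 tw γ hfree htw q0 words 803 hw steps452 225957 48600 846 226457 48600 846 h452 chk452
  have h454 := checkSteps_sound ladd (List.replicate 6 0) leq F Ev 8 524288 tw γ hfree htw q0 words 803 hw steps453 226457 48600 846 226957 48600 846 h453 chk453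
  have h455 := checkSteps_sound ladd (List.replicate 6 0) leq F Ev 8 524288 tw γ hfree htw q0 words 803 hw steps454 226957 48600 846 227457 48600 846 h454 chk454
  have h456 := checkSteps_sound ladd (List.replicate 6 0) leq F Ev 8 524288 tw γ hfree htw q0 words 803 hw steps455 227457 48600 846 227957 48600 846 h455 chk455
  have h457 := checkSteps_sound ladd (List.replicate 6 0) leq F Ev 8 524288 tw γ hfree htw q0 words 803 hw steps456 227957 48600 846 228457 48600 846 h456 chk456
  have h458 := checkSteps_sound ladd (List.replicate 6 0) leq F Ev 8 524288 tw γ hfree htw q0 words 803 hw steps457 228457 48600 846 228957 48600 846 h457 chk457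
  have h459 := checkSteps_sound ladd (List.replicate 6 0) leq F Ev 8 524288 tw γ hfree htw q0 words 803 hw steps458 228957 48600 846 229457 48600 846 h458 chk458
  have h460 := checkSteps_sound ladd (List.replicate 6 0) leq F Ev 8 524288 tw γ hfree htw q0 words 803 hw steps459 229457 48600 846 229957 48600 846 h459 chk459
  have h461 := checkSteps_sound ladd (List.replicate 6 0) leq F Ev 8 524288 tw γ hfree htw q0 words 803 hw steps460 229957 48600 846 230457 48600 846 h460 chk460
  have h462 := checkSteps_sound ladd (List.replicate 6 0) leq F Ev 8 524288 tw γ hfree htw q0 words 803 hw steps461 230457 48600 846 230957 48600 846 h461 chk461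
  have h463 := checkSteps_sound ladd (List.replicate 6 0) leq F Ev 8 524288 tw γ hfree htw q0 words 803 hw steps462 230957 48600 846 231457 48600 846 h462 chk462
  have h464 := checkSteps_sound ladd (List.replicate 6 0) leq F Ev 8 524288 tw γ hfree htw q0 words 803 hw steps463 231457 48600 846 231957 48600 846 h463 chk463
  have h465 := checkSteps_sound ladd (List.replicate 6 0) leq F Ev 8 524288 tw γ hfree htw q0 words 803 hw steps464 231957 48600 846 232457 48600 846 h464 chk464
  have h466 := checkSteps_sound ladd (List.replicate 6 0) leq F Ev 8 524288 tw γ hfree htw q0 words 803 hw steps465 232457 48600 846 232957 48600 846 h465 chk465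
  have h467 := checkSteps_sound ladd (List.replicate 6 0) leq F Ev 8 524288 tw γ hfree htw q0 words 803 hw steps466 232957 48600 846 233457 48600 846 h466 chk466
  have h468 := checkSteps_sound ladd (List.replicate 6 0) leq F Ev 8 524288 tw γ hfree htw q0 words 803 hw steps467 233457 48600 846 233957 48600 846 h467 chk467
  have h469 := checkSteps_sound ladd (List.replicate 6 0) leq F Ev 8 524288 tw γ hfree htw q0 words 803 hw steps468 233957 48600 846 234457 48600 846 h468 chk468
  have h470 := checkSteps_sound ladd (List.replicate 6 0) leq F Ev 8 524288 tw γ hfree htw q0 words 803 hw steps469 234457 48600 846 234957 48600 846 h469 chk469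
  have h471 := checkSteps_sound ladd (List.replicate 6 0) leq F Ev 8 524288 tw γ hfree htw q0 words 803 hw steps470 234957 48600 846 235457 48600 846 h470 chk470
  have h472 := checkSteps_sound ladd (List.replicate 6 0) leq F Ev 8 524288 tw γ hfree htw q0 words 803 hw steps471 235457 48600 846 235957 48600 846 h471 chk471
  have h473 := checkSteps_sound ladd (List.replicate 6 0) leq F Ev 8 524288 tw γ hfree htw q0 words 803 hw steps472 235957 48600 846 236457 48600 846 h472 chk472
  have h474 := checkSteps_sound ladd (List.replicate 6 0) leq F Ev 8 524288 tw γ hfree htw q0 words 803 hw steps473 236457 48600 846 236957 48600 846 h473 chk473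
  have h475 := checkSteps_sound ladd (List.replicate 6 0) leq F Ev 8 524288 tw γ hfree htw q0 words 803 hw steps474 236957 48600 846 237457 48600 846 h474 chk474
  have h476 := checkSteps_sound ladd (List.replicate 6 0) leq F Ev 8 524288 tw γ hfree htw q0 words 803 hw steps475 237457 48600 846 237957 48600 846 h475 chk475
  have h477 := checkSteps_sound ladd (List.replicate 6 0) leq F Ev 8 524288 tw γ hfree htw q0 words 803 hw steps476 237957 48600 846 238457 48600 846 h476 chk476
  have h478 := checkSteps_sound ladd (List.replicate 6 0) leq F Ev 8 524288 tw γ hfree htw q0 words 803 hw steps477 238457 48600 846 238957 48600 846 h477 chk477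
  have h479 := checkSteps_sound ladd (List.replicate 6 0) leq F Ev 8 524288 tw γ hfree htw q0 words 803 hw steps478 238957 48600 846 239457 48600 846 h478 chk478
  have h480 := checkSteps_sound ladd (List.replicate 6 0) leq F Ev 8 524288 tw γ hfree htw q0 words 803 hw steps479 239457 48600 846 239957 48600 846 h479 chk479
  have h481 := checkSteps_sound ladd (List.replicate 6 0) leq F Ev 8 524288 tw γ hfree htw q0 words 803 hw steps480 239957 48600 846 240457 48600 846 h480 chk480
  have h482 := checkSteps_sound ladd (List.replicate 6 0) leq F Ev 8 524288 tw γ hfree htw q0 words 803 hw steps481 240457 48600 846 240957 48600 846 h481 chk481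
  have h483 := checkSteps_sound ladd (List.replicate 6 0) leq F Ev 8 524288 tw γ hfree htw q0 words 803 hw steps482 240957 48600 846 241457 48600 846 h482 chk482
  have h484 := checkSteps_sound ladd (List.replicate 6 0) leq F Ev 8 524288 tw γ hfree htw q0 words 803 hw steps483 241457 48600 846 241957 48600 846 h483 chk483
  have h485 := checkSteps_sound ladd (List.replicate 6 0) leq F Ev 8 524288 tw γ hfree htw q0 words 803 hw steps484 241957 48600 846 242457 48600 846 h484 chk484
  have h486 := checkSteps_sound ladd (List.replicate 6 0) leq F Ev 8 524288 tw γ hfree htw q0 words 803 hw steps485 242457 48600 846 242957 48600 846 h485 chk485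
  have h487 := checkSteps_sound ladd (List.replicate 6 0) leq F Ev 8 524288 tw γ hfree htw q0 words 803 hw steps486 242957 48600 846 243457 48600 846 h486 chk486
  have h488 := checkSteps_sound ladd (List.replicate 6 0) leq F Ev 8 524288 tw γ hfree htw q0 words 803 hw steps487 243457 48600 846 243957 48600 846 h487 chk487
  have h489 := checkSteps_sound ladd (List.replicate 6 0) leq F Ev 8 524288 tw γ hfree htw q0 words 803 hw steps488 243957 48600 846 244457 48600 846 h488 chk488
  have h490 := checkSteps_sound ladd (List.replicate 6 0) leq F Ev 8 524288 tw γ hfree htw q0 words 803 hw steps489 244457 48600 846 244957 48600 846 h489 chk489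
  have h491 := checkSteps_sound ladd (List.replicate 6 0) leq F Ev 8 524288 tw γ hfree htw q0 words 803 hw steps490 244957 48600 846 245457 48600 846 h490 chk490
  have h492 := checkSteps_sound ladd (List.replicate 6 0) leq F Ev 8 524288 tw γ hfree htw q0 words 803 hw steps491 245457 48600 846 245957 48600 846 h491 chk491
  have h493 := checkSteps_sound ladd (List.replicate 6 0) leq F Ev 8 524288 tw γ hfree htw q0 words 803 hw steps492 245957 48600 846 246457 48600 846 h492 chk492
  have h494 := checkSteps_sound ladd (List.replicate 6 0) leq F Ev 8 524288 tw γ hfree htw q0 words 803 hw steps493 246457 48600 846 246957 48600 846 h493 chk493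
  have h495 := checkSteps_sound ladd (List.replicate 6 0) leq F Ev 8 524288 tw γ hfree htw q0 words 803 hw steps494 246957 48600 846 247457 48600 846 h494 chk494
  have h496 := checkSteps_sound ladd (List.replicate 6 0) leq F Ev 8 524288 tw γ hfree htw q0 words 803 hw steps495 247457 48600 846 247957 48600 846 h495 chk495
  have h497 := checkSteps_sound ladd (List.replicate 6 0) leq F Ev 8 524288 tw γ hfree htw q0 words 803 hw steps496 247957 48600 846 248457 48600 846 h496 chk496
  have h498 := checkSteps_sound ladd (List.replicate 6 0) leq F Ev 8 524288 tw γ hfree htw q0 words 803 hw steps497 248457 48600 846 248957 48600 846 h497 chk497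
  have h499 := checkSteps_sound ladd (List.replicate 6 0) leq F Ev 8 524288 tw γ hfree htw q0 words 803 hw steps498 248957 48600 846 249457 48600 846 h498 chk498
  have h500 := checkSteps_sound ladd (List.replicate 6 0) leq F Ev 8 524288 tw γ hfree htw q0 words 803 hw steps499 249457 48600 846 249957 48600 846 h499 chk499
  have h501 := checkSteps_sound ladd (List.replicate 6 0) leq F Ev 8 524288 tw γ hfree htw q0 words 803 hw steps500 249957 48600 846 250457 48600 846 h500 chk500
  have h502 := checkSteps_sound ladd (List.replicate 6 0) leq F Ev 8 524288 tw γ hfree htw q0 words 803 hw steps501 250457 48600 846 250957 48600 846 h501 chk501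
  have h503 := checkSteps_sound ladd (List.replicate 6 0) leq F Ev 8 524288 tw γ hfree htw q0 words 803 hw steps502 250957 48600 846 251457 48600 846 h502 chk502
  have h504 := checkSteps_sound ladd (List.replicate 6 0) leq F Ev 8 524288 tw γ hfree htw q0 words 803 hw steps503 251457 48600 846 251957 48600 846 h503 chk503
  have h505 := checkSteps_sound ladd (List.replicate 6 0) leq F Ev 8 524288 tw γ hfree htw q0 words 803 hw steps504 251957 48600 846 252457 48600 846 h504 chk504
  have h506 := checkSteps_sound ladd (List.replicate 6 0) leq F Ev 8 524288 tw γ hfree htw q0 words 803 hw steps505 252457 48600 846 252957 48600 846 h505 chk505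
  have h507 := checkSteps_sound ladd (List.replicate 6 0) leq F Ev 8 524288 tw γ hfree htw q0 words 803 hw steps506 252957 48600 846 253457 48600 846 h506 chk506
  have h508 := checkSteps_sound ladd (List.replicate 6 0) leq F Ev 8 524288 tw γ hfree htw q0 words 803 hw steps507 253457 48600 846 253957 48600 846 h507 chk507
  have h509 := checkSteps_sound ladd (List.replicate 6 0) leq F Ev 8 524288 tw γ hfree htw q0 words 803 hw steps508 253957 48600 846 254457 48600 846 h508 chk508
  have h510 := checkSteps_sound ladd (List.replicate 6 0) leq F Ev 8 524288 tw γ hfree htw q0 words 803 hw steps509 254457 48600 846 254957 48600 846 h509 chk509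
  have h511 := checkSteps_sound ladd (List.replicate 6 0) leq F Ev 8 524288 tw γ hfree htw q0 words 803 hw steps510 254957 48600 846 255457 48600 846 h510 chk510
  have h512 := checkSteps_sound ladd (List.replicate 6 0) leq F Ev 8 524288 tw γ hfree htw q0 words 803 hw steps511 255457 48600 846 255957 48600 846 h511 chk511
  have h513 := checkSteps_sound ladd (List.replicate 6 0) leq F Ev 8 524288 tw γ hfree htw q0 words 803 hw steps512 255957 48600 846 256457 48600 846 h512 chk512
  have h514 := checkSteps_sound ladd (List.replicate 6 0) leq F Ev 8 524288 tw γ hfree htw q0 words 803 hw steps513 256457 48600 846 256957 48600 846 h513 chk513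
  have h515 := checkSteps_sound ladd (List.replicate 6 0) leq F Ev 8 524288 tw γ hfree htw q0 words 803 hw steps514 256957 48600 846 257457 48600 846 h514 chk514
  have h516 := checkSteps_sound ladd (List.replicate 6 0) leq F Ev 8 524288 tw γ hfree htw q0 words 803 hw steps515 257457 48600 846 257957 48600 846 h515 chk515
  have h517 := checkSteps_sound ladd (List.replicate 6 0) leq F Ev 8 524288 tw γ hfree htw q0 words 803 hw steps516 257957 48600 846 258457 48600 846 h516 chk516
  have h518 := checkSteps_sound ladd (List.replicate 6 0) leq F Ev 8 524288 tw γ hfree htw q0 words 803 hw steps517 258457 48600 846 258957 48600 846 h517 chk517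
  have h519 := checkSteps_sound ladd (List.replicate 6 0) leq F Ev 8 524288 tw γ hfree htw q0 words 803 hw steps518 258957 48600 846 259457 48600 846 h518 chk518
  have h520 := checkSteps_sound ladd (List.replicate 6 0) leq F Ev 8 524288 tw γ hfree htw q0 words 803 hw steps519 259457 48600 846 259957 48600 846 h519 chk519
  have h521 := checkSteps_sound ladd (List.replicate 6 0) leq F Ev 8 524288 tw γ hfree htw q0 words 803 hw steps520 259957 48600 846 260457 48600 846 h520 chk520
  have h522 := checkSteps_sound ladd (List.replicate 6 0) leq F Ev 8 524288 tw γ hfree htw q0 words 803 hw steps521 260457 48600 846 260957 48600 846 h521 chk521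
  have h523 := checkSteps_sound ladd (List.replicate 6 0) leq F Ev 8 524288 tw γ hfree htw q0 words 803 hw steps522 260957 48600 846 261457 48600 846 h522 chk522
  have h524 := checkSteps_sound ladd (List.replicate 6 0) leq F Ev 8 524288 tw γ hfree htw q0 words 803 hw steps523 261457 48600 846 261957 48600 846 h523 chk523
  have h525 := checkSteps_sound ladd (List.replicate 6 0) leq F Ev 8 524288 tw γ hfree htw q0 words 803 hw steps524 261957 48600 846 262457 48600 846 h524 chk524
  have h526 := checkSteps_sound ladd (List.replicate 6 0) leq F Ev 8 524288 tw γ hfree htw q0 words 803 hw steps525 262457 48600 846 262957 48600 846 h525 chk525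
  have h527 := checkSteps_sound ladd (List.replicate 6 0) leq F Ev 8 524288 tw γ hfree htw q0 words 803 hw steps526 262957 48600 846 263457 48600 846 h526 chk526
  have h528 := checkSteps_sound ladd (List.replicate 6 0) leq F Ev 8 524288 tw γ hfree htw q0 words 803 hw steps527 263457 48600 846 263957 48600 846 h527 chk527
  have h529 := checkSteps_sound ladd (List.replicate 6 0) leq F Ev 8 524288 tw γ hfree htw q0 words 803 hw steps528 263957 48600 846 264457 48600 846 h528 chk528
  have h530 := checkSteps_sound ladd (List.replicate 6 0) leq F Ev 8 524288 tw γ hfree htw q0 words 803 hw steps529 264457 48600 846 264957 48600 846 h529 chk529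
  have h531 := checkSteps_sound ladd (List.replicate 6 0) leq F Ev 8 524288 tw γ hfree htw q0 words 803 hw steps530 264957 48600 846 265457 48600 846 h530 chk530
  have h532 := checkSteps_sound ladd (List.replicate 6 0) leq F Ev 8 524288 tw γ hfree htw q0 words 803 hw steps531 265457 48600 846 265957 48600 846 h531 chk531
  have h533 := checkSteps_sound ladd (List.replicate 6 0) leq F Ev 8 524288 tw γ hfree htw q0 words 803 hw steps532 265957 48600 846 266457 48600 846 h532 chk532
  have h534 := checkSteps_sound ladd (List.replicate 6 0) leq F Ev 8 524288 tw γ hfree htw q0 words 803 hw steps533 266457 48600 846 266957 48600 846 h533 chk533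
  have h535 := checkSteps_sound ladd (List.replicate 6 0) leq F Ev 8 524288 tw γ hfree htw q0 words 803 hw steps534 266957 48600 846 267457 48600 846 h534 chk534
  have h536 := checkSteps_sound ladd (List.replicate 6 0) leq F Ev 8 524288 tw γ hfree htw q0 words 803 hw steps535 267457 48600 846 267957 48600 846 h535 chk535
  have h537 := checkSteps_sound ladd (List.replicate 6 0) leq F Ev 8 524288 tw γ hfree htw q0 words 803 hw steps536 267957 48600 846 268457 48600 846 h536 chk536
  have h538 := checkSteps_sound ladd (List.replicate 6 0) leq F Ev 8 524288 tw γ hfree htw q0 words 803 hw steps537 268457 48600 846 268957 48600 846 h537 chk537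
  have h539 := checkSteps_sound ladd (List.replicate 6 0) leq F Ev 8 524288 tw γ hfree htw q0 words 803 hw steps538 268957 48600 846 269457 48600 846 h538 chk538
  have h540 := checkSteps_sound ladd (List.replicate 6 0) leq F Ev 8 524288 tw γ hfree htw q0 words 803 hw steps539 269457 48600 846 269957 48600 846 h539 chk539
  have h541 := checkSteps_sound ladd (List.replicate 6 0) leq F Ev 8 524288 tw γ hfree htw q0 words 803 hw steps540 269957 48600 846 270457 48600 846 h540 chk540
  have h542 := checkSteps_sound ladd (List.replicate 6 0) leq F Ev 8 524288 tw γ hfree htw q0 words 803 hw steps541 270457 48600 846 270957 48600 846 h541 chk541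
  have h543 := checkSteps_sound ladd (List.replicate 6 0) leq F Ev 8 524288 tw γ hfree htw q0 words 803 hw steps542 270957 48600 846 271457 48600 846 h542 chk542
  have h544 := checkSteps_sound ladd (List.replicate 6 0) leq F Ev 8 524288 tw γ hfree htw q0 words 803 hw steps543 271457 48600 846 271957 48600 846 h543 chk543
  have h545 := checkSteps_sound ladd (List.replicate 6 0) leq F Ev 8 524288 tw γ hfree htw q0 words 803 hw steps544 271957 48600 846 272457 48600 846 h544 chk544
  have h546 := checkSteps_sound ladd (List.replicate 6 0) leq F Ev 8 524288 tw γ hfree htw q0 words 803 hw steps545 272457 48600 846 272957 48600 846 h545 chk545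
  have h547 := checkSteps_sound ladd (List.replicate 6 0) leq F Ev 8 524288 tw γ hfree htw q0 words 803 hw steps546 272957 48600 846 273457 48600 846 h546 chk546
  have h548 := checkSteps_sound ladd (List.replicate 6 0) leq F Ev 8 524288 tw γ hfree htw q0 words 803 hw steps547 273457 48600 846 273957 48600 846 h547 chk547
  have h549 := checkSteps_sound ladd (List.replicate 6 0) leq F Ev 8 524288 tw γ hfree htw q0 words 803 hw steps548 273957 48600 846 274457 48600 846 h548 chk548
  have h550 := checkSteps_sound ladd (List.replicate 6 0) leq F Ev 8 524288 tw γ hfree htw q0 words 803 hw steps549 274457 48600 846 274957 48600 846 h549 chk549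
  have h551 := checkSteps_sound ladd (List.replicate 6 0) leq F Ev 8 524288 tw γ hfree htw q0 words 803 hw steps550 274957 48600 846 275457 48600 846 h550 chk550
  have h552 := checkSteps_sound ladd (List.replicate 6 0) leq F Ev 8 524288 tw γ hfree htw q0 words 803 hw steps551 275457 48600 846 275957 48600 846 h551 chk551
  have h553 := checkSteps_sound ladd (List.replicate 6 0) leq F Ev 8 524288 tw γ hfree htw q0 words 803 hw steps552 275957 48600 846 276457 48600 846 h552 chk552
  have h554 := checkSteps_sound ladd (List.replicate 6 0) leq F Ev 8 524288 tw γ hfree htw q0 words 803 hw steps553 276457 48600 846 276957 48600 846 h553 chk553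
  have h555 := checkSteps_sound ladd (List.replicate 6 0) leq F Ev 8 524288 tw γ hfree htw q0 words 803 hw steps554 276957 48600 846 277457 48600 846 h554 chk554
  have h556 := checkSteps_sound ladd (List.replicate 6 0) leq F Ev 8 524288 tw γ hfree htw q0 words 803 hw steps555 277457 48600 846 277957 48600 846 h555 chk555
  have h557 := checkSteps_sound ladd (List.replicate 6 0) leq F Ev 8 524288 tw γ hfree htw q0 words 803 hw steps556 277957 48600 846 278457 48600 846 h556 chk556
  have h558 := checkSteps_sound ladd (List.replicate 6 0) leq F Ev 8 524288 tw γ hfree htw q0 words 803 hw steps557 278457 48600 846 278957 48600 846 h557 chk557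
  have h559 := checkSteps_sound ladd (List.replicate 6 0) leq F Ev 8 524288 tw γ hfree htw q0 words 803 hw steps558 278957 48600 846 279457 48600 846 h558 chk558
  have h560 := checkSteps_sound ladd (List.replicate 6 0) leq F Ev 8 524288 tw γ hfree htw q0 words 803 hw steps559 279457 48600 846 279957 48600 846 h559 chk559
  have h561 := checkSteps_sound ladd (List.replicate 6 0) leq F Ev 8 524288 tw γ hfree htw q0 words 803 hw steps560 279957 48600 846 280445 48600 858 h560 chk560
  have h562 := checkSteps_sound ladd (List.replicate 6 0) leq F Ev 8 524288 tw γ hfree htw q0 words 803 hw steps561 280445 48600 858 280945 48600 858 h561 chk561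
  have h563 := checkSteps_sound ladd (List.replicate 6 0) leq F Ev 8 524288 tw γ hfree htw q0 words 803 hw steps562 280945 48600 858 281445 48600 858 h562 chk562
  have h564 := checkSteps_sound ladd (List.replicate 6 0) leq F Ev 8 524288 tw γ hfree htw q0 words 803 hw steps563 281445 48600 858 281945 48600 858 h563 chk563
  have h565 := checkSteps_sound ladd (List.replicate 6 0) leq F Ev 8 524288 tw γ hfree htw q0 words 803 hw steps564 281945 48600 858 282445 48600 858 h564 chk564
  have h566 := checkSteps_sound ladd (List.replicate 6 0) leq F Ev 8 524288 tw γ hfree htw q0 words 803 hw steps565 282445 48600 858 282945 48600 858 h565 chk565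
  have h567 := checkSteps_sound ladd (List.replicate 6 0) leq F Ev 8 524288 tw γ hfree htw q0 words 803 hw steps566 282945 48600 858 283445 48600 858 h566 chk566
  have h568 := checkSteps_sound ladd (List.replicate 6 0) leq F Ev 8 524288 tw γ hfree htw q0 words 803 hw steps567 283445 48600 858 283945 48600 858 h567 chk567
  have h569 := checkSteps_sound ladd (List.replicate 6 0) leq F Ev 8 524288 tw γ hfree htw q0 words 803 hw steps568 283945 48600 858 284445 48600 858 h568 chk568
  have h570 := checkSteps_sound ladd (List.replicate 6 0) leq F Ev 8 524288 tw γ hfree htw q0 words 803 hw steps569 284445 48600 858 284945 48600 858 h569 chk569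
  have h571 := checkSteps_sound ladd (List.replicate 6 0) leq F Ev 8 524288 tw γ hfree htw q0 words 803 hw steps570 284945 48600 858 285445 48600 858 h570 chk570
  have h572 := checkSteps_sound ladd (List.replicate 6 0) leq F Ev 8 524288 tw γ hfree htw q0 words 803 hw steps571 285445 48600 858 285945 48600 858 h571 chk571
  have h573 := checkSteps_sound ladd (List.replicate 6 0) leq F Ev 8 524288 tw γ hfree htw q0 words 803 hw steps572 285945 48600 858 286445 48600 858 h572 chk572
  have h574 := checkSteps_sound ladd (List.replicate 6 0) leq F Ev 8 524288 tw γ hfree htw q0 words 803 hw steps573 286445 48600 858 286945 48600 858 h573 chk573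
  have h575 := checkSteps_sound ladd (List.replicate 6 0) leq F Ev 8 524288 tw γ hfree htw q0 words 803 hw steps574 286945 48600 858 287445 48600 858 h574 chk574
  have h576 := checkSteps_sound ladd (List.replicate 6 0) leq F Ev 8 524288 tw γ hfree htw q0 words 803 hw steps575 287445 48600 858 287945 48600 858 h575 chk575
  have h577 := checkSteps_sound ladd (List.replicate 6 0) leq F Ev 8 524288 tw γ hfree htw q0 words 803 hw steps576 287945 48600 858 288445 48600 858 h576 chk576
  have h578 := checkSteps_sound ladd (List.replicate 6 0) leq F Ev 8 524288 tw γ hfree htw q0 words 803 hw steps577 288445 48600 858 288945 48600 858 h577 chk577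
  have h579 := checkSteps_sound ladd (List.replicate 6 0) leq F Ev 8 524288 tw γ hfree htw q0 words 803 hw steps578 288945 48600 858 289445 48600 858 h578 chk578
  have h580 := checkSteps_sound ladd (List.replicate 6 0) leq F Ev 8 524288 tw γ hfree htw q0 words 803 hw steps579 289445 48600 858 289945 48600 858 h579 chk579
  have h581 := checkSteps_sound ladd (List.replicate 6 0) leq F Ev 8 524288 tw γ hfree htw q0 words 803 hw steps580 289945 48600 858 290445 48600 858 h580 chk580
  have h582 := checkSteps_sound ladd (List.replicate 6 0) leq F Ev 8 524288 tw γ hfree htw q0 words 803 hw steps581 290445 48600 858 290945 48600 858 h581 chk581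
  have h583 := checkSteps_sound ladd (List.replicate 6 0) leq F Ev 8 524288 tw γ hfree htw q0 words 803 hw steps582 290945 48600 858 291445 48600 858 h582 chk582
  have h584 := checkSteps_sound ladd (List.replicate 6 0) leq F Ev 8 524288 tw γ hfree htw q0 words 803 hw steps583 291445 48600 858 291945 48600 858 h583 chk583
  have h585 := checkSteps_sound ladd (List.replicate 6 0) leq F Ev 8 524288 tw γ hfree htw q0 words 803 hw steps584 291945 48600 858 292445 48600 858 h584 chk584
  have h586 := checkSteps_sound ladd (List.replicate 6 0) leq F Ev 8 524288 tw γ hfree htw q0 words 803 hw steps585 292445 48600 858 292945 48600 858 h585 chk585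
  have h587 := checkSteps_sound ladd (List.replicate 6 0) leq F Ev 8 524288 tw γ hfree htw q0 words 803 hw steps586 292945 48600 858 293445 48600 858 h586 chk586
  have h588 := checkSteps_sound ladd (List.replicate 6 0) leq F Ev 8 524288 tw γ hfree htw q0 words 803 hw steps587 293445 48600 858 293945 48600 858 h587 chk587
  have h589 := checkSteps_sound ladd (List.replicate 6 0) leq F Ev 8 524288 tw γ hfree htw q0 words 803 hw steps588 293945 48600 858 294445 48600 858 h588 chk588
  have h590 := checkSteps_sound ladd (List.replicate 6 0) leq F Ev 8 524288 tw γ hfree htw q0 words 803 hw steps589 294445 48600 858 294945 48600 858 h589 chk589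
  have h591 := checkSteps_sound ladd (List.replicate 6 0) leq F Ev 8 524288 tw γ hfree htw q0 words 803 hw steps590 294945 48600 858 295445 48600 858 h590 chk590
  have h592 := checkSteps_sound ladd (List.replicate 6 0) leq F Ev 8 524288 tw γ hfree htw q0 words 803 hw steps591 295445 48600 858 295945 48600 858 h591 chk591
  have h593 := checkSteps_sound ladd (List.replicate 6 0) leq F Ev 8 524288 tw γ hfree htw q0 words 803 hw steps592 295945 48600 858 296445 48600 858 h592 chk592
  have h594 := checkSteps_sound ladd (List.replicate 6 0) leq F Ev 8 524288 tw γ hfree htw q0 words 803 hw steps593 296445 48600 858 296945 48600 858 h593 chk593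
  have h595 := checkSteps_sound ladd (List.replicate 6 0) leq F Ev 8 524288 tw γ hfree htw q0 words 803 hw steps594 296945 48600 858 297445 48600 858 h594 chk594
  have h596 := checkSteps_sound ladd (List.replicate 6 0) leq F Ev 8 524288 tw γ hfree htw q0 words 803 hw steps595 297445 48600 858 297945 48600 858 h595 chk595
  have h597 := checkSteps_sound ladd (List.replicate 6 0) leq F Ev 8 524288 tw γ hfree htw q0 words 803 hw steps596 297945 48600 858 298445 48600 858 h596 chk596
  have h598 := checkSteps_sound ladd (List.replicate 6 0) leq F Ev 8 524288 tw γ hfree htw q0 words 803 hw steps597 298445 48600 858 298945 48600 858 h597 chk597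
  have h599 := checkSteps_sound ladd (List.replicate 6 0) leq F Ev 8 524288 tw γ hfree htw q0 words 803 hw steps598 298945 48600 858 299445 48600 858 h598 chk598
  have h600 := checkSteps_sound ladd (List.replicate 6 0) leq F Ev 8 524288 tw γ hfree htw q0 words 803 hw steps599 299445 48600 858 299945 48600 858 h599 chk599
  have h601 := checkSteps_sound ladd (List.replicate 6 0) leq F Ev 8 524288 tw γ hfree htw q0 words 803 hw steps600 299945 48600 858 300445 48600 858 h600 chk600
  have h602 := checkSteps_sound ladd (List.replicate 6 0) leq F Ev 8 524288 tw γ hfree htw q0 words 803 hw steps601 300445 48600 858 300945 48600 858 h601 chk601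
  have h603 := checkSteps_sound ladd (List.replicate 6 0) leq F Ev 8 524288 tw γ hfree htw q0 words 803 hw steps602 300945 48600 858 301445 48600 858 h602 chk602
  have h604 := checkSteps_sound ladd (List.replicate 6 0) leq F Ev 8 524288 tw γ hfree htw q0 words 803 hw steps603 301445 48600 858 301945 48600 858 h603 chk603
  have h605 := checkSteps_sound ladd (List.replicate 6 0) leq F Ev 8 524288 tw γ hfree htw q0 words 803 hw steps604 301945 48600 858 302445 48600 858 h604 chk604
  have h606 := checkSteps_sound ladd (List.replicate 6 0) leq F Ev 8 524288 tw γ hfree htw q0 words 803 hw steps605 302445 48600 858 302945 48600 858 h605 chk605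
  have h607 := checkSteps_sound ladd (List.replicate 6 0) leq F Ev 8 524288 tw γ hfree htw q0 words 803 hw steps606 302945 48600 858 303445 48600 858 h606 chk606
  have h608 := checkSteps_sound ladd (List.replicate 6 0) leq F Ev 8 524288 tw γ hfree htw q0 words 803 hw steps607 303445 48600 858 303945 48600 858 h607 chk607
  have h609 := checkSteps_sound ladd (List.replicate 6 0) leq F Ev 8 524288 tw γ hfree htw q0 words 803 hw steps608 303945 48600 858 304445 48600 858 h608 chk608
  have h610 := checkSteps_sound ladd (List.replicate 6 0) leq F Ev 8 524288 tw γ hfree htw q0 words 803 hw steps609 304445 48600 858 304945 48600 858 h609 chk609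
  have h611 := checkSteps_sound ladd (List.replicate 6 0) leq F Ev 8 524288 tw γ hfree htw q0 words 803 hw steps610 304945 48600 858 305445 48600 858 h610 chk610
  have h612 := checkSteps_sound ladd (List.replicate 6 0) leq F Ev 8 524288 tw γ hfree htw q0 words 803 hw steps611 305445 48600 858 305945 48600 858 h611 chk611
  have h613 := checkSteps_sound ladd (List.replicate 6 0) leq F Ev 8 524288 tw γ hfree htw q0 words 803 hw steps612 305945 48600 858 306445 48600 858 h612 chk612
  have h614 := checkSteps_sound ladd (List.replicate 6 0) leq F Ev 8 524288 tw γ hfree htw q0 words 803 hw steps613 306445 48600 858 306945 48600 858 h613 chk613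
  have h615 := checkSteps_sound ladd (List.replicate 6 0) leq F Ev 8 524288 tw γ hfree htw q0 words 803 hw steps614 306945 48600 858 307445 48600 858 h614 chk614
  have h616 := checkSteps_sound ladd (List.replicate 6 0) leq F Ev 8 524288 tw γ hfree htw q0 words 803 hw steps615 307445 48600 858 307945 48600 858 h615 chk615
  have h617 := checkSteps_sound ladd (List.replicate 6 0) leq F Ev 8 524288 tw γ hfree htw q0 words 803 hw steps616 307945 48600 858 308445 48600 858 h616 chk616
  have h618 := checkSteps_sound ladd (List.replicate 6 0) leq F Ev 8 524288 tw γ hfree htw q0 words 803 hw steps617 308445 48600 858 308945 48600 858 h617 chk617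
  have h619 := checkSteps_sound ladd (List.replicate 6 0) leq F Ev 8 524288 tw γ hfree htw q0 words 803 hw steps618 308945 48600 858 309445 48600 858 h618 chk618
  have h620 := checkSteps_sound ladd (List.replicate 6 0) leq F Ev 8 524288 tw γ hfree htw q0 words 803 hw steps619 309445 48600 858 309945 48600 858 h619 chk619
  have h621 := checkSteps_sound ladd (List.replicate 6 0) leq F Ev 8 524288 tw γ hfree htw q0 words 803 hw steps620 309945 48600 858 310445 48600 858 h620 chk620
  have h622 := checkSteps_sound ladd (List.replicate 6 0) leq F Ev 8 524288 tw γ hfree htw q0 words 803 hw steps621 310445 48600 858 310945 48600 858 h621 chk621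
  have h623 := checkSteps_sound ladd (List.replicate 6 0) leq F Ev 8 524288 tw γ hfree htw q0 words 803 hw steps622 310945 48600 858 311445 48600 858 h622 chk622
  have h624 := checkSteps_sound ladd (List.replicate 6 0) leq F Ev 8 524288 tw γ hfree htw q0 words 803 hw steps623 311445 48600 858 311945 48600 858 h623 chk623
  have h625 := checkSteps_sound ladd (List.replicate 6 0) leq F Ev 8 524288 tw γ hfree htw q0 words 803 hw steps624 311945 48600 858 312445 48600 858 h624 chk624
  have h626 := checkSteps_sound ladd (List.replicate 6 0) leq F Ev 8 524288 tw γ hfree htw q0 words 803 hw steps625 312445 48600 858 312945 48600 858 h625 chk625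
  have h627 := checkSteps_sound ladd (List.replicate 6 0) leq F Ev 8 524288 tw γ hfree htw q0 words 803 hw steps626 312945 48600 858 313445 48600 858 h626 chk626
  have h628 := checkSteps_sound ladd (List.replicate 6 0) leq F Ev 8 524288 tw γ hfree htw q0 words 803 hw steps627 313445 48600 858 313945 48600 858 h627 chk627
  have h629 := checkSteps_sound ladd (List.replicate 6 0) leq F Ev 8 524288 tw γ hfree htw q0 words 803 hw steps628 313945 48600 858 314445 48600 858 h628 chk628
  have h630 := checkSteps_sound ladd (List.replicate 6 0) leq F Ev 8 524288 tw γ hfree htw q0 words 803 hw steps629 314445 48600 858 314945 48600 858 h629 chk629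
  have h631 := checkSteps_sound ladd (List.replicate 6 0) leq F Ev 8 524288 tw γ hfree htw q0 words 803 hw steps630 314945 48600 858 315445 48600 858 h630 chk630
  have h632 := checkSteps_sound ladd (List.replicate 6 0) leq F Ev 8 524288 tw γ hfree htw q0 words 803 hw steps631 315445 48600 858 315945 48600 858 h631 chk631
  have h633 := checkSteps_sound ladd (List.replicate 6 0) leq F Ev 8 524288 tw γ hfree htw q0 words 803 hw steps632 315945 48600 858 316445 48600 858 h632 chk632
  have h634 := checkSteps_sound ladd (List.replicate 6 0) leq F Ev 8 524288 tw γ hfree htw q0 words 803 hw steps633 316445 48600 858 316945 48600 858 h633 chk633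
  have h635 := checkSteps_sound ladd (List.replicate 6 0) leq F Ev 8 524288 tw γ hfree htw q0 words 803 hw steps634 316945 48600 858 317445 48600 858 h634 chk634
  have h636 := checkSteps_sound ladd (List.replicate 6 0) leq F Ev 8 524288 tw γ hfree htw q0 words 803 hw steps635 317445 48600 858 317945 48600 858 h635 chk635
  have h637 := checkSteps_sound ladd (List.replicate 6 0) leq F Ev 8 524288 tw γ hfree htw q0 words 803 hw steps636 317945 48600 858 318445 48600 858 h636 chk636
  have h638 := checkSteps_sound ladd (List.replicate 6 0) leq F Ev 8 524288 tw γ hfree htw q0 words 803 hw steps637 318445 48600 858 318945 48600 858 h637 chk637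
  have h639 := checkSteps_sound ladd (List.replicate 6 0) leq F Ev 8 524288 tw γ hfree htw q0 words 803 hw steps638 318945 48600 858 319445 48600 858 h638 chk638
  have h640 := checkSteps_sound ladd (List.replicate 6 0) leq F Ev 8 524288 tw γ hfree htw q0 words 803 hw steps639 319445 48600 858 319945 48600 858 h639 chk639
  have h641 := checkSteps_sound ladd (List.replicate 6 0) leq F Ev 8 524288 tw γ hfree htw q0 words 803 hw steps640 319945 48600 858 320445 48600 858 h640 chk640
  have h642 := checkSteps_sound ladd (List.replicate 6 0) leq F Ev 8 524288 tw γ hfree htw q0 words 803 hw steps641 320445 48600 858 320945 48600 858 h641 chk641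
  have h643 := checkSteps_sound ladd (List.replicate 6 0) leq F Ev 8 524288 tw γ hfree htw q0 words 803 hw steps642 320945 48600 858 321445 48600 858 h642 chk642
  have h644 := checkSteps_sound ladd (List.replicate 6 0) leq F Ev 8 524288 tw γ hfree htw q0 words 803 hw steps643 321445 48600 858 321945 48600 858 h643 chk643
  have h645 := checkSteps_sound ladd (List.replicate 6 0) leq F Ev 8 524288 tw γ hfree htw q0 words 803 hw steps644 321945 48600 858 322445 48600 858 h644 chk644
  have h646 := checkSteps_sound ladd (List.replicate 6 0) leq F Ev 8 524288 tw γ hfree htw q0 words 803 hw steps645 322445 48600 858 322945 48600 858 h645 chk645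
  have h647 := checkSteps_sound ladd (List.replicate 6 0) leq F Ev 8 524288 tw γ hfree htw q0 words 803 hw steps646 322945 48600 858 323443 48600 860 h646 chk646
  have h648 := checkSteps_sound ladd (List.replicate 6 0) leq F Ev 8 524288 tw γ hfree htw q0 words 803 hw steps647 323443 48600 860 323943 48600 860 h647 chk647
  have h649 := checkSteps_sound ladd (List.replicate 6 0) leq F Ev 8 524288 tw γ hfree htw q0 words 803 hw steps648 323943 48600 860 324443 48600 860 h648 chk648
  have h650 := checkSteps_sound ladd (List.replicate 6 0) leq F Ev 8 524288 tw γ hfree htw q0 words 803 hw steps649 324443 48600 860 324943 48600 860 h649 chk649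
  have h651 := checkSteps_sound ladd (List.replicate 6 0) leq F Ev 8 524288 tw γ hfree htw q0 words 803 hw steps650 324943 48600 860 325443 48600 860 h650 chk650
  have h652 := checkSteps_sound ladd (List.replicate 6 0) leq F Ev 8 524288 tw γ hfree htw q0 words 803 hw steps651 325443 48600 860 325943 48600 860 h651 chk651
  have h653 := checkSteps_sound ladd (List.replicate 6 0) leq F Ev 8 524288 tw γ hfree htw q0 words 803 hw steps652 325943 48600 860 326443 48600 860 h652 chk652
  have h654 := checkSteps_sound ladd (List.replicate 6 0) leq F Ev 8 524288 tw γ hfree htw q0 words 803 hw steps653 326443 48600 860 326943 48600 860 h653 chk653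
  have h655 := checkSteps_sound ladd (List.replicate 6 0) leq F Ev 8 524288 tw γ hfree htw q0 words 803 hw steps654 326943 48600 860 327443 48600 860 h654 chk654
  have h656 := checkSteps_sound ladd (List.replicate 6 0) leq F Ev 8 524288 tw γ hfree htw q0 words 803 hw steps655 327443 48600 860 327943 48600 860 h655 chk655
  have h657 := checkSteps_sound ladd (List.replicate 6 0) leq F Ev 8 524288 tw γ hfree htw q0 words 803 hw steps656 327943 48600 860 328443 48600 860 h656 chk656
  have h658 := checkSteps_sound ladd (List.replicate 6 0) leq F Ev 8 524288 tw γ hfree htw q0 words 803 hw steps657 328443 48600 860 328943 48600 860 h657 chk657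
  have h659 := checkSteps_sound ladd (List.replicate 6 0) leq F Ev 8 524288 tw γ hfree htw q0 words 803 hw steps658 328943 48600 860 329443 48600 860 h658 chk658
  have h660 := checkSteps_sound ladd (List.replicate 6 0) leq F Ev 8 524288 tw γ hfree htw q0 words 803 hw steps659 329443 48600 860 329943 48600 860 h659 chk659
  have h661 := checkSteps_sound ladd (List.replicate 6 0) leq F Ev 8 524288 tw γ hfree htw q0 words 803 hw steps660 329943 48600 860 330443 48600 860 h660 chk660
  have h662 := checkSteps_sound ladd (List.replicate 6 0) leq F Ev 8 524288 tw γ hfree htw q0 words 803 hw steps661 330443 48600 860 330943 48600 860 h661 chk661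
  have h663 := checkSteps_sound ladd (List.replicate 6 0) leq F Ev 8 524288 tw γ hfree htw q0 words 803 hw steps662 330943 48600 860 331443 48600 860 h662 chk662
  have h664 := checkSteps_sound ladd (List.replicate 6 0) leq F Ev 8 524288 tw γ hfree htw q0 words 803 hw steps663 331443 48600 860 331943 48600 860 h663 chk663
  have h665 := checkSteps_sound ladd (List.replicate 6 0) leq F Ev 8 524288 tw γ hfree htw q0 words 803 hw steps664 331943 48600 860 332443 48600 860 h664 chk664
  have h666 := checkSteps_sound ladd (List.replicate 6 0) leq F Ev 8 524288 tw γ hfree htw q0 words 803 hw steps665 332443 48600 860 332943 48600 860 h665 chk665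
  have h667 := checkSteps_sound ladd (List.replicate 6 0) leq F Ev 8 524288 tw γ hfree htw q0 words 803 hw steps666 332943 48600 860 333443 48600 860 h666 chk666
  have h668 := checkSteps_sound ladd (List.replicate 6 0) leq F Ev 8 524288 tw γ hfree htw q0 words 803 hw steps667 333443 48600 860 333943 48600 860 h667 chk667
  have h669 := checkSteps_sound ladd (List.replicate 6 0) leq F Ev 8 524288 tw γ hfree htw q0 words 803 hw steps668 333943 48600 860 334443 48600 860 h668 chk668
  have h670 := checkSteps_sound ladd (List.replicate 6 0) leq F Ev 8 524288 tw γ hfree htw q0 words 803 hw steps669 334443 48600 860 334943 48600 860 h669 chk669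
  have h671 := checkSteps_sound ladd (List.replicate 6 0) leq F Ev 8 524288 tw γ hfree htw q0 words 803 hw steps670 334943 48600 860 335443 48600 860 h670 chk670
  have h672 := checkSteps_sound ladd (List.replicate 6 0) leq F Ev 8 524288 tw γ hfree htw q0 words 803 hw steps671 335443 48600 860 335943 48600 860 h671 chk671
  have h673 := checkSteps_sound ladd (List.replicate 6 0) leq F Ev 8 524288 tw γ hfree htw q0 words 803 hw steps672 335943 48600 860 336443 48600 860 h672 chk672
  have h674 := checkSteps_sound ladd (List.replicate 6 0) leq F Ev 8 524288 tw γ hfree htw q0 words 803 hw steps673 336443 48600 860 336943 48600 860 h673 chk673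
  have h675 := checkSteps_sound ladd (List.replicate 6 0) leq F Ev 8 524288 tw γ hfree htw q0 words 803 hw steps674 336943 48600 860 337443 48600 860 h674 chk674
  have h676 := checkSteps_sound ladd (List.replicate 6 0) leq F Ev 8 524288 tw γ hfree htw q0 words 803 hw steps675 337443 48600 860 337943 48600 860 h675 chk675
  have h677 := checkSteps_sound ladd (List.replicate 6 0) leq F Ev 8 524288 tw γ hfree htw q0 words 803 hw steps676 337943 48600 860 338443 48600 860 h676 chk676
  have h678 := checkSteps_sound ladd (List.replicate 6 0) leq F Ev 8 524288 tw γ hfree htw q0 words 803 hw steps677 338443 48600 860 338943 48600 860 h677 chk677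
  have h679 := checkSteps_sound ladd (List.replicate 6 0) leq F Ev 8 524288 tw γ hfree htw q0 words 803 hw steps678 338943 48600 860 339443 48600 860 h678 chk678
  have h680 := checkSteps_sound ladd (List.replicate 6 0) leq F Ev 8 524288 tw γ hfree htw q0 words 803 hw steps679 339443 48600 860 339943 48600 860 h679 chk679
  have h681 := checkSteps_sound ladd (List.replicate 6 0) leq F Ev 8 524288 tw γ hfree htw q0 words 803 hw steps680 339943 48600 860 340443 48600 860 h680 chk680
  have h682 := checkSteps_sound ladd (List.replicate 6 0) leq F Ev 8 524288 tw γ hfree htw q0 words 803 hw steps681 340443 48600 860 340943 48600 860 h681 chk681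
  have h683 := checkSteps_sound ladd (List.replicate 6 0) leq F Ev 8 524288 tw γ hfree htw q0 words 803 hw steps682 340943 48600 860 341443 48600 860 h682 chk682
  have h684 := checkSteps_sound ladd (List.replicate 6 0) leq F Ev 8 524288 tw γ hfree htw q0 words 803 hw steps683 341443 48600 860 341943 48600 860 h683 chk683
  have h685 := checkSteps_sound ladd (List.replicate 6 0) leq F Ev 8 524288 tw γ hfree htw q0 words 803 hw steps684 341943 48600 860 342443 48600 860 h684 chk684
  have h686 := checkSteps_sound ladd (List.replicate 6 0) leq F Ev 8 524288 tw γ hfree htw q0 words 803 hw steps685 342443 48600 860 342943 48600 860 h685 chk685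
  have h687 := checkSteps_sound ladd (List.replicate 6 0) leq F Ev 8 524288 tw γ hfree htw q0 words 803 hw steps686 342943 48600 860 343443 48600 860 h686 chk686
  have h688 := checkSteps_sound ladd (List.replicate 6 0) leq F Ev 8 524288 tw γ hfree htw q0 words 803 hw steps687 343443 48600 860 343943 48600 860 h687 chk687
  have h689 := checkSteps_sound ladd (List.replicate 6 0) leq F Ev 8 524288 tw γ hfree htw q0 words 803 hw steps688 343943 48600 860 344443 48600 860 h688 chk688
  have h690 := checkSteps_sound ladd (List.replicate 6 0) leq F Ev 8 524288 tw γ hfree htw q0 words 803 hw steps689 344443 48600 860 344943 48600 860 h689 chk689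
  have h691 := checkSteps_sound ladd (List.replicate 6 0) leq F Ev 8 524288 tw γ hfree htw q0 words 803 hw steps690 344943 48600 860 345443 48600 860 h690 chk690
  have h692 := checkSteps_sound ladd (List.replicate 6 0) leq F Ev 8 524288 tw γ hfree htw q0 words 803 hw steps691 345443 48600 860 345943 48600 860 h691 chk691
  have h693 := checkSteps_sound ladd (List.replicate 6 0) leq F Ev 8 524288 tw γ hfree htw q0 words 803 hw steps692 345943 48600 860 346443 48600 860 h692 chk692
  have h694 := checkSteps_sound ladd (List.replicate 6 0) leq F Ev 8 524288 tw γ hfree htw q0 words 803 hw steps693 346443 48600 860 346943 48600 860 h693 chk693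
  have h695 := checkSteps_sound ladd (List.replicate 6 0) leq F Ev 8 524288 tw γ hfree htw q0 words 803 hw steps694 346943 48600 860 347443 48600 860 h694 chk694
  have h696 := checkSteps_sound ladd (List.replicate 6 0) leq F Ev 8 524288 tw γ hfree htw q0 words 803 hw steps695 347443 48600 860 347943 48600 860 h695 chk695
  have h697 := checkSteps_sound ladd (List.replicate 6 0) leq F Ev 8 524288 tw γ hfree htw q0 words 803 hw steps696 347943 48600 860 348443 48600 860 h696 chk696
  have h698 := checkSteps_sound ladd (List.replicate 6 0) leq F Ev 8 524288 tw γ hfree htw q0 words 803 hw steps697 348443 48600 860 348943 48600 860 h697 chk697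
  have h699 := checkSteps_sound ladd (List.replicate 6 0) leq F Ev 8 524288 tw γ hfree htw q0 words 803 hw steps698 348943 48600 860 349443 48600 860 h698 chk698
  have h700 := checkSteps_sound ladd (List.replicate 6 0) leq F Ev 8 524288 tw γ hfree htw q0 words 803 hw steps699 349443 48600 860 349943 48600 860 h699 chk699
  have h701 := checkSteps_sound ladd (List.replicate 6 0) leq F Ev 8 524288 tw γ hfree htw q0 words 803 hw steps700 349943 48600 860 350443 48600 860 h700 chk700
  have h702 := checkSteps_sound ladd (List.replicate 6 0) leq F Ev 8 524288 tw γ hfree htw q0 words 803 hw steps701 350443 48600 860 350943 48600 860 h701 chk701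
  have h703 := checkSteps_sound ladd (List.replicate 6 0) leq F Ev 8 524288 tw γ hfree htw q0 words 803 hw steps702 350943 48600 860 351443 48600 860 h702 chk702
  have h704 := checkSteps_sound ladd (List.replicate 6 0) leq F Ev 8 524288 tw γ hfree htw q0 words 803 hw steps703 351443 48600 860 351943 48600 860 h703 chk703
  have h705 := checkSteps_sound ladd (List.replicate 6 0) leq F Ev 8 524288 tw γ hfree htw q0 words 803 hw steps704 351943 48600 860 352443 48600 860 h704 chk704
  have h706 := checkSteps_sound ladd (List.replicate 6 0) leq F Ev 8 524288 tw γ hfree htw q0 words 803 hw steps705 352443 48600 860 352943 48600 860 h705 chk705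
  have h707 := checkSteps_sound ladd (List.replicate 6 0) leq F Ev 8 524288 tw γ hfree htw q0 words 803 hw steps706 352943 48600 860 353443 48600 860 h706 chk706
  have h708 := checkSteps_sound ladd (List.replicate 6 0) leq F Ev 8 524288 tw γ hfree htw q0 words 803 hw steps707 353443 48600 860 353943 48600 860 h707 chk707
  have h709 := checkSteps_sound ladd (List.replicate 6 0) leq F Ev 8 524288 tw γ hfree htw q0 words 803 hw steps708 353943 48600 860 354443 48600 860 h708 chk708
  have h710 := checkSteps_sound ladd (List.replicate 6 0) leq F Ev 8 524288 tw γ hfree htw q0 words 803 hw steps709 354443 48600 860 354943 48600 860 h709 chk709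
  have h711 := checkSteps_sound ladd (List.replicate 6 0) leq F Ev 8 524288 tw γ hfree htw q0 words 803 hw steps710 354943 48600 860 355443 48600 860 h710 chk710
  have h712 := checkSteps_sound ladd (List.replicate 6 0) leq F Ev 8 524288 tw γ hfree htw q0 words 803 hw steps711 355443 48600 860 355943 48600 860 h711 chk711
  have h713 := checkSteps_sound ladd (List.replicate 6 0) leq F Ev 8 524288 tw γ hfree htw q0 words 803 hw steps712 355943 48600 860 356443 48600 860 h712 chk712
  have h714 := checkSteps_sound ladd (List.replicate 6 0) leq F Ev 8 524288 tw γ hfree htw q0 words 803 hw steps713 356443 48600 860 356943 48600 860 h713 chk713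
  have h715 := checkSteps_sound ladd (List.replicate 6 0) leq F Ev 8 524288 tw γ hfree htw q0 words 803 hw steps714 356943 48600 860 357443 48600 860 h714 chk714
  have h716 := checkSteps_sound ladd (List.replicate 6 0) leq F Ev 8 524288 tw γ hfree htw q0 words 803 hw steps715 357443 48600 860 357943 48600 860 h715 chk715
  have h717 := checkSteps_sound ladd (List.replicate 6 0) leq F Ev 8 524288 tw γ hfree htw q0 words 803 hw steps716 357943 48600 860 358443 48600 860 h716 chk716
  have h718 := checkSteps_sound ladd (List.replicate 6 0) leq F Ev 8 524288 tw γ hfree htw q0 words 803 hw steps717 358443 48600 860 358943 48600 860 h717 chk717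
  have h719 := checkSteps_sound ladd (List.replicate 6 0) leq F Ev 8 524288 tw γ hfree htw q0 words 803 hw steps718 358943 48600 860 359443 48600 860 h718 chk718
  have h720 := checkSteps_sound ladd (List.replicate 6 0) leq F Ev 8 524288 tw γ hfree htw q0 words 803 hw steps719 359443 48600 860 359943 48600 860 h719 chk719
  have h721 := checkSteps_sound ladd (List.replicate 6 0) leq F Ev 8 524288 tw γ hfree htw q0 words 803 hw steps720 359943 48600 860 360443 48600 860 h720 chk720
  have h722 := checkSteps_sound ladd (List.replicate 6 0) leq F Ev 8 524288 tw γ hfree htw q0 words 803 hw steps721 360443 48600 860 360943 48600 860 h721 chk721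
  have h723 := checkSteps_sound ladd (List.replicate 6 0) leq F Ev 8 524288 tw γ hfree htw q0 words 803 hw steps722 360943 48600 860 361443 48600 860 h722 chk722
  have h724 := checkSteps_sound ladd (List.replicate 6 0) leq F Ev 8 524288 tw γ hfree htw q0 words 803 hw steps723 361443 48600 860 361943 48600 860 h723 chk723
  have h725 := checkSteps_sound ladd (List.replicate 6 0) leq F Ev 8 524288 tw γ hfree htw q0 words 803 hw steps724 361943 48600 860 362443 48600 860 h724 chk724
  have h726 := checkSteps_sound ladd (List.replicate 6 0) leq F Ev 8 524288 tw γ hfree htw q0 words 803 hw steps725 362443 48600 860 362943 48600 860 h725 chk725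
  have h727 := checkSteps_sound ladd (List.replicate 6 0) leq F Ev 8 524288 tw γ hfree htw q0 words 803 hw steps726 362943 48600 860 363443 48600 860 h726 chk726
  have h728 := checkSteps_sound ladd (List.replicate 6 0) leq F Ev 8 524288 tw γ hfree htw q0 words 803 hw steps727 363443 48600 860 363943 48600 860 h727 chk727
  have h729 := checkSteps_sound ladd (List.replicate 6 0) leq F Ev 8 524288 tw γ hfree htw q0 words 803 hw steps728 363943 48600 860 364443 48600 860 h728 chk728
  have h730 := checkSteps_sound ladd (List.replicate 6 0) leq F Ev 8 524288 tw γ hfree htw q0 words 803 hw steps729 364443 48600 860 364943 48600 860 h729 chk729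
  have h731 := checkSteps_sound ladd (List.replicate 6 0) leq F Ev 8 524288 tw γ hfree htw q0 words 803 hw steps730 364943 48600 860 365443 48600 860 h730 chk730
  have h732 := checkSteps_sound ladd (List.replicate 6 0) leq F Ev 8 524288 tw γ hfree htw q0 words 803 hw steps731 365443 48600 860 365943 48600 860 h731 chk731
  have h733 := checkSteps_sound ladd (List.replicate 6 0) leq F Ev 8 524288 tw γ hfree htw q0 words 803 hw steps732 365943 48600 860 366443 48600 860 h732 chk732
  have h734 := checkSteps_sound ladd (List.replicate 6 0) leq F Ev 8 524288 tw γ hfree htw q0 words 803 hw steps733 366443 48600 860 366943 48600 860 h733 chk733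
  have h735 := checkSteps_sound ladd (List.replicate 6 0) leq F Ev 8 524288 tw γ hfree htw q0 words 803 hw steps734 366943 48600 860 367443 48600 860 h734 chk734
  have h736 := checkSteps_sound ladd (List.replicate 6 0) leq F Ev 8 524288 tw γ hfree htw q0 words 803 hw steps735 367443 48600 860 367943 48600 860 h735 chk735
  have h737 := checkSteps_sound ladd (List.replicate 6 0) leq F Ev 8 524288 tw γ hfree htw q0 words 803 hw steps736 367943 48600 860 368443 48600 860 h736 chk736
  have h738 := checkSteps_sound ladd (List.replicate 6 0) leq F Ev 8 524288 tw γ hfree htw q0 words 803 hw steps737 368443 48600 860 368943 48600 860 h737 chk737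
  have h739 := checkSteps_sound ladd (List.replicate 6 0) leq F Ev 8 524288 tw γ hfree htw q0 words 803 hw steps738 368943 48600 860 369443 48600 860 h738 chk738
  have h740 := checkSteps_sound ladd (List.replicate 6 0) leq F Ev 8 524288 tw γ hfree htw q0 words 803 hw steps739 369443 48600 860 369943 48600 860 h739 chk739
  have h741 := checkSteps_sound ladd (List.replicate 6 0) leq F Ev 8 524288 tw γ hfree htw q0 words 803 hw steps740 369943 48600 860 370443 48600 860 h740 chk740
  have h742 := checkSteps_sound ladd (List.replicate 6 0) leq F Ev 8 524288 tw γ hfree htw q0 words 803 hw steps741 370443 48600 860 370943 48600 860 h741 chk741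
  have h743 := checkSteps_sound ladd (List.replicate 6 0) leq F Ev 8 524288 tw γ hfree htw q0 words 803 hw steps742 370943 48600 860 371443 48600 860 h742 chk742
  have h744 := checkSteps_sound ladd (List.replicate 6 0) leq F Ev 8 524288 tw γ hfree htw q0 words 803 hw steps743 371443 48600 860 371943 48600 860 h743 chk743
  have h745 := checkSteps_sound ladd (List.replicate 6 0) leq F Ev 8 524288 tw γ hfree htw q0 words 803 hw steps744 371943 48600 860 372443 48600 860 h744 chk744
  have h746 := checkSteps_sound ladd (List.replicate 6 0) leq F Ev 8 524288 tw γ hfree htw q0 words 803 hw steps745 372443 48600 860 372943 48600 860 h745 chk745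
  have h747 := checkSteps_sound ladd (List.replicate 6 0) leq F Ev 8 524288 tw γ hfree htw q0 words 803 hw steps746 372943 48600 860 373443 48600 860 h746 chk746
  have h748 := checkSteps_sound ladd (List.replicate 6 0) leq F Ev 8 524288 tw γ hfree htw q0 words 803 hw steps747 373443 48600 860 373943 48600 860 h747 chk747
  have h749 := checkSteps_sound ladd (List.replicate 6 0) leq F Ev 8 524288 tw γ hfree htw q0 words 803 hw steps748 373943 48600 860 374443 48600 860 h748 chk748
  have h750 := checkSteps_sound ladd (List.replicate 6 0) leq F Ev 8 524288 tw γ hfree htw q0 words 803 hw steps749 374443 48600 860 374943 48600 860 h749 chk749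
  have h751 := checkSteps_sound ladd (List.replicate 6 0) leq F Ev 8 524288 tw γ hfree htw q0 words 803 hw steps750 374943 48600 860 375443 48600 860 h750 chk750
  have h752 := checkSteps_sound ladd (List.replicate 6 0) leq F Ev 8 524288 tw γ hfree htw q0 words 803 hw steps751 375443 48600 860 375943 48600 860 h751 chk751
  have h753 := checkSteps_sound ladd (List.replicate 6 0) leq F Ev 8 524288 tw γ hfree htw q0 words 803 hw steps752 375943 48600 860 376443 48600 860 h752 chk752
  have h754 := checkSteps_sound ladd (List.replicate 6 0) leq F Ev 8 524288 tw γ hfree htw q0 words 803 hw steps753 376443 48600 860 376943 48600 860 h753 chk753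
  have h755 := checkSteps_sound ladd (List.replicate 6 0) leq F Ev 8 524288 tw γ hfree htw q0 words 803 hw steps754 376943 48600 860 377443 48600 860 h754 chk754
  have h756 := checkSteps_sound ladd (List.replicate 6 0) leq F Ev 8 524288 tw γ hfree htw q0 words 803 hw steps755 377443 48600 860 377943 48600 860 h755 chk755
  have h757 := checkSteps_sound ladd (List.replicate 6 0) leq F Ev 8 524288 tw γ hfree htw q0 words 803 hw steps756 377943 48600 860 378443 48600 860 h756 chk756
  have h758 := checkSteps_sound ladd (List.replicate 6 0) leq F Ev 8 524288 tw γ hfree htw q0 words 803 hw steps757 378443 48600 860 378943 48600 860 h757 chk757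
  have h759 := checkSteps_sound ladd (List.replicate 6 0) leq F Ev 8 524288 tw γ hfree htw q0 words 803 hw steps758 378943 48600 860 379443 48600 860 h758 chk758
  have h760 := checkSteps_sound ladd (List.replicate 6 0) leq F Ev 8 524288 tw γ hfree htw q0 words 803 hw steps759 379443 48600 860 379943 48600 860 h759 chk759
  have h761 := checkSteps_sound ladd (List.replicate 6 0) leq F Ev 8 524288 tw γ hfree htw q0 words 803 hw steps760 379943 48600 860 380443 48600 860 h760 chk760
  have h762 := checkSteps_sound ladd (List.replicate 6 0) leq F Ev 8 524288 tw γ hfree htw q0 words 803 hw steps761 380443 48600 860 380943 48600 860 h761 chk761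
  have h763 := checkSteps_sound ladd (List.replicate 6 0) leq F Ev 8 524288 tw γ hfree htw q0 words 803 hw steps762 380943 48600 860 381443 48600 860 h762 chk762
  have h764 := checkSteps_sound ladd (List.replicate 6 0) leq F Ev 8 524288 tw γ hfree htw q0 words 803 hw steps763 381443 48600 860 381943 48600 860 h763 chk763
  have h765 := checkSteps_sound ladd (List.replicate 6 0) leq F Ev 8 524288 tw γ hfree htw q0 words 803 hw steps764 381943 48600 860 382443 48600 860 h764 chk764
  have h766 := checkSteps_sound ladd (List.replicate 6 0) leq F Ev 8 524288 tw γ hfree htw q0 words 803 hw steps765 382443 48600 860 382943 48600 860 h765 chk765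
  have h767 := checkSteps_sound ladd (List.replicate 6 0) leq F Ev 8 524288 tw γ hfree htw q0 words 803 hw steps766 382943 48600 860 383443 48600 860 h766 chk766
  have h768 := checkSteps_sound ladd (List.replicate 6 0) leq F Ev 8 524288 tw γ hfree htw q0 words 803 hw steps767 383443 48600 860 383943 48600 860 h767 chk767
  have h769 := checkSteps_sound ladd (List.replicate 6 0) leq F Ev 8 524288 tw γ hfree htw q0 words 803 hw steps768 383943 48600 860 384443 48600 860 h768 chk768
  have h770 := checkSteps_sound ladd (List.replicate 6 0) leq F Ev 8 524288 tw γ hfree htw q0 words 803 hw steps769 384443 48600 860 384943 48600 860 h769 chk769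
  have h771 := checkSteps_sound ladd (List.replicate 6 0) leq F Ev 8 524288 tw γ hfree htw q0 words 803 hw steps770 384943 48600 860 385443 48600 860 h770 chk770
  have h772 := checkSteps_sound ladd (List.replicate 6 0) leq F Ev 8 524288 tw γ hfree htw q0 words 803 hw steps771 385443 48600 860 385943 48600 860 h771 chk771
  have h773 := checkSteps_sound ladd (List.replicate 6 0) leq F Ev 8 524288 tw γ hfree htw q0 words 803 hw steps772 385943 48600 860 386443 48600 860 h772 chk772
  have h774 := checkSteps_sound ladd (List.replicate 6 0) leq F Ev 8 524288 tw γ hfree htw q0 words 803 hw steps773 386443 48600 860 386943 48600 860 h773 chk773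
  have h775 := checkSteps_sound ladd (List.replicate 6 0) leq F Ev 8 524288 tw γ hfree htw q0 words 803 hw steps774 386943 48600 860 387443 48600 860 h774 chk774
  have h776 := checkSteps_sound ladd (List.replicate 6 0) leq F Ev 8 524288 tw γ hfree htw q0 words 803 hw steps775 387443 48600 860 387943 48600 860 h775 chk775
  have h777 := checkSteps_sound ladd (List.replicate 6 0) leq F Ev 8 524288 tw γ hfree htw q0 words 803 hw steps776 387943 48600 860 388443 48600 860 h776 chk776
  have h778 := checkSteps_sound ladd (List.replicate 6 0) leq F Ev 8 524288 tw γ hfree htw q0 words 803 hw steps777 388443 48600 860 388800 48600 867 h777 chk777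
  exact h778

end Cfsg.Agent.Lib.H12.Co3M.Ct
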